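import Cfsg.Agent.Lib.Linear.Aschbacher.Clifford

/-!
# The structure of irreducible groups of prime degree

An irreducible subgroup of the special linear group of odd prime degree is monomial, normalises an
extension field, contains a normal extraspecial group, or has an absolutely irreducible perfect
socle which is simple modulo scalars.
-/

set_option autoImplicit false
set_option linter.unusedSectionVars false
set_option linter.style.haveILetI false

namespace Cfsg.Lib.Linear.Asch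

open Cfsg.Geo Cfsg.Lib.Linear
open scoped Matrix MatrixGroups commutatorElement

variable {ι : Type} [Fintype ι] [DecidableEq ι] {F : Type*} [Field F]

/-- The data of an extraspecial group of order `r ^ 3` and exponent `r` with two generators. -/
structure Extra (r : ℕ) (R : Subgroup (GL ι F)) (c : F) (x y z : GL ι F) : Prop where
  symp : IsSymplecticTypeGroup r R
  absIrr : ActsAbsolutelyIrreducibly (matrixSet R)
  card : Nat.card R = r ^ 3
  card_center : Nat.card (Subgroup.center R) = r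
  prim : IsPrimitiveRoot c r
  char_ne : (r : F) ≠ 0
  mem_x : x ∈ R
  mem_y : y ∈ R
  coe_z : (z : Matrix ι ι F) = c • 1
  pow_x : x ^ r = 1
  pow_y : y ^ r = 1
  comm : y * x = z * x * y
  gen : ∀ g ∈ R, ∃ i j k : ℕ, g = x ^ i * y ^ j * z ^ k

theorem scalar_pow {z : GL ι F} {c : F} (hz : (z : Matrix ι ι F) = c • 1) (k : ℕ) :
    ((z ^ k : GL ι F) : Matrix ι ι F) = c ^ k • 1 := by
  rw [Units.val_pow_eq_pow_val, hz, smul_pow, one_pow]

theorem det_scalar {z : GL ι F} {c : F} (hz : (z : Matrix ι ι F) = c • 1)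
    (h : z ∈ specialLinear ι F) : c ^ Fintype.card ι = 1 := by
  have h1 : (z : Matrix ι ι F).det = 1 := by
    have := congrArg Units.val (MonoidHom.mem_ker.1 h)
    rw [Units.val_one] at this
    exact this
  rwa [hz, Matrix.det_smul, Matrix.det_one, mul_one] at h1

/-- A group of scalar matrices is not irreducible. -/
theorem not_irr_scalars (hn : 2 ≤ Fintype.card ι) {G : Subgroup (GL ι F)} (h : G ≤ scalars ι F) :
    ¬ ActsIrreducibly (matrixSet G) := fun hirr => by
  obtain ⟨i, j, hij⟩ := Fintype.exists_pair_of_one_lt_card (α := ι) (by omega)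
  rcases irr_iff.1 hirr (Submodule.span F {Pi.single i 1}) (fun g hg w hw => by
    obtain ⟨c, hc⟩ := (mem_scalars_iff g).1 (h hg)
    rw [hc, Matrix.smul_mulVec, Matrix.one_mulVec]
    exact Submodule.smul_mem _ _ hw) with h1 | h1
  · have h2 := h1 ▸ Submodule.mem_span_singleton_self (Pi.single i (1 : F) : ι → F)
    simp at h2
  · obtain ⟨a, ha⟩ := Submodule.mem_span_singleton.1 (h1 ▸ Submodule.mem_top (x := (Pi.single j (1 : F) : ι → F)))
    have := congrFun ha j
    simp [hij, hij.symm] at this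

/-- An element commuting modulo scalars with a group commutes with its derived group. -/
theorem comm_commutator {M : Subgroup (GL ι F)} {h : GL ι F}
    (hs : ∀ x ∈ M, h * x * h⁻¹ * x⁻¹ ∈ scalars ι F) : ∀ w ∈ ⁅M, M⁆, h * w = w * h := by
  have h1 : ⁅M, M⁆ ≤ Subgroup.centralizer ({h} : Set (GL ι F)) := by
    rw [Subgroup.commutator_le]
    intro a ha b hb
    rw [Subgroup.mem_centralizer_singleton_iff]
    have ea : h * a * h⁻¹ = (h * a * h⁻¹ * a⁻¹) * a := by group
    have eb : h * b * h⁻¹ = (h * b * h⁻¹ * b⁻¹) * b := by group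
    have ca := fun g => scalars_comm (g := g) (hs a ha)
    have cb := fun g => scalars_comm (g := g) (hs b hb)
    generalize h * a * h⁻¹ * a⁻¹ = s at ea ca
    generalize h * b * h⁻¹ * b⁻¹ = t at eb cb
    have h2 : h * ⁅a, b⁆ * h⁻¹ = ⁅a, b⁆ := by
      calc h * ⁅a, b⁆ * h⁻¹ = ⁅h * a * h⁻¹, h * b * h⁻¹⁆ := by
            simp only [commutatorElement_def]; group
        _ = ⁅s * a, t * b⁆ := by rw [ea, eb]
        _ = ⁅a, b⁆ := by
            simp only [commutatorElement_def, mul_inv_rev]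
            calc s * a * (t * b) * (a⁻¹ * s⁻¹) * (b⁻¹ * t⁻¹)
                = s * (a * t) * b * a⁻¹ * s⁻¹ * b⁻¹ * t⁻¹ := by group
              _ = s * (t * a) * b * a⁻¹ * s⁻¹ * b⁻¹ * t⁻¹ := by rw [cb a]
              _ = (s * (t * a * b * a⁻¹)) * s⁻¹ * b⁻¹ * t⁻¹ := by group
              _ = ((t * a * b * a⁻¹) * s) * s⁻¹ * b⁻¹ * t⁻¹ := by rw [ca]
              _ = (t * (a * b * a⁻¹ * b⁻¹)) * t⁻¹ := by group
              _ = ((a * b * a⁻¹ * b⁻¹) * t) * t⁻¹ := by rw [cb]
              _ = a * b * a⁻¹ * b⁻¹ := by group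
    calc ⁅a, b⁆ * h = (h * ⁅a, b⁆ * h⁻¹) * h := by rw [h2]
      _ = h * ⁅a, b⁆ := by group
  exact fun w hw => (Subgroup.mem_centralizer_singleton_iff.1 (h1 hw)).symm

theorem map_conj_normal {K : Subgroup (GL ι F)} {N : Subgroup (GL ι F)}
    (hN : ∀ g ∈ K, ∀ x ∈ N, g * x * g⁻¹ ∈ N) {g : GL ι F} (hg : g ∈ K) (x : GL ι F) :
    x ∈ N ↔ g * x * g⁻¹ ∈ N :=
  ⟨hN g hg x, fun h => by simpa [mul_assoc] using hN g⁻¹ (inv_mem hg) _ h⟩

theorem commutator_normal {K N : Subgroup (GL ι F)} (hN : ∀ g ∈ K, ∀ x ∈ N, g * x * g⁻¹ ∈ N) :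
    ∀ g ∈ K, ∀ x ∈ ⁅N, N⁆, g * x * g⁻¹ ∈ ⁅N, N⁆ := by
  intro g hg x hx
  have h1 : (⁅N, N⁆).map (MulAut.conj g).toMonoidHom ≤ ⁅N, N⁆ := by
    rw [Subgroup.map_commutator]
    refine Subgroup.commutator_mono ?_ ?_ <;>
    · rintro _ ⟨u, hu, rfl⟩
      exact hN g hg u hu
  exact h1 ⟨x, hx, rfl⟩

section ClassTwo

variable [Finite F] {H N : Subgroup (GL ι F)} {r : ℕ}

theorem linearIndependent_eigen {μ : Fin r → F} (hμ : Function.Injective μ) {b : Fin r → ι → F}
    (x : Matrix ι ι F) (hb0 : ∀ k, b k ≠ 0) (hb : ∀ k, x *ᵥ b k = μ k • b k) :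
    LinearIndependent F b :=
  Module.End.eigenvectors_linearIndependent' (Matrix.toLin' x) μ hμ b fun k =>
    Module.End.hasEigenvector_iff.2 ⟨Module.End.mem_eigenspace_iff.2 (by rw [Matrix.toLin'_apply, hb k]), hb0 k⟩

theorem exists_eigen_of_pow [Nonempty ι] {x : GL ι F} {c : F} (hc : IsPrimitiveRoot c r)
    (hr0 : (r : F) ≠ 0) (hx : x ^ r = 1) : ∃ (v : ι → F) (d : F), v ≠ 0 ∧ d ^ r = 1 ∧ x.val *ᵥ v = d • v := by
  obtain ⟨u, hu⟩ : ∃ u : ι → F, u ≠ 0 := exists_ne 0
  let w : F → (ι → F) := fun d => ∑ i ∈ Finset.range r, d ^ i • ((x ^ i).val *ᵥ u)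
  have hsum : ∑ j ∈ Finset.range r, w (c ^ j) = (r : F) • u := by
    simp only [w]
    rw [Finset.sum_comm, Finset.sum_eq_single 0]
    · simp [← Nat.cast_smul_eq_nsmul F]
    · intro i hi hi0
      rw [← Finset.sum_smul]
      have h1 : c ^ i ≠ 1 := hc.pow_ne_one_of_pos_of_lt hi0 (Finset.mem_range.1 hi)
      have h2 := geom_sum_mul (c ^ i) r
      rw [← pow_mul, mul_comm i r, pow_mul, hc.pow_eq_one, one_pow, sub_self] at h2
      rw [Finset.sum_congr rfl (fun j _ => pow_right_comm c j i), (mul_eq_zero.1 h2).resolve_right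
        (sub_ne_zero.2 h1), zero_smul]
    · intro h
      simp only [Finset.mem_range, not_lt, Nat.le_zero] at h
      subst h
      simp at hr0
  obtain ⟨j, -, hj⟩ : ∃ j ∈ Finset.range r, w (c ^ j) ≠ 0 := by
    by_contra hne
    push Not at hne
    rw [Finset.sum_eq_zero hne] at hsum
    exact smul_ne_zero hr0 hu hsum.symm
  have hd : (c ^ j) ^ r = 1 := by rw [← pow_mul, mul_comm, pow_mul, hc.pow_eq_one, one_pow]
  have hd0 : c ^ j ≠ 0 := fun h => by
    have : r ≠ 0 := fun h0 => hr0 (by rw [h0]; simp)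
    rw [h, zero_pow this] at hd
    exact zero_ne_one hd
  refine ⟨w (c ^ j), (c ^ j)⁻¹, hj, by rw [inv_pow, hd, inv_one], ?_⟩
  rw [eq_inv_smul_iff₀ hd0]
  simp only [w, Matrix.mulVec_sum, Finset.smul_sum, Matrix.mulVec_smul, smul_smul]
  let f : ℕ → (ι → F) := fun i => (c ^ j) ^ i • ((x ^ i).val *ᵥ u)
  calc _ = ∑ i ∈ Finset.range r, f (i + 1) := Finset.sum_congr rfl fun i _ => by
          simp only [f]
          rw [← mul_mulVec, ← pow_succ' x, ← pow_succ' (c ^ j)]
    _ = ∑ i ∈ Finset.range r, f i := by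
          refine add_right_cancel (b := f 0) ?_
          rw [← Finset.sum_range_succ', Finset.sum_range_succ]
          simp only [f]
          rw [hd, hx, pow_zero, pow_zero]
    _ = _ := rfl

/-- A minimal non-scalar normal subgroup with scalar derived group is extraspecial. -/
theorem class_two (hr : r.Prime) (hodd : Odd r) (hcard : Fintype.card ι = r)
    (hSL : H ≤ specialLinear ι F) (hNH : N ≤ H) (hN : ∀ g ∈ H, ∀ x ∈ N, g * x * g⁻¹ ∈ N)
    (hNs : ¬ N ≤ scalars ι F) (habs : ActsAbsolutelyIrreducibly (matrixSet N))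
    (hmin : ∀ M : Subgroup (GL ι F), M ≤ N → (∀ g ∈ H, ∀ x ∈ M, g * x * g⁻¹ ∈ M) →
      M ≤ scalars ι F ∨ M = N)
    (hcl : ⁅N, N⁆ ≤ scalars ι F) : ∃ c x y z, Extra r N c x y z := by
  classical
  haveI : Nonempty ι := Fintype.card_pos_iff.1 (hcard ▸ hr.pos)
  haveI : Finite (Matrix ι ι F) := inferInstanceAs (Finite (ι → ι → F))
  have hcomm_mem : ∀ {a b}, a ∈ N → b ∈ N → ⁅a, b⁆ ∈ scalars ι F := fun ha hb =>
    hcl (Subgroup.commutator_mem_commutator ha hb)
  have hsc : ∀ s ∈ scalars ι F, s ∈ N → ∃ d : F, d ^ r = 1 ∧ (s : Matrix ι ι F) = d • 1 := by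
    intro s hs hsN
    obtain ⟨d, hd⟩ := (mem_scalars_iff s).1 hs
    exact ⟨d, hcard ▸ det_scalar hd (hSL (hNH hsN)), hd⟩
  -- a non-central pair
  obtain ⟨y, hy, hys⟩ := SetLike.not_le_iff_exists.1 hNs
  obtain ⟨x, hx, hxy⟩ : ∃ x ∈ N, y * x ≠ x * y := by
    by_contra hne
    push Not at hne
    exact hys (absIrr_center habs hne)
  set z : GL ι F := ⁅y, x⁆ with hzdef
  obtain ⟨c, hcr, hzc⟩ := hsc z (hcomm_mem hy hx) (Subgroup.commutator_le_self N
    (Subgroup.commutator_mem_commutator hy hx))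
  have hz1 : z ≠ 1 := fun h => hxy (commutatorElement_eq_one_iff_mul_comm.1 h)
  have hc1 : c ≠ 1 := by
    rintro rfl
    exact hz1 (Units.ext (by rw [hzc, one_smul, Units.val_one]))
  haveI := Fact.mk hr
  have hc : IsPrimitiveRoot c r := by
    have h1 := IsPrimitiveRoot.orderOf c
    rwa [orderOf_eq_prime hcr hc1] at h1
  have hr0 : (r : F) ≠ 0 := fun h => by
    haveI : CharP F r := (CharP.charP_iff_prime_eq_zero hr).2 h
    have h1 : (c - 1) ^ r = 0 := by rw [sub_pow_char, hcr, one_pow, sub_self]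
    exact hc1 (sub_eq_zero.1 (pow_eq_zero_iff hr.ne_zero |>.1 h1))
  have hzcomm : ∀ g : GL ι F, Commute z g := fun g => (scalars_comm (hcomm_mem hy hx)).symm
  have hzN : z ∈ N := Subgroup.commutator_le_self N (Subgroup.commutator_mem_commutator hy hx)
  have hzr : z ^ r = 1 := Units.ext (by rw [scalar_pow hzc, hcr, one_smul, Units.val_one])
  have hscal : ∀ s ∈ scalars ι F, s ∈ N → ∃ k, k < r ∧ s = z ^ k := by
    intro s hs hsN
    obtain ⟨d, hd, hd'⟩ := hsc s hs hsN
    haveI : NeZero r := ⟨hr.ne_zero⟩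
    obtain ⟨k, hk, hk'⟩ := hc.eq_pow_of_pow_eq_one hd
    exact ⟨k, hk, Units.ext (by rw [hd', scalar_pow hzc, hk'])⟩
  -- exponent
  have hpow : ∀ a ∈ N, a ^ r ∈ scalars ι F := by
    intro a ha
    refine absIrr_center habs fun b hb => ?_
    obtain ⟨k, -, hk⟩ := hscal _ (hcomm_mem hb ha) (Subgroup.commutator_le_self N
      (Subgroup.commutator_mem_commutator hb ha))
    have h1 : b * a * b⁻¹ = z ^ k * a := by rw [← hk, commutatorElement_def]; group
    have h2 : b * a ^ r * b⁻¹ = a ^ r := by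
      rw [← conj_pow, h1, ((hzcomm a).pow_left k).mul_pow, ← pow_mul, mul_comm k r, pow_mul, hzr,
        one_pow, one_mul]
    calc a ^ r * b = (b * a ^ r * b⁻¹) * b := by rw [h2]
      _ = b * a ^ r := by group
  have hmulpow : ∀ a ∈ N, ∀ b ∈ N, (a * b) ^ r = a ^ r * b ^ r := by
    intro a ha b hb
    obtain ⟨k, -, hk⟩ := hscal _ (hcomm_mem hb ha) (Subgroup.commutator_le_self N
      (Subgroup.commutator_mem_commutator hb ha))
    have hba : b * a = z ^ k * a * b := by rw [← hk, commutatorElement_def]; group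
    have hzk : ∀ g : GL ι F, ∀ m, Commute (z ^ m) g := fun g m => (hzcomm g).pow_left m
    have hbm : ∀ m : ℕ, b ^ m * a = z ^ (k * m) * a * b ^ m := by
      intro m
      induction m with
      | zero => simp
      | succ m ih =>
        calc b ^ (m + 1) * a = b ^ m * (b * a) := by rw [pow_succ, mul_assoc]
          _ = b ^ m * z ^ k * a * b := by rw [hba]; group
          _ = z ^ k * b ^ m * a * b := by rw [(hzk (b ^ m) k).eq]
          _ = z ^ k * (b ^ m * a) * b := by group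
          _ = z ^ (k * (m + 1)) * a * b ^ (m + 1) := by
              rw [ih, mul_add, mul_one, add_comm, pow_add, pow_succ]
              simp only [mul_assoc]
    have hgen : ∀ m : ℕ, ∃ t : ℕ, 2 * t = k * (m * (m - 1)) ∧ (a * b) ^ m = z ^ t * (a ^ m * b ^ m) := by
      intro m
      induction m with
      | zero => exact ⟨0, by simp, by simp⟩
      | succ m ih =>
        obtain ⟨t, ht, ht'⟩ := ih
        refine ⟨t + k * m, ?_, ?_⟩
        · rcases m with _ | m
          · simp only [Nat.zero_sub, mul_zero, zero_add] at ht ⊢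
            omega
          · simp only [Nat.add_sub_cancel] at ht ⊢
            linear_combination ht
        · calc (a * b) ^ (m + 1) = z ^ t * a ^ m * (b ^ m * a) * b := by rw [pow_succ, ht']; group
            _ = z ^ t * a ^ m * z ^ (k * m) * a * b ^ m * b := by rw [hbm]; group
            _ = z ^ t * (z ^ (k * m) * a ^ m) * a * b ^ m * b := by
                rw [(hzk (a ^ m) (k * m)).eq]; group
            _ = z ^ (t + k * m) * (a ^ (m + 1) * b ^ (m + 1)) := by
                rw [pow_add, pow_succ, pow_succ]; simp only [mul_assoc]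
    obtain ⟨t, ht, ht'⟩ := hgen r
    obtain ⟨s, hs⟩ := hodd
    have ht2 : t = r * (k * s) := by
      have h3 : r - 1 = 2 * s := by omega
      rw [h3] at ht
      have h4 : 2 * t = 2 * (r * (k * s)) := by rw [ht]; ring
      omega
    rw [ht', ht2, pow_mul, hzr, one_pow, one_mul]
  let K0 : Subgroup (GL ι F) :=
    { carrier := {a | a ∈ N ∧ a ^ r = 1}
      mul_mem' := fun {a b} ha hb => ⟨mul_mem ha.1 hb.1, by rw [hmulpow a ha.1 b hb.1, ha.2, hb.2, one_mul]⟩
      one_mem' := ⟨one_mem _, one_pow _⟩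
      inv_mem' := fun {a} ha => ⟨inv_mem ha.1, by rw [inv_pow, ha.2, inv_one]⟩ }
  have hexp : ∀ a ∈ N, a ^ r = 1 := by
    rcases hmin K0 (fun a ha => ha.1) (fun g hg a ha => ⟨hN g hg a ha.1, by
      rw [conj_pow, ha.2, mul_one, mul_inv_cancel]⟩) with h | h
    · exfalso
      obtain ⟨i, -, hi⟩ := hscal _ (hpow y hy) (pow_mem hy r)
      obtain ⟨k, -, hk⟩ := hscal _ (hpow x hx) (pow_mem hx r)
      have hkey : ∀ a ∈ N, ∀ b ∈ N, ∀ m : ℕ, (a ^ r) = (b ^ r) ^ m → a * b = b * a := by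
        intro a ha b hb m hab
        have h1 : a * (b ^ m)⁻¹ ∈ K0 := ⟨mul_mem ha (inv_mem (pow_mem hb m)), by
          rw [hmulpow a ha _ (inv_mem (pow_mem hb m)), inv_pow, ← pow_mul, mul_comm m r, pow_mul, ← hab,
            mul_inv_cancel]⟩
        have h2 := scalars_comm (g := b) (h h1)
        have h3 : a = a * (b ^ m)⁻¹ * b ^ m := by group
        calc a * b = a * (b ^ m)⁻¹ * (b ^ m * b) := by group
          _ = a * (b ^ m)⁻¹ * (b * b ^ m) := by rw [← pow_succ, ← pow_succ']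
          _ = (b * (a * (b ^ m)⁻¹)) * b ^ m := by rw [h2]; group
          _ = b * a := by rw [mul_assoc, ← h3]
      have hk0 : ∀ j, z ^ j = 1 ∨ ∀ i, ∃ m, z ^ i = (z ^ j) ^ m := by
        intro j
        by_cases hj : z ^ j = 1
        · exact Or.inl hj
        · refine Or.inr fun i => ?_
          have hord : orderOf z = r := orderOf_eq_prime hzr hz1
          have hju : ¬ r ∣ j := fun hd => hj (by
            obtain ⟨q, rfl⟩ := hd
            rw [pow_mul, hzr, one_pow])
          obtain ⟨m, -, hm⟩ := Nat.exists_mul_mod_eq_one_of_coprime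
            ((hr.coprime_iff_not_dvd.2 hju).symm) hr.one_lt
          refine ⟨m * i, ?_⟩
          rw [← pow_mul, ← mul_assoc, pow_mul]
          congr 1
          rw [← pow_mod_orderOf, hord, hm, pow_one]
      rcases hk0 k with h0 | h0
      · refine hxy (hkey x hx y hy 0 ?_).symm
        rw [pow_zero, hk, h0]
      · obtain ⟨m, hm⟩ := h0 i
        exact hxy (hkey y hy x hx m (by rw [hi, hk, hm]))
    · exact fun a ha => by
        rw [← h] at ha
        exact ha.2
  have hxr := hexp x hx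
  have hyr := hexp y hy
  have hyx : y * x = z * x * y := by rw [hzdef, commutatorElement_def]; group
  -- eigenbasis
  obtain ⟨v, d, hv, hd, hxv⟩ := exists_eigen_of_pow hc hr0 hxr
  have hd0 : d ≠ 0 := fun h => by rw [h, zero_pow hr.ne_zero] at hd; exact zero_ne_one hd
  have hyk : ∀ k : ℕ, y ^ k * x = z ^ k * x * y ^ k := by
    intro k
    induction k with
    | zero => simp
    | succ k ih =>
      calc y ^ (k + 1) * x = y * (y ^ k * x) := by rw [pow_succ', mul_assoc]
        _ = y * z ^ k * x * y ^ k := by rw [ih]; group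
        _ = z ^ k * y * x * y ^ k := by rw [((hzcomm y).pow_left k).eq]
        _ = z ^ k * (y * x) * y ^ k := by group
        _ = z ^ (k + 1) * x * y ^ (k + 1) := by rw [hyx, pow_succ, pow_succ']; simp only [mul_assoc]
  have hc0 : c ≠ 0 := hc.ne_zero hr.ne_zero
  let b : Fin r → (ι → F) := fun k => (y ^ (k : ℕ)).val *ᵥ v
  let μ : Fin r → F := fun k => d * (c ^ (k : ℕ))⁻¹
  have hxb : ∀ k, x.val *ᵥ b k = μ k • b k := by
    intro k
    have h1 : (y ^ (k : ℕ) * x).val *ᵥ v = (z ^ (k : ℕ) * x * y ^ (k : ℕ)).val *ᵥ v := by rw [hyk]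
    rw [mul_mulVec, hxv, mul_mulVec, mul_mulVec, scalar_pow hzc, Matrix.smul_mulVec, Matrix.one_mulVec,
      Matrix.mulVec_smul] at h1
    simp only [b, μ]
    rw [mul_comm d, ← smul_smul, eq_inv_smul_iff₀ (pow_ne_zero _ hc0)]
    exact h1.symm
  have hμ : Function.Injective μ := fun i j hij => by
    simp only [μ] at hij
    exact Fin.ext (hc.pow_inj i.2 j.2 (inv_injective (mul_left_cancel₀ hd0 hij)))
  have hb0 : ∀ k, b k ≠ 0 := fun k => move_ne_zero _ hv
  have hli := linearIndependent_eigen hμ x.val hb0 hxb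
  haveI : NeZero r := ⟨hr.ne_zero⟩
  let B := basisOfLinearIndependentOfCardEqFinrank hli
    (by rw [Fintype.card_fin, Module.finrank_fintype_fun_eq_card, hcard])
  have hB : ∀ k, B k = b k := fun k => congrFun (coe_basisOfLinearIndependentOfCardEqFinrank hli _) k
  have hscalar_of : ∀ g : GL ι F, g * x = x * g → g * y = y * g → g ∈ scalars ι F := by
    intro g hgx hgy
    have h0 : b 0 = v := by simp [b]
    have h1 : ∀ k, k ≠ 0 → B.repr (g.val *ᵥ v) k = 0 := by
      intro k hk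
      have e : x.val *ᵥ (g.val *ᵥ v) = d • (g.val *ᵥ v) := by
        rw [← mul_mulVec, ← hgx, mul_mulVec, hxv, Matrix.mulVec_smul]
      have e2 : x.val *ᵥ (g.val *ᵥ v) = ∑ j, (B.repr (g.val *ᵥ v) j * μ j) • B j := by
        conv_lhs => rw [← B.sum_repr (g.val *ᵥ v)]
        rw [Matrix.mulVec_sum]
        exact Finset.sum_congr rfl fun j _ => by rw [Matrix.mulVec_smul, hB, hxb, smul_smul]
      have e3 := congrArg (fun w => B.repr w k) (e.symm.trans e2)
      simp only [B.repr_sum_self, map_smul, Finsupp.smul_apply, smul_eq_mul] at e3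
      by_contra hne
      have e4 : μ k = μ 0 := by
        have : d = μ k := mul_left_cancel₀ hne (by rw [← e3, mul_comm])
        rw [← this]; simp [μ]
      exact hk (hμ e4)
    have h2 : g.val *ᵥ v = B.repr (g.val *ᵥ v) 0 • v := by
      conv_lhs => rw [← B.sum_repr (g.val *ᵥ v)]
      rw [Finset.sum_eq_single 0 (fun k _ hk => by rw [h1 k hk, zero_smul])
        (fun h => absurd (Finset.mem_univ _) h), hB, h0]
    refine mem_scalars_of_smul (c := B.repr (g.val *ᵥ v) 0) (Matrix.toLin'.injective (B.ext fun k => ?_))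
    rw [Matrix.toLin'_apply, Matrix.toLin'_apply, hB, Matrix.smul_mulVec, Matrix.one_mulVec]
    simp only [b]
    rw [← mul_mulVec, (Commute.pow_right hgy _).eq, mul_mulVec]
    conv_lhs => rw [h2]
    rw [Matrix.mulVec_smul]
  have hxy' : ∀ i : ℕ, y * x ^ i = z ^ i * x ^ i * y := by
    intro i
    induction i with
    | zero => simp
    | succ i ih =>
      calc y * x ^ (i + 1) = (y * x ^ i) * x := by rw [pow_succ, mul_assoc]
        _ = z ^ i * x ^ i * (y * x) := by rw [ih]; group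
        _ = z ^ i * (x ^ i * z) * x * y := by rw [hyx]; group
        _ = z ^ i * (z * x ^ i) * x * y := by rw [(hzcomm (x ^ i)).eq]
        _ = z ^ (i + 1) * x ^ (i + 1) * y := by rw [pow_succ, pow_succ]; simp only [mul_assoc]
  have hgen : ∀ g ∈ N, ∃ i j k : Fin r, g = x ^ (i : ℕ) * y ^ (j : ℕ) * z ^ (k : ℕ) := by
    intro g hg
    obtain ⟨a, ha, hga⟩ := hscal _ (hcomm_mem hg hx) (Subgroup.commutator_le_self N
      (Subgroup.commutator_mem_commutator hg hx))
    obtain ⟨e, he, hge⟩ := hscal _ (hcomm_mem hg hy) (Subgroup.commutator_le_self N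
      (Subgroup.commutator_mem_commutator hg hy))
    have hgx : g * x = z ^ a * x * g := by rw [← hga, commutatorElement_def]; group
    have hgy : g * y = z ^ e * y * g := by rw [← hge, commutatorElement_def]; group
    set i := (r - e) % r with hi
    have hie : z ^ i * z ^ e = 1 := by
      rw [hi, pow_eq_pow_mod (r - e) hzr |>.symm, ← pow_add, Nat.sub_add_cancel he.le, hzr]
    set t := x ^ i * y ^ a with ht
    have htx : t * x = z ^ a * x * t := by
      calc t * x = x ^ i * (y ^ a * x) := by rw [ht, mul_assoc]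
        _ = x ^ i * z ^ a * x * y ^ a := by rw [hyk]; group
        _ = z ^ a * x ^ i * x * y ^ a := by rw [((hzcomm (x ^ i)).pow_left a).eq]
        _ = z ^ a * x * t := by rw [ht]; group
    have hty : t * y = z ^ e * y * t := by
      have h3 : z ^ e * (y * x ^ i) = x ^ i * y := by
        rw [hxy', ← mul_assoc, ← mul_assoc, ← ((hzcomm (z ^ e)).pow_left i).eq, hie, one_mul]
      calc t * y = (x ^ i * y) * y ^ a := by rw [ht]; group
        _ = z ^ e * y * t := by rw [← h3, ht]; group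
    have htg : ∀ w s : GL ι F, g * w = s * w * g → t * w = s * w * t →
        t⁻¹ * g * w = w * (t⁻¹ * g) := by
      intro w s h3 h4
      calc t⁻¹ * g * w = t⁻¹ * (g * w) := by group
        _ = t⁻¹ * (s * w * t) * (t⁻¹ * g) := by rw [h3]; group
        _ = t⁻¹ * (t * w) * (t⁻¹ * g) := by rw [h4]
        _ = w * (t⁻¹ * g) := by group
    obtain ⟨k, hk, hk'⟩ := hscal _ (hscalar_of _ (htg x _ hgx htx) (htg y _ hgy hty))
      (mul_mem (inv_mem (mul_mem (pow_mem hx i) (pow_mem hy a))) hg)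
    refine ⟨⟨i, Nat.mod_lt _ hr.pos⟩, ⟨a, ha⟩, ⟨k, hk⟩, ?_⟩
    show g = x ^ i * y ^ a * z ^ k
    rw [← hk', ← ht]; group
  let φ : Fin r × Fin r × Fin r → N := fun p =>
    ⟨x ^ (p.1 : ℕ) * y ^ (p.2.1 : ℕ) * z ^ (p.2.2 : ℕ),
      mul_mem (mul_mem (pow_mem hx _) (pow_mem hy _)) (pow_mem hzN _)⟩
  have hzinj : ∀ i j : Fin r, z ^ (i : ℕ) = z ^ (j : ℕ) → i = j := fun i j h => by
    have h1 := congrArg Units.val h
    rw [scalar_pow hzc, scalar_pow hzc] at h1
    have h2 := congrFun (congrFun h1 (Classical.arbitrary ι)) (Classical.arbitrary ι)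
    simp at h2
    exact Fin.ext (hc.pow_inj i.2 j.2 h2)
  have hφ : Function.Bijective φ := by
    refine ⟨?_, fun g => ?_⟩
    · rintro ⟨i, j, k⟩ ⟨i', j', k'⟩ h
      have h' : x ^ (i : ℕ) * y ^ (j : ℕ) * z ^ (k : ℕ) = x ^ (i' : ℕ) * y ^ (j' : ℕ) * z ^ (k' : ℕ) :=
        congrArg Subtype.val h
      have hx' : ∀ i j k : ℕ, x ^ i * y ^ j * z ^ k * x = z ^ j * x * (x ^ i * y ^ j * z ^ k) := by
        intro i j k
        calc x ^ i * y ^ j * z ^ k * x = x ^ i * y ^ j * (z ^ k * x) := by group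
          _ = x ^ i * y ^ j * (x * z ^ k) := by rw [((hzcomm x).pow_left k).eq]
          _ = x ^ i * (y ^ j * x) * z ^ k := by group
          _ = (x ^ i * z ^ j) * x * y ^ j * z ^ k := by rw [hyk]; group
          _ = z ^ j * x * (x ^ i * y ^ j * z ^ k) := by
              rw [← ((hzcomm (x ^ i)).pow_left j).eq]; group
      have hjj : j = j' := by
        refine hzinj j j' (mul_right_cancel (b := x * (x ^ (i' : ℕ) * y ^ (j' : ℕ) * z ^ (k' : ℕ))) ?_)
        calc z ^ (j : ℕ) * (x * (x ^ (i' : ℕ) * y ^ (j' : ℕ) * z ^ (k' : ℕ)))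
            = z ^ (j : ℕ) * x * (x ^ (i : ℕ) * y ^ (j : ℕ) * z ^ (k : ℕ)) := by rw [h']; group
          _ = _ := by rw [← hx', h', hx']; group
      subst hjj
      have hy' : ∀ i k : ℕ, y * (x ^ i * z ^ k) = z ^ i * (x ^ i * z ^ k) * y := by
        intro i k
        calc y * (x ^ i * z ^ k) = z ^ i * x ^ i * (y * z ^ k) := by rw [← mul_assoc, hxy']; group
          _ = _ := by rw [← ((hzcomm y).pow_left k).eq]; group
      have h'' : x ^ (i : ℕ) * z ^ (k : ℕ) = x ^ (i' : ℕ) * z ^ (k' : ℕ) := by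
        have h3 : x ^ (i : ℕ) * y ^ (j : ℕ) * z ^ (k : ℕ) * (y ^ (j : ℕ))⁻¹ =
            x ^ (i' : ℕ) * y ^ (j : ℕ) * z ^ (k' : ℕ) * (y ^ (j : ℕ))⁻¹ := by rw [h']
        rwa [mul_assoc (x ^ (i : ℕ)), ← ((hzcomm _).pow_left (k : ℕ)).eq, mul_assoc, mul_assoc,
          mul_inv_cancel, mul_one, mul_assoc (x ^ (i' : ℕ)), ← ((hzcomm _).pow_left (k' : ℕ)).eq,
          mul_assoc, mul_assoc, mul_inv_cancel, mul_one] at h3
      have hii : i = i' := by
        refine hzinj i i' (mul_right_cancel (b := x ^ (i' : ℕ) * z ^ (k' : ℕ) * y) ?_)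
        calc z ^ (i : ℕ) * (x ^ (i' : ℕ) * z ^ (k' : ℕ) * y) = z ^ (i : ℕ) * (x ^ (i : ℕ) * z ^ (k : ℕ)) * y := by
              rw [h'']; group
          _ = _ := by rw [← hy', h'', hy']; group
      subst hii
      rw [hzinj k k' (mul_left_cancel h'')]
    · obtain ⟨i, j, k, hg⟩ := hgen g g.2
      exact ⟨(i, j, k), Subtype.ext hg.symm⟩
  have hcardN : Nat.card N = r ^ 3 := by
    rw [← Nat.card_congr (Equiv.ofBijective φ hφ)]
    simp [pow_succ, mul_assoc]
  have hcenter : ∀ g : N, g ∈ Subgroup.center N → ∃ k, k < r ∧ (g : GL ι F) = z ^ k := fun g hg =>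
    hscal _ (absIrr_center habs fun a ha =>
      (congrArg Subtype.val (Subgroup.mem_center_iff.1 hg ⟨a, ha⟩)).symm) g.2
  have hcc : Nat.card (Subgroup.center N) = r := by
    let ψ : Fin r → Subgroup.center N := fun k => ⟨⟨z ^ (k : ℕ), pow_mem hzN _⟩,
      Subgroup.mem_center_iff.2 fun a => Subtype.ext (((hzcomm (a : GL ι F)).pow_left _).eq).symm⟩
    have hψ : Function.Bijective ψ := by
      refine ⟨fun i j h => hzinj i j (congrArg (fun w : Subgroup.center N => ((w : N) : GL ι F)) h), fun g => ?_⟩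
      obtain ⟨k, hk, hk'⟩ := hcenter g g.2
      exact ⟨⟨k, hk⟩, Subtype.ext (Subtype.ext hk'.symm)⟩
    rw [← Nat.card_congr (Equiv.ofBijective ψ hψ), Nat.card_fin]
  refine ⟨c, x, y, z, ⟨hr, IsPGroup.of_card hcardN, fun A hA hA' => ?_, ?_⟩, habs, hcardN, hcc, hc, hr0,
    hx, hy, hzc, hxr, hyr, hyx, fun g hg => ?_⟩
  · -- characteristic abelian subgroups
    have hAc : A ≤ Subgroup.center N := by
      have hnorm : ∀ g ∈ H, ∀ a ∈ A.map N.subtype, g * a * g⁻¹ ∈ A.map N.subtype := by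
        rintro g hg _ ⟨a, ha, rfl⟩
        let α : MulAut N :=
          { toFun := fun u => ⟨g * u * g⁻¹, hN g hg u u.2⟩
            invFun := fun u => ⟨g⁻¹ * u * g, by simpa using hN g⁻¹ (inv_mem hg) u u.2⟩
            left_inv := fun u => Subtype.ext (by simp [mul_assoc])
            right_inv := fun u => Subtype.ext (by simp [mul_assoc])
            map_mul' := fun u w => Subtype.ext (by simp [mul_assoc]) }
        exact ⟨α a, by
          have := Subgroup.characteristic_iff_map_le.1 hA α ⟨a, ha, rfl⟩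
          exact this, rfl⟩
      rcases hmin _ (by rintro _ ⟨a, -, rfl⟩; exact a.2) hnorm with h | h
      · intro a ha
        refine Subgroup.mem_center_iff.2 fun u => Subtype.ext ?_
        exact scalars_comm (g := (u : GL ι F)) (h ⟨a, ha, rfl⟩)
      · exfalso
        obtain ⟨a, ha, ha'⟩ := (h.symm ▸ hx : x ∈ A.map N.subtype)
        obtain ⟨b, hb, hb'⟩ := (h.symm ▸ hy : y ∈ A.map N.subtype)
        refine hxy ?_
        rw [← ha', ← hb']
        exact congrArg (fun w : A => ((w : N) : GL ι F)) (hA'.is_comm.comm ⟨b, hb⟩ ⟨a, ha⟩)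
    haveI : IsCyclic (Subgroup.center N) := isCyclic_of_prime_card hcc
    exact isCyclic_of_injective _ (Subgroup.inclusion_injective hAc)
  · have hdvd : Monoid.exponent N ∣ r := Monoid.exponent_dvd_of_forall_pow_eq_one fun g => Subtype.ext (by
      rw [Subgroup.coe_pow, hexp g g.2]; rfl)
    have hg2 : Nat.gcd 2 r = 1 := Nat.coprime_two_left.2 hodd
    rw [hg2, mul_one]
    rcases (Nat.dvd_prime hr).1 hdvd with h | h
    · exfalso
      haveI : Subsingleton N := Monoid.exp_eq_one_iff.1 h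
      exact hxy (congrArg Subtype.val (Subsingleton.elim (⟨y * x, mul_mem hy hx⟩ : N) ⟨x * y, mul_mem hx hy⟩))
    · exact h
  · obtain ⟨i, j, k, h⟩ := hgen g hg
    exact ⟨i, j, k, h⟩

end ClassTwo

/-- The possible shapes of an irreducible group of prime degree. -/
theorem core_cases [Finite F] {H : Subgroup (GL ι F)} {r : ℕ} (hr : r.Prime) (hodd : Odd r)
    (hcard : Fintype.card ι = r) (hSL : H ≤ specialLinear ι F) (hirr : ActsIrreducibly (matrixSet H)) :
    (∃ D : Fin r → Submodule F (ι → F), IsMDecomposition 1 D ∧ H ≤ decompositionStabilizer D ∧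
      ∃ N ≤ H, Separated N D) ∨
    (∃ K, IsFieldSubalgebra r K ∧ H ≤ subalgebraNormalizer K ∧
      ∃ N ≤ H, K = Subalgebra.centralizer F (matrixSet N)) ∨
    (∃ R c x y z, R ≤ H ∧ (∀ g ∈ H, ∀ a ∈ R, g * a * g⁻¹ ∈ R) ∧ Extra r R c x y z) ∨
    ∃ P : Subgroup (GL ι F), P ≤ H ∧ (∀ g ∈ H, ∀ a ∈ P, g * a * g⁻¹ ∈ P) ∧ ⁅P, P⁆ = P ∧
      IsSimpleGroup (P ⧸ (scalars ι F).subgroupOf P) ∧
      ¬ IsMulCommutative (P ⧸ (scalars ι F).subgroupOf P) ∧
      (∀ h ∈ H, (∀ x ∈ P, h * x * h⁻¹ * x⁻¹ ∈ scalars ι F) → h ∈ scalars ι F) ∧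
      ActsAbsolutelyIrreducibly (matrixSet P) := by
  classical
  haveI : Nonempty ι := Fintype.card_pos_iff.1 (hcard ▸ hr.pos)
  haveI : Finite (Matrix ι ι F) := inferInstanceAs (Finite (ι → ι → F))
  let S : Subgroup (GL ι F) → Prop := fun N =>
    N ≤ H ∧ (∀ g ∈ H, ∀ x ∈ N, g * x * g⁻¹ ∈ N) ∧ ¬ N ≤ scalars ι F
  have hSH : S H := ⟨le_rfl, fun g hg x hx => mul_mem (mul_mem hg hx) (inv_mem hg),
    fun h => not_irr_scalars (hcard ▸ hr.two_le) h hirr⟩
  have hex : ∃ n, ∃ N, S N ∧ Nat.card N = n := ⟨_, H, hSH, rfl⟩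
  obtain ⟨N, ⟨hNH, hN, hNs⟩, hNc⟩ := Nat.find_spec hex
  have hmin : ∀ M : Subgroup (GL ι F), M ≤ N → (∀ g ∈ H, ∀ x ∈ M, g * x * g⁻¹ ∈ M) →
      M ≤ scalars ι F ∨ M = N := fun M hM hMn => by
    by_cases h : M ≤ scalars ι F
    · exact Or.inl h
    · refine Or.inr (Subgroup.eq_of_le_of_card_ge hM ?_)
      rw [hNc]
      exact Nat.find_min' hex ⟨M, ⟨hM.trans hNH, hMn, h⟩, rfl⟩
  rcases clifford_prime hr hcard hirr hN with h | h | ⟨D, hD, hle, -, hsep⟩
  · exact absurd h hNs
  swap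
  · exact Or.inl ⟨D, hD, hle, N, hNH, hsep⟩
  rcases absIrr_or_field hr hcard h with habs | hK
  swap
  · exact Or.inr (Or.inl ⟨_, hK, fun g hg => mem_normalizer_centralizer (map_conj_normal hN hg), N, hNH, rfl⟩)
  rcases hmin ⁅N, N⁆ (Subgroup.commutator_le_self N) (commutator_normal hN) with hcl | hperf
  · obtain ⟨c, x, y, z, hR⟩ := class_two hr hodd hcard hSL hNH hN hNs habs hmin hcl
    exact Or.inr (Or.inr (Or.inl ⟨N, c, x, y, z, hNH, hN, hR⟩))
  have hnc : ¬ ⁅N, N⁆ ≤ scalars ι F := hperf.symm ▸ hNs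
  -- normal subgroups of N are scalar or everything
  have hsimple : ∀ M : Subgroup (GL ι F), M ≤ N → (∀ g ∈ N, ∀ x ∈ M, g * x * g⁻¹ ∈ M) →
      ¬ M ≤ scalars ι F → M = N := by
    intro M hMN hMn hMs
    let T : Subgroup (GL ι F) → Prop := fun X =>
      X ≤ M ∧ (∀ g ∈ N, ∀ x ∈ X, g * x * g⁻¹ ∈ X) ∧ ¬ X ≤ scalars ι F
    have hexT : ∃ n, ∃ X, T X ∧ Nat.card X = n := ⟨_, M, ⟨le_rfl, hMn, hMs⟩, rfl⟩
    obtain ⟨M1, ⟨hM1M, hM1n, hM1s⟩, hM1c⟩ := Nat.find_spec hexT
    have hM1N : M1 ≤ N := hM1M.trans hMN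
    by_cases hall : ∀ g ∈ H, ∀ x ∈ M1, g * x * g⁻¹ ∈ M1
    · rcases hmin M1 hM1N hall with h1 | h1
      · exact absurd h1 hM1s
      · exact le_antisymm hMN (h1 ▸ hM1M)
    exfalso
    let cj : GL ι F → Subgroup (GL ι F) := fun g => M1.map (MulAut.conj g).toMonoidHom
    have mem_cj : ∀ g u, u ∈ cj g ↔ g⁻¹ * u * g ∈ M1 := fun g u =>
      ⟨fun ⟨a, ha, e⟩ => e ▸ (by simpa [mul_assoc] using ha),
        fun h => ⟨_, h, by simp [mul_assoc]⟩⟩
    have cjN : ∀ g ∈ H, cj g ≤ N := fun g hg u hu => by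
      rw [mem_cj] at hu
      exact (map_conj_normal hN (inv_mem hg) u).2 (by rw [inv_inv]; exact hM1N hu)
    have cjn : ∀ g ∈ H, ∀ k ∈ N, ∀ u ∈ cj g, k * u * k⁻¹ ∈ cj g := fun g hg k hk u hu => by
      rw [mem_cj] at hu ⊢
      have h1 : g⁻¹ * k * g ∈ N := by simpa using hN g⁻¹ (inv_mem hg) k hk
      convert hM1n _ h1 _ hu using 1
      group
    have cjs : ∀ g, ¬ cj g ≤ scalars ι F := fun g hle => hM1s fun a ha => by
      have h1 := (scalars_normal (ι := ι) (F := F)).conj_mem _ (hle ⟨a, ha, rfl⟩) g⁻¹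
      simpa [mul_assoc] using h1
    have cjc : ∀ g, Nat.card (cj g) = Nat.card M1 := fun g =>
      (Nat.card_congr (M1.equivMapOfInjective _ (MulAut.conj g).injective).toEquiv).symm
    have cjmin : ∀ g ∈ H, ∀ X ≤ cj g, (∀ k ∈ N, ∀ u ∈ X, k * u * k⁻¹ ∈ X) →
        X ≤ scalars ι F ∨ X = cj g := by
      intro g hg X hX hXn
      by_cases hXs : X ≤ scalars ι F
      · exact Or.inl hXs
      refine Or.inr (Subgroup.eq_of_le_of_card_ge hX ?_)
      rw [cjc, hM1c]
      have hXc : Nat.card (X.map (MulAut.conj g⁻¹).toMonoidHom) = Nat.card X :=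
        (Nat.card_congr (X.equivMapOfInjective _ (MulAut.conj g⁻¹).injective).toEquiv).symm
      rw [← hXc]
      refine Nat.find_min' hexT ⟨_, ⟨?_, ?_, ?_⟩, rfl⟩
      · rintro _ ⟨u, hu, rfl⟩
        refine hM1M ?_
        simpa using (mem_cj g u).1 (hX hu)
      · rintro k hk _ ⟨u, hu, rfl⟩
        refine ⟨g * k * g⁻¹ * u * (g * k * g⁻¹)⁻¹, hXn _ (hN g hg k hk) u hu, ?_⟩
        simp [mul_assoc]
      · intro hle
        refine hXs fun u hu => ?_
        have h1 := (scalars_normal (ι := ι) (F := F)).conj_mem _ (hle ⟨u, hu, rfl⟩) g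
        simpa [mul_assoc] using h1
    have comm_le : ∀ g ∈ H, ∀ g' ∈ H, cj g ≠ cj g' → ∀ a ∈ cj g, ∀ b ∈ cj g',
        a * b * a⁻¹ * b⁻¹ ∈ scalars ι F := by
      intro g hg g' hg' hne a ha b hb
      rcases cjmin g hg (cj g ⊓ cj g') inf_le_left (fun k hk u hu => ⟨cjn g hg k hk u hu.1, cjn g' hg' k hk u hu.2⟩)
        with h1 | h1
      · refine h1 (Subgroup.mem_inf.2 ⟨?_, mul_mem (cjn g' hg' a (cjN g hg ha) b hb) (inv_mem hb)⟩)
        have : a * b * a⁻¹ * b⁻¹ = a * (b * a⁻¹ * b⁻¹) := by group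
        rw [this]
        exact mul_mem ha (cjn g hg b (cjN g' hg' hb) _ (inv_mem ha))
      · exact absurd (Subgroup.eq_of_le_of_card_ge (h1 ▸ inf_le_right) (by rw [cjc, cjc])) hne
    -- the derived group of each conjugate is scalar
    have hder : ∀ g ∈ H, ⁅cj g, cj g⁆ ≤ scalars ι F := by
      intro g hg
      rcases cjmin g hg ⁅cj g, cj g⁆ (Subgroup.commutator_le_self _)
        (commutator_normal (cjn g hg)) with h1 | h1
      · exact h1
      exfalso
      push Not at hall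
      obtain ⟨k, hk, a, ha, hka⟩ := hall
      have hne : cj (g * k) ≠ cj g := by
        intro e
        have h2 : g * (k * a * k⁻¹) * g⁻¹ ∈ cj (g * k) := by rw [mem_cj]; simpa [mul_assoc] using ha
        rw [e, mem_cj] at h2
        exact hka (by simpa [mul_assoc] using h2)
      have hgk : g * k ∈ H := mul_mem hg hk
      rcases clifford_prime hr hcard habs.1 (cjn g hg) with h2 | h2 | ⟨D, -, -, hcm, -⟩
      · exact cjs g h2
      · obtain ⟨⟨hCcomm, -, -⟩, -⟩ := centralizer_field h2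
        have hmemC : ∀ u ∈ cj (g * k), (u : Matrix ι ι F) ∈ Subalgebra.centralizer F (matrixSet (cj g)) := by
          intro u hu
          rw [Subalgebra.mem_centralizer_iff]
          rintro _ ⟨w, hw, rfl⟩
          have h3 := comm_commutator (h := u) (M := cj g) (fun b hb => comm_le _ hgk _ hg hne u hu b hb) w
            (h1.symm ▸ hw)
          rw [← Units.val_mul, ← Units.val_mul, h3]
        refine cjs g (h1 ▸ ?_)
        rw [Subgroup.commutator_le]
        intro a ha b hb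
        have conv : ∀ u ∈ cj g, (g * k * g⁻¹) * u * (g * k * g⁻¹)⁻¹ ∈ cj (g * k) := fun u hu => by
          rw [mem_cj] at hu ⊢
          convert hu using 1
          group
        have h4 : ∀ u ∈ cj (g * k), ∀ w ∈ cj (g * k), u * w = w * u := fun u hu w hw =>
          Units.ext (by rw [Units.val_mul, Units.val_mul]; exact hCcomm _ (hmemC u hu) _ (hmemC w hw))
        have h5 := h4 _ (conv a ha) _ (conv b hb)
        have h6 : ⁅a, b⁆ = 1 := commutatorElement_eq_one_iff_mul_comm.2 (by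
          have := congrArg (fun w => (g * k * g⁻¹)⁻¹ * w * (g * k * g⁻¹)) h5
          simpa [mul_assoc] using this)
        rw [h6]; exact one_mem _
      · refine cjs g (h1 ▸ ?_)
        rw [Subgroup.commutator_le]
        intro a ha b hb
        rw [commutatorElement_eq_one_iff_mul_comm.2 (hcm a ha b hb)]
        exact one_mem _
    -- so N modulo scalars is abelian
    let gens : Set (GL ι F) := {u | ∃ g ∈ H, u ∈ cj g}
    have hgen : ∀ a ∈ gens, ∀ b ∈ gens, a * b * a⁻¹ * b⁻¹ ∈ scalars ι F := by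
      rintro a ⟨g, hg, ha⟩ b ⟨g', hg', hb⟩
      by_cases e : cj g = cj g'
      · exact hder g hg (Subgroup.commutator_mem_commutator ha (e.symm ▸ hb))
      · exact comm_le g hg g' hg' e a ha b hb
    let J := Subgroup.closure gens
    have hJN : J = N := by
      refine (hmin J ((Subgroup.closure_le _).2 fun u ⟨g, hg, hu⟩ => cjN g hg hu) ?_).resolve_left ?_
      · intro k hk u hu
        have h1 : J.map (MulAut.conj k).toMonoidHom ≤ J := by
          rw [MonoidHom.map_closure]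
          refine Subgroup.closure_mono ?_
          rintro _ ⟨w, ⟨g, hg, hw⟩, rfl⟩
          refine ⟨k * g, mul_mem hk hg, ?_⟩
          rw [mem_cj] at hw ⊢
          simpa [mul_assoc] using hw
        exact h1 ⟨u, hu, rfl⟩
      · exact fun hle => cjs 1 fun u hu => hle (Subgroup.subset_closure ⟨1, one_mem _, hu⟩)
    refine hnc ?_
    rw [← hJN, Subgroup.commutator_le]
    let q := QuotientGroup.mk' (scalars ι F)
    have hq : ∀ u w, u * w * u⁻¹ * w⁻¹ ∈ scalars ι F ↔ q u * q w = q w * q u := fun u w => by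
      rw [← commutatorElement_eq_one_iff_mul_comm, ← map_commutatorElement, ← commutatorElement_def]
      exact (QuotientGroup.eq_one_iff _).symm
    intro a ha b hb
    have hmap : ∀ u ∈ J, q u ∈ Subgroup.closure (q '' gens) := fun u hu => by
      rw [← MonoidHom.map_closure]; exact ⟨u, hu, rfl⟩
    have hcs : Set.Pairwise (q '' gens) fun u w => u * w = w * u := by
      rintro _ ⟨u, hu, rfl⟩ _ ⟨w, hw, rfl⟩ -
      exact (hq u w).1 (hgen u hu w hw)
    rw [commutatorElement_def, hq]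
    refine Subgroup.closure_induction₂ (p := fun u w _ _ => u * w = w * u) (fun u w hu hw => ?_)
      (fun u _ => by simp) (fun u _ => by simp) (fun u v w _ _ _ h1 h2 => ?_) (fun u v w _ _ _ h1 h2 => ?_)
      (fun u v _ _ h1 => ?_) (fun u v _ _ h1 => ?_) (hmap a ha) (hmap b hb)
    · by_cases huw : u = w
      · rw [huw]
      · exact hcs hu hw huw
    · exact (Commute.mul_left h1 h2).eq
    · exact (Commute.mul_right h1 h2).eq
    · exact (Commute.inv_left h1).eq
    · exact (Commute.inv_right h1).eq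
  set Z := (scalars ι F).subgroupOf N with hZdef
  refine Or.inr (Or.inr (Or.inr ⟨N, hNH, hN, hperf, ?_, ?_, ?_, habs⟩))
  · haveI : Nontrivial (N ⧸ Z) := QuotientGroup.nontrivial_iff.2 fun h1 => hNs fun u hu => by
      have : (⟨u, hu⟩ : N) ∈ Z := h1 ▸ Subgroup.mem_top _
      exact this
    refine ⟨fun Q hQ => ?_⟩
    set M := Q.comap (QuotientGroup.mk' Z) with hM
    have hQM : Q = M.map (QuotientGroup.mk' Z) :=
      (Subgroup.map_comap_eq_self_of_surjective (QuotientGroup.mk'_surjective Z) Q).symm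
    by_cases hle : M ≤ Z
    · left
      rw [hQM, eq_bot_iff]
      rintro _ ⟨u, hu, rfl⟩
      rw [Subgroup.mem_bot]
      exact (QuotientGroup.eq_one_iff u).2 (hle hu)
    · right
      have h1 := hsimple (M.map N.subtype) (by rintro _ ⟨u, -, rfl⟩; exact u.2)
        (by
          rintro g hg _ ⟨u, hu, rfl⟩
          exact ⟨⟨g, hg⟩ * u * ⟨g, hg⟩⁻¹, (hQ.comap _).conj_mem u hu _, rfl⟩)
        (fun h2 => hle fun u hu => h2 ⟨u, hu, rfl⟩)
      rw [hQM, eq_top_iff]
      intro w _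
      obtain ⟨u, rfl⟩ := QuotientGroup.mk'_surjective Z w
      obtain ⟨u', hu', he⟩ := (h1.symm ▸ u.2 : (u : GL ι F) ∈ M.map N.subtype)
      exact ⟨u, Subtype.ext he ▸ hu', rfl⟩
  · intro hcomm
    refine hnc ?_
    rw [Subgroup.commutator_le]
    intro a ha b hb
    have h1 := hcomm.is_comm.comm (QuotientGroup.mk' Z ⟨a, ha⟩) (QuotientGroup.mk' Z ⟨b, hb⟩)
    rw [← commutatorElement_eq_one_iff_mul_comm, ← map_commutatorElement, QuotientGroup.mk'_apply,
      QuotientGroup.eq_one_iff, hZdef, Subgroup.mem_subgroupOf] at h1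
    simpa [commutatorElement_def] using h1
  · intro h _ hx
    refine absIrr_center habs fun u hu => comm_commutator hx u (hperf.symm ▸ hu)

end Cfsg.Lib.Linear.Asch
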