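import Cfsg.Agent.Lib.Linear.Aschbacher.FieldFour

/-!
# The maximal subgroups of the special linear group in odd prime dimension
-/

set_option autoImplicit false
set_option linter.unusedSectionVars false
set_option linter.style.haveILetI false

namespace Cfsg.Lib.Linear.Asch

open Cfsg.Geo Cfsg.Lib.Linear
open scoped Matrix MatrixGroups

variable {ι : Type} [Fintype ι] [DecidableEq ι] {F : Type*} [Field F]

theorem ratG_mono {F₀ F₁ : Subfield F} (h : F₀ ≤ F₁) {g : GL ι F} (hg : Rat0.RatG F₀ g) : Rat0.RatG F₁ g := by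
  obtain ⟨c, hc, hg⟩ := hg
  exact ⟨c, hc, fun i j => h (hg i j)⟩

theorem odd_card_of_two_ne_zero [Fintype F] (h2 : (2 : F) ≠ 0) : Odd (Fintype.card F) :=
  Nat.odd_iff.2 (FiniteField.odd_card_of_char_ne_two fun h => h2 (by
    haveI : CharP F 2 := h ▸ ringChar.charP F
    exact CharTwo.two_eq_zero))

/-- A group normalising a group realised over a proper subfield lies in a subfield group. -/
theorem realisable_le [Fintype F] [Nonempty ι] {H G : Subgroup (GL ι F)} {F₀ : Subfield F} (hF₀ : F₀ ≠ ⊤)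
    (hG : ActsAbsolutelyIrreducibly (matrixSet G)) (hn : ∀ g ∈ H, ∀ a ∈ G, g * a * g⁻¹ ∈ G)
    (hreal : RealisableOver F₀ (matrixSet G)) :
    ∃ (F₁ : Subfield F) (r : ℕ) (P : GL ι F), F₁ ≠ ⊤ ∧ r.Prime ∧ Fintype.card F = Nat.card F₁ ^ r ∧
      H ≤ subfieldSubgroup F₁ P := by
  obtain ⟨B, hB⟩ := hreal
  obtain ⟨F₁, r, hle, hne, hr, hcard⟩ := exists_prime_index hF₀
  refine ⟨F₁, r, B⁻¹, hne, hr, hcard, fun h hh => ?_⟩
  rw [mem_subfieldSubgroup_iff, inv_inv]
  exact ratG_mono hle (rat_normalizer hG F₀ B (fun x hx => hB _ (mem_matrixSet hx)) (hn h hh))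

theorem two_ne_zero_or_alt' [Fintype F] {Q : (ι → F) → F} (hQ : IsNondegenerateQuadraticForm Q)
    (hodd : Odd (Fintype.card ι)) : Odd (Fintype.card F) :=
  odd_card_of_two_ne_zero (two_ne_zero_or_alt hQ hodd)

theorem not_SL_le_quad [Fintype F] (hn : 3 ≤ Fintype.card ι) (h2 : (2 : F) ≠ 0) {Q : (ι → F) → F}
    (hQ : IsNondegenerateQuadraticForm Q) : ¬ specialLinear ι F ≤ quadSimilarityGroup Q := by
  rw [quadSimilarityGroup_eq h2 hQ]
  exact not_SL_le_similarityGroup hn (isSesq_of_bilinear hQ.polar_bilinear hQ.nondegenerate)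

variable [Fintype F] {H : Subgroup (GL ι F)} {r : ℕ}

theorem monomial_small (hr : r.Prime) (hcard : Fintype.card ι = r)
    (hirr : ActsIrreducibly (matrixSet H)) {D : Fin r → Submodule F (ι → F)} (hD : IsMDecomposition 1 D)
    (hle : H ≤ decompositionStabilizer D) (hq : Fintype.card F < 5) :
    (Odd (Fintype.card F) ∧ ∃ Q, IsNondegenerateQuadraticForm Q ∧ H ≤ quadSimilarityGroup Q) ∨
      ∃ (σ : F ≃+* F) (f : (ι → F) → (ι → F) → F), IsUnitaryForm σ f ∧ H ≤ similarityGroup f := by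
  classical
  obtain ⟨b, hb⟩ := decomp_gen hD
  have hpow : ∀ e : F, e ≠ 0 → e ^ (Fintype.card F - 1) = 1 := fun e he =>
    FiniteField.pow_card_sub_one_eq_one e he
  have h2q : 2 ≤ Fintype.card F := Fintype.one_lt_card
  obtain h | h | h : Fintype.card F = 2 ∨ Fintype.card F = 3 ∨ Fintype.card F = 4 := by omega
  · exfalso
    let s := ∑ i, b i
    have hfix : ∀ g ∈ H, g.val *ᵥ s = s := fun g hg => by
      obtain ⟨π, ε, hε0, hg'⟩ := decomp_act hb (hle hg)
      have hε : ∀ i, ε i = 1 := fun i => by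
        have := hpow _ (hε0 i)
        rwa [h, pow_one] at this
      simp only [s, Matrix.mulVec_sum]
      rw [← Equiv.sum_comp π (fun i => b i)]
      exact Finset.sum_congr rfl fun i _ => by rw [hg', hε, one_smul]
    have hs0 : s ≠ 0 := fun h0 => by
      have h1 := congrArg (fun v => b.repr v ⟨0, hr.pos⟩) h0
      simp [s, Finsupp.single_apply] at h1
    rcases irr_iff.1 hirr (Submodule.span F {s}) (fun g hg w hw => by
      obtain ⟨a, rfl⟩ := Submodule.mem_span_singleton.1 hw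
      rw [Matrix.mulVec_smul, hfix g hg]
      exact Submodule.smul_mem _ _ (Submodule.mem_span_singleton_self s)) with h1 | h1
    · exact hs0 ((Submodule.span_singleton_eq_bot).1 h1)
    · have h2 := finrank_span_singleton (K := F) hs0
      rw [h1, finrank_top, Module.finrank_fintype_fun_eq_card, hcard] at h2
      exact hr.ne_one h2
  · left
    have ho : Odd (Fintype.card F) := by rw [h]; decide
    have h2 : (2 : F) ≠ 0 := fun h0 => by
      obtain ⟨p, hp⟩ := CharP.exists F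
      obtain ⟨n, hpp, hn⟩ := FiniteField.card F p
      have h3 : p ∣ 2 := (CharP.cast_eq_zero_iff F p 2).1 (by exact_mod_cast h0)
      have h4 : p = 2 := (Nat.prime_dvd_prime_iff_eq hpp Nat.prime_two).1 h3
      rw [hn, h4, Nat.odd_pow_iff n.ne_zero] at ho
      exact absurd ho (by decide)
    refine ⟨ho, diagQuad b, isNondegenerateQuadraticForm_diag b h2, fun g hg => ?_⟩
    obtain ⟨π, ε, hε0, hg'⟩ := decomp_act hb (hle hg)
    refine ⟨1, fun v => ?_⟩
    rw [Units.val_one, one_mul]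
    refine diagQuad_monomial b hg' (fun i => ?_) v
    have := hpow _ (hε0 i)
    rwa [h, show 3 - 1 = 2 from rfl, sq] at this
  · right
    haveI : Fact (Nat.Prime 2) := ⟨Nat.prime_two⟩
    haveI : CharP F 2 := by
      obtain ⟨p, hp⟩ := CharP.exists F
      obtain ⟨n, hpp, hn⟩ := FiniteField.card F p
      have h2 : p ∣ 2 ^ 2 := by
        rw [show (2 : ℕ) ^ 2 = p ^ (n : ℕ) from (by rw [← hn, h]; norm_num)]
        exact dvd_pow_self p n.ne_zero
      have := (Nat.prime_dvd_prime_iff_eq hpp Nat.prime_two).1 (hpp.dvd_of_dvd_pow h2)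
      subst this
      exact hp
    let σ : F ≃+* F := frobeniusEquiv F 2
    have hσ : ∀ a, σ a = a ^ 2 := fun a => frobeniusEquiv_apply F 2 a
    have hinv : ∀ a, σ (σ a) = a := fun a => by
      rw [hσ, hσ, ← pow_mul, show 2 * 2 = Fintype.card F from h.symm, FiniteField.pow_card]
    have hne : σ ≠ RingEquiv.refl F := fun e => by
      have hle' : (Finset.univ : Finset F) ⊆ {0, 1} := fun a _ => by
        have h1 : σ a = a := by rw [e]; rfl
        rw [hσ, sq] at h1
        rcases eq_or_ne a 0 with rfl | ha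
        · simp
        · simp [mul_left_cancel₀ ha (h1.trans (mul_one a).symm)]
      have := (Finset.card_le_card hle').trans Finset.card_le_two
      rw [Finset.card_univ, h] at this
      omega
    refine ⟨σ, diagForm b σ, isUnitaryForm_diag b hne hinv, fun g hg => ?_⟩
    obtain ⟨π, ε, hε0, hg'⟩ := decomp_act hb (hle hg)
    refine ⟨1, fun u v => ?_⟩
    rw [Units.val_one, one_mul]
    refine diagForm_monomial b σ hg' (fun i => ?_) u v
    have := hpow _ (hε0 i)
    rw [h, show 4 - 1 = 2 + 1 from rfl, pow_succ'] at this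
    rw [hσ, this]

/-- The maximal subgroups of `SL` in odd prime dimension `r`. -/
theorem linear_cases (hr : r.Prime) (hodd : Odd r) (hcard : Fintype.card ι = r)
    (hH : IsMaximalIn (specialLinear ι F) H) :
    (∃ W : Submodule F (ι → F), W ≠ ⊥ ∧ W ≠ ⊤ ∧ H = subspaceStabilizer W ⊓ specialLinear ι F) ∨
    (5 ≤ Fintype.card F ∧ ∃ D : Fin r → Submodule F (ι → F), IsMDecomposition 1 D ∧
      H = decompositionStabilizer D ⊓ specialLinear ι F) ∨
    ((r = 3 → Fintype.card F ≠ 4) ∧ ∃ K, IsFieldSubalgebra r K ∧ H = subalgebraNormalizer K ⊓ specialLinear ι F) ∨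
    (∃ (F₀ : Subfield F) (s : ℕ) (P : GL ι F), s.Prime ∧ Fintype.card F = Nat.card F₀ ^ s ∧
      H = subfieldSubgroup F₀ P ⊓ specialLinear ι F) ∨
    ((∃ p e : ℕ, p.Prime ∧ CharP F p ∧ Fintype.card F = p ^ e ∧ Odd e ∧ e ∣ r - 1 ∧ orderOf (p : ZMod r) = e) ∧
      ∃ R : Subgroup (GL ι F), IsLinearSymplecticTypeData r R ∧ H = subgroupNormalizer R ⊓ specialLinear ι F) ∨
    (Odd (Fintype.card F) ∧ ∃ Q : (ι → F) → F, IsNondegenerateQuadraticForm Q ∧
      H = quadSimilarityGroup Q ⊓ specialLinear ι F) ∨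
    (∃ (σ : F ≃+* F) (f : (ι → F) → (ι → F) → F), IsUnitaryForm σ f ∧
      H = similarityGroup f ⊓ specialLinear ι F) ∨
    InLinearResidualClass H := by
  classical
  have hr3 : 3 ≤ r := by
    rcases hodd with ⟨k, hk⟩
    have := hr.two_le
    omega
  haveI : Nonempty ι := Fintype.card_pos_iff.1 (hcard ▸ hr.pos)
  have hn3 : 3 ≤ Fintype.card ι := hcard ▸ hr3
  haveI := Fact.mk hr
  have mkL4 : ∀ {G : Subgroup (GL ι F)} {F₀ : Subfield F}, F₀ ≠ ⊤ → ActsAbsolutelyIrreducibly (matrixSet G) →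
      (∀ g ∈ H, ∀ a ∈ G, g * a * g⁻¹ ∈ G) → RealisableOver F₀ (matrixSet G) →
      ∃ (F₀ : Subfield F) (s : ℕ) (P : GL ι F), s.Prime ∧ Fintype.card F = Nat.card F₀ ^ s ∧
        H = subfieldSubgroup F₀ P ⊓ specialLinear ι F := fun h1 h2 h3 h4 => by
    obtain ⟨F₁, s, P, hne, hs, hc, hle⟩ := realisable_le h1 h2 h3 h4
    exact ⟨F₁, s, P, hs, hc, eq_inf_of_maximal hH hle (not_SL_le_subfieldSubgroup (by omega) hne P)⟩
  by_cases hirr : ActsIrreducibly (matrixSet H)
  swap
  · rw [irr_iff] at hirr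
    push Not at hirr
    obtain ⟨W, hW, hW0, hW1⟩ := hirr
    exact Or.inl ⟨W, hW0, hW1, eq_inf_of_maximal hH (fun g hg => mem_subspaceStabilizer_of_inv (hW g hg))
      (not_SL_le_subspaceStabilizer hW0 hW1)⟩
  refine Or.inr ?_
  rcases core_cases hr hodd hcard hH.1.le hirr with ⟨D, hD, hle, -⟩ | ⟨K, hK, hle, -⟩ |
    ⟨R, c, x, y, z, hRH, hRn, hR⟩ | ⟨P, hPH, hPn, hperf, hsimple, hnab, hcent, habs⟩
  · by_cases hq : 5 ≤ Fintype.card F
    · exact Or.inl ⟨hq, D, hD, eq_inf_of_maximal hH hle (not_SL_le_decompositionStabilizer hD)⟩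
    rcases monomial_small hr hcard hirr hD hle (by omega) with ⟨ho, Q, hQ, hQle⟩ | ⟨σ, f, hf, hfle⟩
    · exact Or.inr (Or.inr (Or.inr (Or.inr (Or.inl ⟨ho, Q, hQ, eq_inf_of_maximal hH hQle
        (not_SL_le_quad hn3 (two_ne_zero_or_alt hQ (hcard ▸ hodd)) hQ)⟩))))
    · exact Or.inr (Or.inr (Or.inr (Or.inr (Or.inr (Or.inl ⟨σ, f, hf, eq_inf_of_maximal hH hfle
        (not_SL_le_similarityGroup hn3 (isSesq_of_unitary hf))⟩)))))
  · by_cases hex : r = 3 ∧ Fintype.card F = 4
    · obtain ⟨rfl, h4⟩ := hex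
      obtain ⟨F₀, P, hne, hc, hP⟩ := field_four hcard h4 hK
      exact Or.inr (Or.inr (Or.inl ⟨F₀, 2, P, Nat.prime_two, hc, eq_inf_of_maximal hH
        (fun g hg => hP g (hle hg) (hH.1.le hg)) (not_SL_le_subfieldSubgroup (by omega) hne P)⟩))
    · exact Or.inr (Or.inl ⟨fun h1 h2 => hex ⟨h1, h2⟩, K, hK,
        eq_inf_of_maximal hH hle (not_SL_le_subalgebraNormalizer hr3 hcard hK)⟩)
  · -- symplectic type
    obtain ⟨p, hp⟩ := CharP.exists F
    obtain ⟨f, hpp, hf⟩ := FiniteField.card F p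
    haveI := Fact.mk hpp
    haveI : NeZero r := ⟨hr.ne_zero⟩
    have hrp : r ≠ p := fun h => hR.char_ne (by rw [h, CharP.cast_eq_zero])
    have hc0 : c ≠ 0 := hR.prim.ne_zero hr.ne_zero
    have hrdvd : r ∣ p ^ (f : ℕ) - 1 := by
      rw [← hf]
      exact hR.prim.dvd_of_pow_eq_one _ (FiniteField.pow_card_sub_one_eq_one c hc0)
    have hiff : ∀ d, r ∣ p ^ d - 1 ↔ (p : ZMod r) ^ d = 1 := fun d => by
      rw [← ZMod.natCast_eq_zero_iff, Nat.cast_sub (Nat.one_le_pow d p hpp.pos)]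
      push_cast
      exact sub_eq_zero
    set e := orderOf (p : ZMod r) with he
    have hp0 : (p : ZMod r) ≠ 0 := by
      rw [Ne, ZMod.natCast_eq_zero_iff]
      exact fun h => hrp ((Nat.prime_dvd_prime_iff_eq hr hpp).1 h)
    have hef : e ∣ f := orderOf_dvd_of_pow_eq_one ((hiff _).1 hrdvd)
    have he0 : 0 < e := Nat.pos_of_dvd_of_pos hef f.pos
    have her : e ∣ r - 1 := orderOf_dvd_of_pow_eq_one (ZMod.pow_card_sub_one_eq_one hp0)
    have hcpe : c ^ p ^ e = c := by
      obtain ⟨k, hk⟩ := (hiff e).2 (pow_orderOf_eq_one _)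
      have h1 : p ^ e = r * k + 1 := by
        have := Nat.one_le_pow e p hpp.pos
        omega
      rw [h1, pow_succ, pow_mul, hR.prim.pow_eq_one, one_pow, one_mul]
    obtain ⟨b, hb⟩ := hR.monomial hr hcard
    by_cases hfe : (f : ℕ) = e
    swap
    · obtain ⟨F₁, hF₁, hmem⟩ := exists_subfield_pow (F := F) p f e hf he0 hef
      have hne : F₁ ≠ ⊤ := fun h => by
        rw [h, Nat.card_congr Subfield.topEquiv.toEquiv, Nat.card_eq_fintype_card, hf] at hF₁
        exact hfe (Nat.pow_right_injective hpp.two_le hF₁)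
      refine Or.inr (Or.inr (Or.inl (mkL4 hne hR.absIrr hRn (realisable_monomial b fun g hg => ?_))))
      obtain ⟨π, k, hk⟩ := hb g hg
      exact ⟨π, fun i => c ^ k i, fun i => F₁.pow_mem ((hmem c).2 hcpe) _, hk⟩
    rw [hfe] at hf
    rcases Nat.even_or_odd e with ⟨e', he'⟩ | heo
    · let σ : F ≃+* F := iterateFrobeniusEquiv F p e'
      have hσ : ∀ a, σ a = a ^ p ^ e' := fun a => iterateFrobeniusEquiv_def F p e' a
      have hinv : ∀ a, σ (σ a) = a := fun a => by
        rw [hσ, hσ, ← pow_mul, ← pow_add, ← he', ← hf, FiniteField.pow_card]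
      have hm1 : (p : ZMod r) ^ e' = -1 := by
        have h1 : (p : ZMod r) ^ e' * (p : ZMod r) ^ e' = 1 := by rw [← pow_add, ← he', pow_orderOf_eq_one]
        refine (mul_self_eq_one_iff.1 h1).resolve_left fun h2 => ?_
        have := orderOf_dvd_of_pow_eq_one h2
        rw [← he] at this
        have := Nat.le_of_dvd (by omega) this
        omega
      have hcs : c * σ c = 1 := by
        rw [hσ, ← pow_succ']
        have h1 : r ∣ p ^ e' + 1 := by
          rw [← ZMod.natCast_eq_zero_iff]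
          push_cast
          rw [hm1, neg_add_cancel]
        obtain ⟨k, hk⟩ := h1
        rw [hk, pow_mul, hR.prim.pow_eq_one, one_pow]
      have hne : σ ≠ RingEquiv.refl F := fun h => by
        rw [h, RingEquiv.refl_apply, ← sq] at hcs
        have := hR.prim.dvd_of_pow_eq_one 2 hcs
        have := Nat.le_of_dvd two_pos this
        omega
      have hfix : FixesForm (matrixSet R) (diagForm b σ) := by
        rintro _ ⟨g, hg, rfl⟩ u v
        obtain ⟨π, k, hk⟩ := hb g hg
        exact diagForm_monomial b σ hk (fun i => by rw [map_pow, ← mul_pow, hcs, one_pow]) u v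
      have hU := isUnitaryForm_diag b hne hinv
      exact Or.inr (Or.inr (Or.inr (Or.inr (Or.inr (Or.inl ⟨σ, _, hU, eq_inf_of_maximal hH
        (fun g hg => mem_similarityGroup hR.absIrr (isSesq_of_unitary hU) hfix (hRn g hg))
        (not_SL_le_similarityGroup hn3 (isSesq_of_unitary hU))⟩)))))
    · have hq : r < Fintype.card F := by
        rw [hf]
        have h1 := Nat.le_of_dvd (by have := Nat.one_lt_pow he0.ne' hpp.one_lt; omega) (hfe ▸ hrdvd)
        omega
      have hns : ¬ R ≤ scalars ι F := fun h => not_irr_scalars (by omega) h hR.absIrr.1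
      refine Or.inr (Or.inr (Or.inr (Or.inl ⟨⟨p, e, hpp, hp, hf, heo, her, rfl⟩, R,
        ⟨hR.symp, hR.absIrr, p, e, hrp, ?_, Or.inl ⟨hodd, heo, hR.card_center, 1, le_rfl, hR.card⟩⟩,
        eq_inf_of_maximal hH (fun g hg => Subgroup.mem_normalizer_iff.2 (map_conj_normal hRn hg))
          (not_SL_le_normalizer hr3 hcard hq hR.card hns)⟩)))
      rw [hR.card_center]
      refine ⟨hpp, hp, hf, (hiff e).2 (pow_orderOf_eq_one _), fun d hd0 hd hdvd => ?_⟩
      have := Nat.le_of_dvd hd0 (orderOf_dvd_of_pow_eq_one ((hiff d).1 hdvd))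
      omega
  · -- almost simple
    by_cases hreal : ∃ F₀ : Subfield F, F₀ ≠ ⊤ ∧ RealisableOver F₀ (matrixSet P)
    · obtain ⟨F₀, h1, h2⟩ := hreal
      exact Or.inr (Or.inr (Or.inl (mkL4 h1 habs hPn h2)))
    by_cases hquad : ∃ Q : (ι → F) → F, IsNondegenerateQuadraticForm Q ∧ FixesQuadForm (matrixSet P) Q
    · obtain ⟨Q, hQ, hfix⟩ := hquad
      have h2 := two_ne_zero_or_alt hQ (hcard ▸ hodd)
      refine Or.inr (Or.inr (Or.inr (Or.inr (Or.inl ⟨odd_card_of_two_ne_zero h2, Q, hQ,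
        eq_inf_of_maximal hH (fun g hg => ?_) (not_SL_le_quad hn3 h2 hQ)⟩))))
      rw [quadSimilarityGroup_eq h2 hQ]
      exact mem_similarityGroup habs (isSesq_of_bilinear hQ.polar_bilinear hQ.nondegenerate)
        (fixesForm_polar hfix) (hPn g hg)
    by_cases hunit : ∃ (σ : F ≃+* F) (f : (ι → F) → (ι → F) → F), IsUnitaryForm σ f ∧ FixesForm (matrixSet P) f
    · obtain ⟨σ, f, hf, hfix⟩ := hunit
      exact Or.inr (Or.inr (Or.inr (Or.inr (Or.inr (Or.inl ⟨σ, f, hf, eq_inf_of_maximal hH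
        (fun g hg => mem_similarityGroup habs (isSesq_of_unitary hf) hfix (hPn g hg))
        (not_SL_le_similarityGroup hn3 (isSesq_of_unitary hf))⟩)))))
    push Not at hreal
    refine Or.inr (Or.inr (Or.inr (Or.inr (Or.inr (Or.inr ⟨P,
      ⟨hPH, hPn, hperf, hsimple, hnab, hcent, habs, hreal⟩, hquad, ?_, hunit⟩)))))
    rintro ⟨f, hf, -⟩
    exact not_alt_odd (hcard ▸ hodd) hf.bilinear hf.alternating hf.nondegenerate

end Cfsg.Lib.Linear.Asch
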