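import Cfsg.Agent.Lib.Linear.Aschbacher.OrthForms

/-!
# Maximal subgroups of `Ω` in odd prime dimension
-/

set_option autoImplicit false
set_option linter.unusedSectionVars false
set_option linter.style.haveILetI false

namespace Cfsg.Lib.Linear.Asch

open Cfsg.Geo Cfsg.Lib.Linear
open scoped Matrix MatrixGroups

variable {ι : Type} [Fintype ι] [DecidableEq ι] {F : Type*} [Field F]
  {Q : (ι → F) → F} {B : LinearMap.BilinForm F (ι → F)} {r : ℕ}

theorem orth_space_nondegenerate (C : Orth.Space Q B) : B.Nondegenerate :=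
  ⟨fun _ hv => C.nondeg' hv, C.nondeg⟩

theorem orth_space_refl (C : Orth.Space Q B) : B.IsRefl := fun u v h => by rw [C.symm]; exact h

theorem orth_perp_inv (C : Orth.Space Q B) {H : Subgroup (GL ι F)} (hHI : H ≤ isometryGroup F Q)
    {W : Submodule F (ι → F)} (hW : InvSub H W) : InvSub H (B.orthogonal W) := fun g hg v hv w hw => by
  rw [← mulVec_inv_mulVec g w]
  rw [C.B_act (hHI hg)]
  exact hv _ (hW _ (inv_mem hg) w hw)

theorem orth_nondegenerateOn (C : Orth.Space Q B) {U : Submodule F (ι → F)}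
    (hU : U ⊓ B.orthogonal U = ⊥) : IsNondegenerateOn (QuadraticMap.polar Q) U := fun w hw hw0 => by
  have h1 : ∃ x ∈ U, B x w ≠ 0 := by
    by_contra hne
    push Not at hne
    exact hw0 ((Submodule.mem_bot F).1 (hU ▸ Submodule.mem_inf.2 ⟨hw, fun x hx => hne x hx⟩))
  obtain ⟨x, hx, hne⟩ := h1
  exact ⟨⟨x, hx, by rwa [C.polar]⟩, ⟨x, hx, by rwa [C.polar, C.symm]⟩⟩

/-- A reducible group of isometries fixes a singular or a suitable even-dimensional non-degenerate subspace. -/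
theorem orth_reducible [Fintype F] (C : Orth.Space Q B) (h2 : (2 : F) ≠ 0) (hodd : Odd r) (h5 : 5 ≤ r)
    (hcard : Fintype.card ι = r) {H : Subgroup (GL ι F)} (hHI : H ≤ isometryGroup F Q)
    {W : Submodule F (ι → F)} (hW : InvSub H W) (hW0 : W ≠ ⊥) (hW1 : W ≠ ⊤) :
    (∃ U : Submodule F (ι → F), U ≠ ⊥ ∧ U ≠ ⊤ ∧ InvSub H U ∧ IsTotallySingularQuad Q U) ∨
    (∃ U : Submodule F (ι → F), U ≠ ⊥ ∧ U ≠ ⊤ ∧ InvSub H U ∧ Even (Module.finrank F U) ∧
      IsNondegenerateOn (QuadraticMap.polar Q) U ∧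
      ¬ (Fintype.card F = 3 ∧ Module.finrank F U = 2 ∧ IsPlusTypeOn Q U)) := by
  classical
  have hB := orth_space_nondegenerate C
  have hR := orth_space_refl C
  have hfr : Module.finrank F (ι → F) = r := by rw [Module.finrank_fintype_fun_eq_card, hcard]
  by_cases hsing : W ⊓ B.orthogonal W = ⊥
  swap
  · refine Or.inl ⟨_, hsing, fun h => hW1 (eq_top_iff.2 (h ▸ inf_le_left)),
      fun g hg w hw => ⟨hW g hg w hw.1, orth_perp_inv C hHI hW g hg w hw.2⟩, fun w hw => ?_⟩
    have h1 : B w w = 0 := hw.2 w hw.1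
    rw [C.self] at h1
    exact (mul_eq_zero.1 h1).resolve_left h2
  obtain ⟨U, hU0, hU1, hUinv, hUev, hUs⟩ : ∃ U : Submodule F (ι → F), U ≠ ⊥ ∧ U ≠ ⊤ ∧ InvSub H U ∧
      Even (Module.finrank F U) ∧ U ⊓ B.orthogonal U = ⊥ := by
    have hd := LinearMap.BilinForm.finrank_orthogonal hB W
    have hlt : Module.finrank F W < r := hfr ▸ Submodule.finrank_lt hW1
    have hpos : 0 < Module.finrank F W := Nat.pos_of_ne_zero fun h => hW0 (Submodule.finrank_eq_zero.1 h)
    rcases Nat.even_or_odd (Module.finrank F W) with he | he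
    · exact ⟨W, hW0, hW1, hW, he, hsing⟩
    · refine ⟨B.orthogonal W, fun h => ?_, fun h => ?_, orth_perp_inv C hHI hW, ?_, ?_⟩
      · rw [h, finrank_bot, hfr] at hd
        omega
      · rw [h, finrank_top, hfr] at hd
        omega
      · rw [hd, hfr]
        exact Nat.Odd.sub_odd hodd he
      · rw [LinearMap.BilinForm.orthogonal_orthogonal hB hR, inf_comm]
        exact hsing
  refine Or.inr ?_
  by_cases hexc : Fintype.card F = 3 ∧ Module.finrank F U = 2 ∧ IsPlusTypeOn Q U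
  swap
  · exact ⟨U, hU0, hU1, hUinv, hUev, orth_nondegenerateOn C hUs, hexc⟩
  obtain ⟨h3, hdim, V, hVU, hVs, hV⟩ := hexc
  obtain ⟨u, hu, hu0⟩ := Submodule.exists_mem_ne_zero_of_ne_bot (p := V) (fun h => by
    rw [h, finrank_bot, hdim] at hV
    omega)
  have hQu : Q u = 0 := hVs u hu
  obtain ⟨z, hz, huz⟩ : ∃ z ∈ U, B u z = 1 := by
    obtain ⟨x, hx, hne⟩ := (orth_nondegenerateOn C hUs u (hVU hu) hu0).2
    rw [C.polar] at hne
    exact ⟨(B u x)⁻¹ • x, U.smul_mem _ hx, by rw [map_smul, smul_eq_mul, inv_mul_cancel₀ hne]⟩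
  set w := z + (-Q z) • u with hw
  have hwU : w ∈ U := U.add_mem hz (U.smul_mem _ (hVU hu))
  have huw : B u w = 1 := by rw [hw, map_add, map_smul, huz, C.self_zero hQu, smul_zero, add_zero]
  have hQw : Q w = 0 := by
    rw [hw, C.add, C.smul, map_smul, hQu, smul_eq_mul, C.symm z u, huz]
    ring
  set x := u + w with hx
  have hQx : Q x = 1 := by rw [hx, C.add, hQu, hQw, huw]; ring
  have hx0 : x ≠ 0 := fun h => one_ne_zero (hQx.symm.trans (h ▸ C.zero))
  have hxx : B x x ≠ 0 := by rw [C.self, hQx, mul_one]; exact h2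
  have hspan : ∀ y ∈ U, ∃ a b : F, y = a • u + b • w := by
    have hli : LinearIndependent F ![u, w] := by
      rw [LinearIndependent.pair_iff]
      intro a b hab
      have e1 := congrArg (B u) hab
      rw [map_add, map_smul, map_smul, C.self_zero hQu, huw, map_zero, smul_zero, zero_add, smul_eq_mul,
        mul_one] at e1
      rw [e1, zero_smul, add_zero] at hab
      exact ⟨(smul_eq_zero.1 hab).resolve_right hu0, e1⟩
    have heq : Submodule.span F (Set.range ![u, w]) = U :=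
      Submodule.eq_of_le_of_finrank_le (Submodule.span_le.2 (by
        rintro _ ⟨i, rfl⟩
        fin_cases i
        · exact hVU hu
        · exact hwU)) (by rw [finrank_span_eq_card hli, hdim, Fintype.card_fin])
    intro y hy
    rw [← heq, Matrix.range_cons, Matrix.range_cons, Matrix.range_empty, Set.union_empty,
      Set.singleton_union, Submodule.mem_span_pair] at hy
    obtain ⟨a, b, hab⟩ := hy
    exact ⟨a, b, hab.symm⟩
  have hxinv : InvSub H (Submodule.span F {x}) := by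
    intro g hg v hv
    obtain ⟨t, rfl⟩ := Submodule.mem_span_singleton.1 hv
    rw [Matrix.mulVec_smul]
    refine Submodule.smul_mem _ _ ?_
    obtain ⟨a, b, hab⟩ := hspan _ (hUinv g hg x (U.add_mem (hVU hu) hwU))
    have h1 : a * b = 1 := by
      have := Orth.mem_iso.1 (hHI hg) x
      rw [hab, C.smul_add, hQu, hQw, huw, hQx] at this
      linear_combination this
    have ha : a ^ 2 = 1 := by
      have := FiniteField.pow_card_sub_one_eq_one a (left_ne_zero_of_mul_eq_one h1)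
      rwa [h3] at this
    have hba : b = a := by linear_combination (-b) * ha + a * h1
    refine Submodule.mem_span_singleton.2 ⟨a, ?_⟩
    rw [hab, hba, hx, smul_add]
  set L := B.orthogonal (Submodule.span F {x}) with hL
  have hLd : Module.finrank F L = r - 1 := by
    rw [hL, LinearMap.BilinForm.finrank_orthogonal hB, finrank_span_singleton hx0, hfr]
  refine ⟨L, fun h => ?_, fun h => ?_, orth_perp_inv C hHI hxinv, ?_, orth_nondegenerateOn C ?_,
    fun h => ?_⟩
  · rw [h, finrank_bot] at hLd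
    omega
  · rw [h, finrank_top, hfr] at hLd
    omega
  · rw [hLd]
    exact Nat.Odd.sub_odd hodd odd_one
  · rw [hL, LinearMap.BilinForm.orthogonal_orthogonal hB hR, inf_comm]
    exact LinearMap.BilinForm.span_singleton_inf_orthogonal_eq_bot hxx
  · omega

/-- An irreducible group of isometries in odd prime dimension is absolutely irreducible. -/
theorem orth_absIrr [Finite F] (C : Orth.Space Q B) (h2 : (2 : F) ≠ 0) (hr : r.Prime) (hodd : Odd r)
    (hcard : Fintype.card ι = r) {H : Subgroup (GL ι F)} (hHI : H ≤ isometryGroup F Q)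
    (hirr : ActsIrreducibly (matrixSet H)) : ActsAbsolutelyIrreducibly (matrixSet H) := by
  rcases absIrr_or_field hr hcard hirr with h | h
  · exact h
  · refine absurd hirr (not_irr_scalars (hcard ▸ hr.two_le) fun g hg =>
      field_iso_scalar C h2 hodd hcard h (hHI hg) (mem_of_comm_field hr.pos hcard h fun k hk => ?_))
    exact (Subalgebra.mem_centralizer_iff F).1 hk _ (mem_matrixSet hg)

/-- An orthogonal monomial group is realised over every subfield. -/
theorem orth_monomial_realisable (C : Orth.Space Q B) (h2 : (2 : F) ≠ 0) (hcard : Fintype.card ι = r)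
    {H : Subgroup (GL ι F)} (hHI : H ≤ isometryGroup F Q) {D : Fin r → Submodule F (ι → F)}
    (hD : IsOrthogonalMDecomposition Q 1 D) (hle : H ≤ decompositionStabilizer D) (hr0 : 0 < r)
    (F₀ : Subfield F) : RealisableOver F₀ (matrixSet H) := by
  classical
  obtain ⟨b, hb⟩ := decomp_gen hD.decomp.decomp
  set i0 : Fin r := ⟨0, hr0⟩ with hi0
  set d := Q (b i0) with hd
  have hmem : ∀ i, b i ∈ D i := fun i => by rw [hb]; exact Submodule.mem_span_singleton_self _
  have hd0 : d ≠ 0 := by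
    intro h0
    obtain ⟨⟨x, hx, hne⟩, -⟩ := hD.decomp.nondegenerate i0 (b i0) (hmem i0) (b.ne_zero i0)
    obtain ⟨c, rfl⟩ := Submodule.mem_span_singleton.1 (hb i0 ▸ hx)
    rw [C.polar, map_smul, LinearMap.smul_apply, C.self_zero h0, smul_zero] at hne
    exact hne rfl
  have hex : ∀ i, ∃ c : F, c ≠ 0 ∧ Q (c • b i) = d := by
    intro i
    obtain ⟨e, he⟩ := hD.isometric i0 i
    obtain ⟨c, hc⟩ := Submodule.mem_span_singleton.1 ((hb i).le (e ⟨b i0, hmem i0⟩).2)
    have h1 := he ⟨b i0, hmem i0⟩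
    rw [← hc] at h1
    refine ⟨c, fun h => hd0 ?_, h1⟩
    rw [h, zero_smul, C.zero] at h1
    exact h1.symm
  choose c hc hQc using hex
  let b' := b.unitsSMul fun i => Units.mk0 (c i) (hc i)
  have hb' : ∀ i, b' i = c i • b i := fun i => by simp [b', Module.Basis.unitsSMul_apply, Units.smul_def]
  let σ : Fin r ≃ ι := (Fintype.equivFinOfCardEq hcard).symm
  refine realisable_monomial (b'.reindex σ) fun g hg => ?_
  obtain ⟨π, ε, -, hπ⟩ := decomp_act hb (hle hg)
  refine ⟨σ.symm.trans (π.trans σ),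
    fun i => c (σ.symm i) * ε (σ.symm i) * (c (π (σ.symm i)))⁻¹, fun i => ?_, fun i => ?_⟩
  · set j := σ.symm i
    have h1 : g.val *ᵥ b' j = (c j * ε j * (c (π j))⁻¹) • b' (π j) := by
      rw [hb', hb', Matrix.mulVec_smul, hπ, smul_smul, smul_smul, mul_assoc (c j * ε j),
        inv_mul_cancel₀ (hc _), mul_one]
    have h3 := Orth.mem_iso.1 (hHI hg) (b' j)
    rw [h1, C.smul, hb', hb', hQc, hQc] at h3
    have h4 := (mul_eq_right₀ hd0).1 h3
    show c j * ε j * (c (π j))⁻¹ ∈ F₀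
    rcases sq_eq_one_iff.1 h4 with h | h <;> rw [h]
    · exact F₀.one_mem
    · exact F₀.neg_mem F₀.one_mem
  · simp only [Module.Basis.reindex_apply, Equiv.trans_apply, Equiv.symm_apply_apply, hb', Matrix.mulVec_smul,
      hπ, smul_smul]
    rw [mul_assoc (c _ * ε _), inv_mul_cancel₀ (hc _), mul_one]

/-- The maximal subgroups of `Ω` in odd prime dimension at least five. -/
theorem orth_cases [Fintype F] (C : Orth.Space Q B) (h2 : (2 : F) ≠ 0) (hr : r.Prime) (h5 : 5 ≤ r)
    (hcard : Fintype.card ι = r)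
    (hQrat : ∀ F₁ : Subfield F, ∀ v : ι → F, (∀ i, v i ∈ F₁) → Q v ∈ F₁)
    {e f a : ι → F} (he : Q e = 0) (hf : Q f = 0) (hef : B e f = 1) (ha : Q a = 0) (hea : B e a = 0)
    (haf : B a f = 0) (ha0 : a ≠ 0)
    {H : Subgroup (GL ι F)} (hH : IsMaximalIn (omegaGL Q) H) :
    (∃ W : Submodule F (ι → F), W ≠ ⊥ ∧ IsTotallySingularQuad Q W ∧ H = subspaceStabilizer W ⊓ omegaGL Q) ∨
    (∃ W : Submodule F (ι → F), W ≠ ⊥ ∧ Even (Module.finrank F W) ∧
      IsNondegenerateOn (QuadraticMap.polar Q) W ∧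
      ¬ (Fintype.card F = 3 ∧ Module.finrank F W = 2 ∧ IsPlusTypeOn Q W) ∧
      H = subspaceStabilizer W ⊓ omegaGL Q) ∨
    ((Fintype.card F).Prime ∧ ∃ D : Fin r → Submodule F (ι → F), IsOrthogonalMDecomposition Q 1 D ∧
      H = decompositionStabilizer D ⊓ omegaGL Q) ∨
    (∃ (F₀ : Subfield F) (s : ℕ) (P : GL ι F), s.Prime ∧ Fintype.card F = Nat.card F₀ ^ s ∧
      IsQuadFormRationalStructure Q F₀ P ∧ H = subfieldSubgroup F₀ P ⊓ omegaGL Q) ∨
    InOrthogonalResidualClass H := by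
  classical
  have hodd : Odd r := hr.odd_of_ne_two (by omega)
  have h5' : 5 ≤ Fintype.card ι := hcard ▸ h5
  haveI : Nonempty ι := Fintype.card_pos_iff.1 (hcard ▸ hr.pos)
  have hHI : H ≤ isometryGroup F Q := fun g hg => omegaGL_le_iso (hH.1.le hg)
  have hHSL : H ≤ specialLinear ι F := fun g hg => omegaGL_le_SL (hH.1.le hg)
  have mkC5 : ∀ {G : Subgroup (GL ι F)} {F₀ : Subfield F}, F₀ ≠ ⊤ →
      ActsAbsolutelyIrreducibly (matrixSet G) → G ≤ isometryGroup F Q →
      (∀ g ∈ H, ∀ x ∈ G, g * x * g⁻¹ ∈ G) → RealisableOver F₀ (matrixSet G) →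
      ∃ (F₀ : Subfield F) (s : ℕ) (P : GL ι F), s.Prime ∧ Fintype.card F = Nat.card F₀ ^ s ∧
        IsQuadFormRationalStructure Q F₀ P ∧ H = subfieldSubgroup F₀ P ⊓ omegaGL Q := by
    intro G F₀ h0 h1 h3 h4 hreal
    obtain ⟨F₁, s, P, hne, hs, hc, hP, hle⟩ :=
      orth_realisable_le C h2 (hcard ▸ hodd) hQrat h0 h1 h3 h4 hreal
    exact ⟨F₁, s, P, hs, hc, hP,
      eq_inf_of_maximal hH hle (not_omega_le_subfieldSubgroup C h5' h2 he ha hea hef haf ha0 hne P)⟩
  by_cases hirr : ActsIrreducibly (matrixSet H)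
  swap
  · rw [irr_iff] at hirr
    push Not at hirr
    obtain ⟨W, hW, hW0, hW1⟩ := hirr
    rcases orth_reducible C h2 hodd h5 hcard hHI hW hW0 hW1 with ⟨U, h0, h1, hU, hs⟩ | ⟨U, h0, h1, hU, hev, hnd, hex⟩
    · exact Or.inl ⟨U, h0, hs, eq_inf_of_maximal hH (fun g hg => mem_subspaceStabilizer_of_inv (hU g hg))
        (not_omega_le_subspaceStabilizer C h5' h2 he hf hef h0 h1)⟩
    · exact Or.inr (Or.inl ⟨U, h0, hev, hnd, hex, eq_inf_of_maximal hH
        (fun g hg => mem_subspaceStabilizer_of_inv (hU g hg))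
        (not_omega_le_subspaceStabilizer C h5' h2 he hf hef h0 h1)⟩)
  refine Or.inr (Or.inr ?_)
  rcases core_cases hr hodd hcard hHSL hirr with ⟨D, hD, hle, N, hN, hsep⟩ |
    ⟨K, hK, hle, N, hN, rfl⟩ | ⟨R, c, x, y, z, hRH, hRn, hR⟩ | ⟨P, hPH, hPn, hperf, hsimple, hnab, hcent, habs⟩
  · have hO := orth_decomposition C hodd hHI hirr hD hle hN hsep
    by_cases hp : (Fintype.card F).Prime
    · exact Or.inl ⟨hp, D, hO, eq_inf_of_maximal hH hle
        (not_omega_le_decompositionStabilizer C h5' h2 he ha hea hef haf ha0 hD)⟩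
    refine Or.inr (Or.inl ?_)
    obtain ⟨p, hpc⟩ := CharP.exists F
    obtain ⟨k, hpp, hk⟩ := FiniteField.card F p
    haveI := Fact.mk hpp
    obtain ⟨F₁, hF₁, -⟩ := exists_subfield_pow (F := F) p k 1 hk one_pos (one_dvd _)
    have hne : F₁ ≠ ⊤ := fun h => by
      rw [h, Nat.card_congr Subfield.topEquiv.toEquiv, Nat.card_eq_fintype_card, pow_one] at hF₁
      exact hp (hF₁ ▸ hpp)
    exact mkC5 hne (orth_absIrr C h2 hr hodd hcard hHI hirr) hHI
      (fun g hg x hx => mul_mem (mul_mem hg hx) (inv_mem hg))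
      (orth_monomial_realisable C h2 hcard hHI hO hle hr.pos F₁)
  · exfalso
    have hNs : N ≤ scalars ι F := fun g hg => field_iso_scalar C h2 hodd hcard hK (hHI (hN hg))
      (mem_of_comm_field hr.pos hcard hK fun k hk => (Subalgebra.mem_centralizer_iff F).1 hk _ (mem_matrixSet hg))
    have htop : Subalgebra.centralizer F (matrixSet N) = ⊤ := eq_top_iff.2 fun M _ => by
      rw [Subalgebra.mem_centralizer_iff]
      rintro _ ⟨g, hg, rfl⟩
      obtain ⟨d, hd⟩ := (mem_scalars_iff g).1 (hNs hg)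
      simp [hd]
    have h := hK.finrank_eq
    rw [htop, (Subalgebra.topEquiv.toLinearEquiv).finrank_eq, Module.finrank_matrix, Module.finrank_self, hcard,
      mul_one] at h
    have : r * 2 ≤ r * r := Nat.mul_le_mul_left r hr.two_le
    omega
  · exfalso
    have hz : z ∈ isometryGroup F Q := by
      have : z = y * x * y⁻¹ * x⁻¹ := by rw [hR.comm]; group
      rw [this]
      exact mul_mem (mul_mem (mul_mem (hHI (hRH hR.mem_y)) (hHI (hRH hR.mem_x)))
        (inv_mem (hHI (hRH hR.mem_y)))) (inv_mem (hHI (hRH hR.mem_x)))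
    have h1 := Orth.mem_iso.1 hz (e + f)
    rw [hR.coe_z, Matrix.smul_mulVec, Matrix.one_mulVec, C.smul, C.add, he, hf, hef] at h1
    simp only [zero_add, add_zero, mul_one] at h1
    exact hR.prim.pow_ne_one_of_pos_of_lt two_ne_zero (by omega) h1
  · by_cases hreal : ∃ F₀ : Subfield F, F₀ ≠ ⊤ ∧ RealisableOver F₀ (matrixSet P)
    · obtain ⟨F₀, h0, h1⟩ := hreal
      exact Or.inr (Or.inl (mkC5 h0 habs (hPH.trans hHI) hPn h1))
    refine Or.inr (Or.inr ⟨P, ⟨hPH, hPn, hperf, hsimple, hnab, hcent, habs, fun F₀ h0 h1 => hreal ⟨F₀, h0, h1⟩⟩, ?_⟩)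
    rintro ⟨σ, φ, hφ, hfix⟩
    let Fσ : Subfield F := (σ : F →+* F).eqLocusField (RingHom.id F)
    have hne : Fσ ≠ ⊤ := fun h => hφ.ne_refl (RingEquiv.ext fun t => by
      have : t ∈ Fσ := h ▸ Subfield.mem_top t
      exact this)
    refine hreal ⟨Fσ, hne, Cfsg.Lib.Linear.AschSp.realisable_of_trace habs Fσ fun g hg => ?_⟩
    set G₀ := gramMatrix (QuadraticMap.polar Q) with hG₀
    have hG₀u : IsUnit G₀.det := isUnit_gram C
    set G₁ := gramMatrix φ with hG₁
    have hG₁u : IsUnit G₁.det := isUnit_det_gram (isSesq_of_unitary hφ)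
    have e1 : (g⁻¹).valᵀ * G₀ = G₀ * g.val := by
      calc (g⁻¹).valᵀ * G₀ = (g⁻¹).valᵀ * (g.valᵀ * G₀ * g.val) := by rw [iso_gram C (hHI (hPH hg))]
        _ = (g * g⁻¹).valᵀ * G₀ * g.val := by
            rw [Units.val_mul, Matrix.transpose_mul]; simp only [Matrix.mul_assoc]
        _ = _ := by simp
    have e2 : (g⁻¹).valᵀ * G₁ = G₁ * g.val.map σ := by
      calc (g⁻¹).valᵀ * G₁ = (g⁻¹).valᵀ * (g.valᵀ * G₁ * g.val.map σ) := by
            rw [fixes_gram (isSesq_of_unitary hφ) hfix _ (mem_matrixSet hg)]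
        _ = (g * g⁻¹).valᵀ * G₁ * g.val.map σ := by
            rw [Units.val_mul, Matrix.transpose_mul]; simp only [Matrix.mul_assoc]
        _ = _ := by simp
    have t1 : (g⁻¹).val.trace = g.val.trace := by
      rw [← Matrix.trace_transpose (g⁻¹).val]
      calc ((g⁻¹).valᵀ).trace = ((g⁻¹).valᵀ * G₀ * G₀⁻¹).trace := by
            rw [Matrix.mul_nonsing_inv_cancel_right _ _ hG₀u]
        _ = (G₀⁻¹ * (G₀ * g.val)).trace := by rw [e1, Matrix.trace_mul_comm]
        _ = _ := by rw [Matrix.nonsing_inv_mul_cancel_left _ _ hG₀u]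
    have t2 : (g⁻¹).val.trace = (g.val.map σ).trace := by
      rw [← Matrix.trace_transpose (g⁻¹).val]
      calc ((g⁻¹).valᵀ).trace = ((g⁻¹).valᵀ * G₁ * G₁⁻¹).trace := by
            rw [Matrix.mul_nonsing_inv_cancel_right _ _ hG₁u]
        _ = (G₁⁻¹ * (G₁ * g.val.map σ)).trace := by rw [e2, Matrix.trace_mul_comm]
        _ = _ := by rw [Matrix.nonsing_inv_mul_cancel_left _ _ hG₁u]
    show σ g.val.trace = g.val.trace
    rw [AddMonoidHom.map_trace σ, ← t2, t1]

/-- Vectors witnessing the hypotheses of the classification for the standard odd-dimensional form. -/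
theorem quadFormOdd_cases {m : ℕ} [Fintype F] (hF : Odd (Fintype.card F)) (hm : 2 ≤ m)
    (hr : r.Prime) (hmr : 2 * m + 1 = r) {H : Subgroup (GL (Unit ⊕ (Fin m ⊕ Fin m)) F)}
    (hH : IsMaximalIn (omegaGL (Cfsg.quadFormOdd m F)) H) :
    (∃ W, W ≠ ⊥ ∧ IsTotallySingularQuad (Cfsg.quadFormOdd m F) W ∧
      H = subspaceStabilizer W ⊓ omegaGL (Cfsg.quadFormOdd m F)) ∨
    (∃ W : Submodule F (Unit ⊕ (Fin m ⊕ Fin m) → F), W ≠ ⊥ ∧ Even (Module.finrank F W) ∧
      IsNondegenerateOn (QuadraticMap.polar (Cfsg.quadFormOdd m F)) W ∧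
      ¬ (Fintype.card F = 3 ∧ Module.finrank F W = 2 ∧ IsPlusTypeOn (Cfsg.quadFormOdd m F) W) ∧
      H = subspaceStabilizer W ⊓ omegaGL (Cfsg.quadFormOdd m F)) ∨
    ((Fintype.card F).Prime ∧ ∃ D : Fin r → Submodule F (Unit ⊕ (Fin m ⊕ Fin m) → F),
      IsOrthogonalMDecomposition (Cfsg.quadFormOdd m F) 1 D ∧
      H = decompositionStabilizer D ⊓ omegaGL (Cfsg.quadFormOdd m F)) ∨
    (∃ (F₀ : Subfield F) (s : ℕ) (P : GL (Unit ⊕ (Fin m ⊕ Fin m)) F), s.Prime ∧
      Fintype.card F = Nat.card F₀ ^ s ∧ IsQuadFormRationalStructure (Cfsg.quadFormOdd m F) F₀ P ∧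
      H = subfieldSubgroup F₀ P ⊓ omegaGL (Cfsg.quadFormOdd m F)) ∨
    InOrthogonalResidualClass H := by
  classical
  have h2 := Orth.two_ne_zero_of_odd_card hF
  obtain ⟨B, C⟩ := Orth.exists_space (Orth.isQuad_odd (F := F) m h2)
  let i0 : Fin m := ⟨0, by omega⟩
  let i1 : Fin m := ⟨1, by omega⟩
  have hne : i0 ≠ i1 := by simp [i0, i1]
  refine orth_cases C h2 hr (by omega) ((Orth.card_odd_index m).trans hmr) (fun F₁ v hv => ?_)
    (e := Pi.single (Sum.inr (Sum.inl i0)) 1) (f := Pi.single (Sum.inr (Sum.inr i0)) 1)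
    (a := Pi.single (Sum.inr (Sum.inl i1)) 1) ?_ ?_ ?_ ?_ ?_ ?_ ?_ hH
  · exact add_mem (pow_mem (hv _) 2) (sum_mem fun i _ => mul_mem (hv _) (hv _))
  all_goals
    first
      | simp [← C.polar, QuadraticMap.polar, Cfsg.quadFormOdd, Pi.single_apply, hne, hne.symm]
      | simp

end Cfsg.Lib.Linear.Asch
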