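import Cfsg.Agent.Lib.Linear.Aschbacher.OrthBasics

/-!
# Structures preserved by irreducible subgroups of odd-dimensional orthogonal groups
-/

set_option autoImplicit false
set_option linter.unusedSectionVars false
set_option linter.style.haveILetI false

namespace Cfsg.Lib.Linear.Asch

open Cfsg.Geo Cfsg.Lib.Linear
open scoped Matrix MatrixGroups

variable {ι : Type} [Fintype ι] [DecidableEq ι] {F : Type*} [Field F]
  {Q : (ι → F) → F} {B : LinearMap.BilinForm F (ι → F)} {r : ℕ}

/-- Matrices commuting with a maximal field subalgebra lie in it. -/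
theorem mem_of_comm_field [Finite F] (hr : 0 < r) (hcard : Fintype.card ι = r)
    {K : Subalgebra F (Matrix ι ι F)} (hK : IsFieldSubalgebra r K) {x : Matrix ι ι F}
    (hx : ∀ k ∈ K, x * k = k * x) : x ∈ K := by
  haveI : Nonempty ι := Fintype.card_pos_iff.1 (hcard ▸ hr)
  haveI : Finite (Matrix ι ι F) := inferInstanceAs (Finite (ι → ι → F))
  let v : ι → F := Pi.single (Classical.arbitrary ι) 1
  have hv : v ≠ 0 := by simp [v]
  let ev : K →ₗ[F] (ι → F) :=
    { toFun := fun k => (k : Matrix ι ι F) *ᵥ v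
      map_add' := fun a b => Matrix.add_mulVec _ _ _
      map_smul' := fun c a => Matrix.smul_mulVec _ _ _ }
  have hev : Function.Injective ev := by
    rw [injective_iff_map_eq_zero]
    intro k hk
    by_contra h0
    obtain ⟨y, hy, hy'⟩ := hK.inv k k.2 (fun e => h0 (Subtype.ext e))
    rw [hK.comm _ k.2 y hy] at hy'
    refine hv ?_
    have h1 := congrArg (fun u => y *ᵥ u) hk
    simpa [ev, Matrix.mulVec_mulVec, hy'] using h1
  haveI : FiniteDimensional F K := Module.finite_of_finrank_pos (hK.finrank_eq.symm ▸ hr)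
  have hsurj : Function.Surjective ev :=
    (LinearMap.injective_iff_surjective_of_finrank_eq_finrank
      (by rw [hK.finrank_eq, Module.finrank_fintype_fun_eq_card, hcard])).1 hev
  obtain ⟨k, hk⟩ := hsurj (x *ᵥ v)
  have he : x = (k : Matrix ι ι F) := by
    refine Matrix.toLin'.injective (LinearMap.ext fun u => ?_)
    obtain ⟨l, rfl⟩ := hsurj u
    show x *ᵥ ((l : Matrix ι ι F) *ᵥ v) = (k : Matrix ι ι F) *ᵥ ((l : Matrix ι ι F) *ᵥ v)
    rw [Matrix.mulVec_mulVec, hx _ l.2, ← Matrix.mulVec_mulVec, show x *ᵥ v = (k : Matrix ι ι F) *ᵥ v from hk.symm,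
      Matrix.mulVec_mulVec, hK.comm _ l.2 _ k.2, ← Matrix.mulVec_mulVec]
  rw [he]
  exact k.2

theorem iso_gram (C : Orth.Space Q B) {g : GL ι F} (hg : g ∈ isometryGroup F Q) :
    g.valᵀ * gramMatrix (QuadraticMap.polar Q) * g.val = gramMatrix (QuadraticMap.polar Q) := by
  have hsesq : IsSesq (RingEquiv.refl F) (QuadraticMap.polar Q) :=
    { add_left := fun x y v => by rw [C.polar, C.polar, C.polar, map_add, LinearMap.add_apply]
      smul_left := fun c x v => by rw [C.polar, C.polar, map_smul, LinearMap.smul_apply, smul_eq_mul]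
      add_right := fun v x y => by rw [C.polar, C.polar, C.polar, map_add]
      smul_right := fun c v x => by rw [C.polar, C.polar, map_smul, smul_eq_mul]; rfl
      nondeg := fun v hv => by
        obtain ⟨x, hx⟩ := C.exists_pair hv
        exact ⟨x, by rw [C.polar, C.symm, hx]; exact one_ne_zero⟩ }
  have h := fixes_gram hsesq (S := {g.val}) (fun s hs u v => by
    rw [Set.mem_singleton_iff.1 hs, C.polar, C.polar, C.B_act hg]) _ rfl
  rwa [show g.val.map (RingEquiv.refl F) = g.val from Matrix.ext fun i j => rfl] at h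

theorem isSesq_polar (C : Orth.Space Q B) : IsSesq (RingEquiv.refl F) (QuadraticMap.polar Q) where
  add_left x y v := by rw [C.polar, C.polar, C.polar, map_add, LinearMap.add_apply]
  smul_left c x v := by rw [C.polar, C.polar, map_smul, LinearMap.smul_apply, smul_eq_mul]
  add_right v x y := by rw [C.polar, C.polar, C.polar, map_add]
  smul_right c v x := by rw [C.polar, C.polar, map_smul, smul_eq_mul]; rfl
  nondeg v hv := by
    obtain ⟨x, hx⟩ := C.exists_pair hv
    exact ⟨x, by rw [C.polar, C.symm, hx]; exact one_ne_zero⟩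

theorem isUnit_gram (C : Orth.Space Q B) : IsUnit (gramMatrix (QuadraticMap.polar Q)).det :=
  isUnit_det_gram (isSesq_polar C)

theorem gram_symm : (gramMatrix (QuadraticMap.polar Q))ᵀ = gramMatrix (QuadraticMap.polar Q) :=
  Matrix.ext fun i j => QuadraticMap.polar_comm Q _ _

/-- Isometries of an orthogonal space of odd prime dimension lying in an extension field are scalars. -/
theorem field_iso_scalar [Finite F] (C : Orth.Space Q B) (h2 : (2 : F) ≠ 0) (hodd : Odd r)
    (hcard : Fintype.card ι = r) {K : Subalgebra F (Matrix ι ι F)} (hK : IsFieldSubalgebra r K)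
    {x : GL ι F} (hx : x ∈ isometryGroup F Q) (hxK : (x : Matrix ι ι F) ∈ K) : x ∈ scalars ι F := by
  haveI : Nonempty ι := Fintype.card_pos_iff.1 (hcard ▸ hodd.pos)
  set G := gramMatrix (QuadraticMap.polar Q) with hG
  set A := G * x.val - x.valᵀ * G with hA
  have hGt : Gᵀ = G := gram_symm
  have hAt : Aᵀ = -A := by
    rw [hA, Matrix.transpose_sub, Matrix.transpose_mul, Matrix.transpose_mul, Matrix.transpose_transpose, hGt,
      neg_sub]
  have hdA : A.det = 0 := by
    have h1 := congrArg Matrix.det hAt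
    rw [Matrix.det_transpose, Matrix.det_neg, hcard, hodd.neg_one_pow] at h1
    exact (mul_eq_zero.1 (show (2 : F) * A.det = 0 by linear_combination h1)).resolve_left h2
  obtain ⟨y, hyK, hxy⟩ := hK.inv _ hxK x.isUnit.ne_zero
  have hxt : x.valᵀ * G = G * y := by
    calc x.valᵀ * G = x.valᵀ * G * (x.val * y) := by rw [hxy, Matrix.mul_one]
      _ = (x.valᵀ * G * x.val) * y := by simp only [Matrix.mul_assoc]
      _ = G * y := by rw [iso_gram C hx]
  rw [hA, hxt, ← Matrix.mul_sub, Matrix.det_mul] at hdA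
  have hd : (x.val - y).det = 0 := (mul_eq_zero.1 hdA).resolve_left (isUnit_gram C).ne_zero
  have he : x.val = y := by
    by_contra hne
    obtain ⟨z, -, hz⟩ := hK.inv _ (K.sub_mem hxK hyK) (sub_ne_zero.2 hne)
    have := congrArg Matrix.det hz
    rw [Matrix.det_mul, hd, zero_mul, Matrix.det_one] at this
    exact zero_ne_one this
  rw [← he] at hxy
  by_cases h1 : x.val - 1 = 0
  · exact mem_scalars_of_smul (c := (1 : F)) (by rw [one_smul]; exact sub_eq_zero.1 h1)
  obtain ⟨z, hzK, hz⟩ := hK.inv _ (K.sub_mem hxK K.one_mem) h1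
  refine mem_scalars_of_smul (c := (-1 : F)) ?_
  have h3 : (x.val - 1) * (x.val + 1) = 0 := by
    rw [Matrix.mul_add, Matrix.sub_mul, hxy, Matrix.one_mul, Matrix.mul_one]
    abel
  have h4 : x.val + 1 = 0 := by
    rw [hK.comm _ (K.sub_mem hxK K.one_mem) z hzK] at hz
    calc x.val + 1 = z * (x.val - 1) * (x.val + 1) := by rw [hz, Matrix.one_mul]
      _ = 0 := by rw [Matrix.mul_assoc, h3, Matrix.mul_zero]
  rw [eq_neg_of_add_eq_zero_left h4, neg_one_smul]

/-- A monomial irreducible group of isometries in odd dimension has orthogonal lines. -/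
theorem orth_decomposition (C : Orth.Space Q B) (hodd : Odd r) {H N : Subgroup (GL ι F)}
    (hHU : H ≤ isometryGroup F Q) (hirr : ActsIrreducibly (matrixSet H))
    {D : Fin r → Submodule F (ι → F)} (hD : IsMDecomposition 1 D) (hle : H ≤ decompositionStabilizer D)
    (hN : N ≤ H) (hsep : Separated N D) :
    IsOrthogonalMDecomposition Q 1 D := by
  classical
  obtain ⟨b, hb⟩ := decomp_gen hD
  have hbmem : ∀ i, b i ∈ D i := fun i => by rw [hb]; exact Submodule.mem_span_singleton_self _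
  have huniq : ∀ i j k, B (b i) (b j) ≠ 0 → B (b i) (b k) ≠ 0 → j = k := by
    intro i j k hj hk
    by_contra hne
    obtain ⟨x, hx, a, c, hac, ha, hc⟩ := hsep.2 j k hne
    obtain ⟨e, he⟩ := hsep.1 i x hx
    have h1 := C.B_act (hHU (hN hx)) (b i) (b j)
    have h2 := C.B_act (hHU (hN hx)) (b i) (b k)
    rw [he _ (hbmem i), ha _ (hbmem j), map_smul, map_smul, LinearMap.smul_apply, smul_eq_mul, smul_eq_mul,
      ← mul_assoc] at h1
    rw [he _ (hbmem i), hc _ (hbmem k), map_smul, map_smul, LinearMap.smul_apply, smul_eq_mul, smul_eq_mul,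
      ← mul_assoc] at h2
    have e1 := (mul_eq_right₀ hj).1 h1
    have e2 := (mul_eq_right₀ hk).1 h2
    exact hac (mul_right_cancel₀ (right_ne_zero_of_mul_eq_one e1) (e1.trans e2.symm))
  have hex : ∀ i, ∃ j, B (b i) (b j) ≠ 0 := by
    intro i
    by_contra hne
    push Not at hne
    exact b.ne_zero i (C.nondeg' fun x => by
      rw [← b.sum_repr x, map_sum]
      exact Finset.sum_eq_zero fun j _ => by rw [map_smul, hne j, smul_zero])
  choose τ hτ using hex
  have hinv : ∀ i, τ (τ i) = i := fun i => huniq (τ i) _ _ (hτ (τ i)) (by rw [C.symm]; exact hτ i)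
  obtain ⟨i0, hi0⟩ : ∃ i, τ i = i := by
    let t : Equiv.Perm (Fin r) := Function.Involutive.toPerm τ hinv
    haveI : Fact (Nat.Prime 2) := ⟨Nat.prime_two⟩
    exact Equiv.Perm.exists_fixed_point_of_prime (α := Fin r) (p := 2) (n := 1)
      (by rw [Fintype.card_fin]; exact fun h => (Nat.not_even_iff_odd.2 hodd) (even_iff_two_dvd.2 h))
      (σ := t) (Equiv.ext fun i => by rw [pow_one, sq, Equiv.Perm.mul_apply, Equiv.Perm.one_apply]; exact hinv i)
  have hperm : ∀ g ∈ H, ∀ i, τ i = i → ∀ j, (∃ c : F, c ≠ 0 ∧ g.val *ᵥ b i = c • b j) → τ j = j := by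
    rintro g hg i hi j ⟨c, hc, hgi⟩
    refine huniq j _ _ (hτ _) fun h0 => hτ i ?_
    have h1 := C.B_act (hHU hg) (b i) (b i)
    rw [hgi, map_smul, map_smul, LinearMap.smul_apply, h0, smul_zero, smul_zero] at h1
    rw [hi]
    exact h1.symm
  have hfixed : ∀ i, τ i = i := by
    have hWinv : InvSub H (Submodule.span F (b '' {i | τ i = i})) := by
      intro g hg w hw
      induction hw using Submodule.span_induction with
      | mem w hw =>
        obtain ⟨i, hi, rfl⟩ := hw
        obtain ⟨π, ε, hε, hπ⟩ := decomp_act hb (hle hg)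
        rw [hπ]
        exact Submodule.smul_mem _ _ (Submodule.subset_span ⟨π i, hperm g hg i hi _ ⟨_, hε i, hπ i⟩, rfl⟩)
      | zero => rw [Matrix.mulVec_zero]; exact Submodule.zero_mem _
      | add _ _ _ _ ha hb' => rw [Matrix.mulVec_add]; exact Submodule.add_mem _ ha hb'
      | smul c _ _ ha => rw [Matrix.mulVec_smul]; exact Submodule.smul_mem _ c ha
    rcases irr_iff.1 hirr _ hWinv with h | h
    · exfalso
      refine b.ne_zero i0 ?_
      rw [← Submodule.mem_bot F, ← h]
      exact Submodule.subset_span ⟨i0, hi0, rfl⟩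
    · intro i
      by_contra hi
      have h1 : b i ∈ Submodule.span F (b '' {i | τ i = i}) := h ▸ Submodule.mem_top
      rw [b.mem_span_image, b.repr_self] at h1
      simp [Finsupp.support_single_ne_zero] at h1
      exact hi h1
  refine ⟨⟨hD, fun i w hw hw0 => ?_, fun i j hij u hu v hv => ?_⟩, fun i j => ?_⟩
  · obtain ⟨c, rfl⟩ := Submodule.mem_span_singleton.1 (hb i ▸ hw)
    have hii : B (b i) (b i) ≠ 0 := by have := hτ i; rwa [hfixed i] at this
    have hc : c ≠ 0 := fun h => hw0 (by rw [h, zero_smul])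
    refine ⟨⟨b i, hbmem i, ?_⟩, ⟨b i, hbmem i, ?_⟩⟩ <;>
    · rw [C.polar]
      simp [hc, hii]
  · obtain ⟨c, rfl⟩ := Submodule.mem_span_singleton.1 (hb i ▸ hu)
    obtain ⟨e, rfl⟩ := Submodule.mem_span_singleton.1 (hb j ▸ hv)
    have h0 : B (b i) (b j) = 0 := by
      by_contra h
      exact hij ((huniq i _ _ (hτ i) h ▸ (hfixed i).symm : i = j))
    rw [C.polar]
    simp [h0]
  · -- transitivity
    obtain ⟨g, hg, hgij⟩ : ∃ g ∈ H, (D i).map (Matrix.toLin' g.val) = D j := by
      by_contra hne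
      push Not at hne
      have hinvS : InvSub H (Submodule.span F (b '' {k | ∃ g ∈ H, (D i).map (Matrix.toLin' g.val) = D k})) := by
        intro g hg w hw
        induction hw using Submodule.span_induction with
        | mem w hw =>
          obtain ⟨k, ⟨g', hg', hk⟩, rfl⟩ := hw
          obtain ⟨π, hπ⟩ := hle hg
          have h1 : g.val *ᵥ b k ∈ D (π k) := hπ k ▸ ⟨b k, hbmem k, Matrix.toLin'_apply _ _⟩
          obtain ⟨c, hc⟩ := Submodule.mem_span_singleton.1 (hb (π k) ▸ h1)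
          rw [← hc]
          refine Submodule.smul_mem _ _ (Submodule.subset_span ⟨π k, ⟨g * g', mul_mem hg hg', ?_⟩, rfl⟩)
          rw [Units.val_mul, Matrix.toLin'_mul, Submodule.map_comp, hk, hπ]
        | zero => rw [Matrix.mulVec_zero]; exact Submodule.zero_mem _
        | add _ _ _ _ ha hb' => rw [Matrix.mulVec_add]; exact Submodule.add_mem _ ha hb'
        | smul c _ _ ha => rw [Matrix.mulVec_smul]; exact Submodule.smul_mem _ c ha
      rcases irr_iff.1 hirr _ hinvS with h | h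
      · refine b.ne_zero i ?_
        rw [← Submodule.mem_bot F, ← h]
        exact Submodule.subset_span ⟨i, ⟨1, one_mem _, by simp⟩, rfl⟩
      · have h1 : b j ∈ Submodule.span F (b '' {k | ∃ g ∈ H, (D i).map (Matrix.toLin' g.val) = D k}) :=
          h ▸ Submodule.mem_top
        rw [b.mem_span_image, b.repr_self] at h1
        simp [Finsupp.support_single_ne_zero] at h1
        obtain ⟨g, hg, hgj⟩ := h1
        exact hne g hg hgj
    have hinj : Function.Injective (Matrix.toLin' g.val) := fun a c h => by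
      rw [Matrix.toLin'_apply, Matrix.toLin'_apply] at h
      simpa only [inv_mulVec_mulVec] using congrArg ((g⁻¹).val *ᵥ ·) h
    refine ⟨(Submodule.equivMapOfInjective _ hinj (D i)).trans (LinearEquiv.ofEq _ _ hgij), fun w => ?_⟩
    show Q (Matrix.toLin' g.val (w : ι → F)) = _
    rw [Matrix.toLin'_apply, Orth.mem_iso.1 (hHU hg)]

/-- A group normalising an absolutely irreducible group of isometries realised over a proper subfield lies in
a subfield group whose structure carries the quadratic form. -/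
theorem orth_realisable_le [Fintype F] (C : Orth.Space Q B) (h2 : (2 : F) ≠ 0) (hodd : Odd (Fintype.card ι))
    (hQrat : ∀ F₁ : Subfield F, ∀ v : ι → F, (∀ i, v i ∈ F₁) → Q v ∈ F₁)
    {H G : Subgroup (GL ι F)} {F₀ : Subfield F} (hF₀ : F₀ ≠ ⊤)
    (hG : ActsAbsolutelyIrreducibly (matrixSet G)) (hGU : G ≤ isometryGroup F Q)
    (hn' : ∀ g ∈ H, ∀ a ∈ G, g * a * g⁻¹ ∈ G) (hreal : RealisableOver F₀ (matrixSet G)) :
    ∃ (F₁ : Subfield F) (s : ℕ) (P : GL ι F), F₁ ≠ ⊤ ∧ s.Prime ∧ Fintype.card F = Nat.card F₁ ^ s ∧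
      IsQuadFormRationalStructure Q F₁ P ∧ H ≤ subfieldSubgroup F₁ P := by
  haveI : Nonempty ι := Fintype.card_pos_iff.1 hodd.pos
  obtain ⟨Bm, hB⟩ := hreal
  obtain ⟨F₁, s, hle, hne, hs, hcard⟩ := exists_prime_index hF₀
  set G₀ := gramMatrix (QuadraticMap.polar Q) with hG₀
  set P₀ : GL ι F := Bm⁻¹ with hP₀
  set J : Matrix ι ι F := P₀.valᵀ * G₀ * P₀.val with hJ
  have hG₀u : IsUnit G₀.det := isUnit_gram C
  have hP₀d : P₀.val.det ≠ 0 := Matrix.GeneralLinearGroup.det_ne_zero P₀
  have hJdet : J.det ≠ 0 := by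
    rw [hJ, Matrix.det_mul, Matrix.det_mul, Matrix.det_transpose]
    exact mul_ne_zero (mul_ne_zero hP₀d hG₀u.ne_zero) hP₀d
  have hrat : ∀ x ∈ G, ∀ i j, (Bm.val * x.val * Bm⁻¹.val) i j ∈ F₁ :=
    fun x hx i j => hle (hB _ (mem_matrixSet hx) i j)
  have hfix : ∀ x ∈ G, (Bm.val * x.val * Bm⁻¹.val)ᵀ * J * (Bm.val * x.val * Bm⁻¹.val) = J := by
    intro x hx
    have h1 : P₀.val * (Bm.val * x.val * Bm⁻¹.val) = x.val * P₀.val := by
      rw [hP₀, ← Matrix.mul_assoc, ← Matrix.mul_assoc, Units.inv_mul, Matrix.one_mul]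
    calc (Bm.val * x.val * Bm⁻¹.val)ᵀ * J * (Bm.val * x.val * Bm⁻¹.val)
        = (P₀.val * (Bm.val * x.val * Bm⁻¹.val))ᵀ * G₀ * (P₀.val * (Bm.val * x.val * Bm⁻¹.val)) := by
          rw [hJ, Matrix.transpose_mul P₀.val]
          simp only [Matrix.mul_assoc]
      _ = P₀.valᵀ * (x.valᵀ * G₀ * x.val) * P₀.val := by
          rw [h1, Matrix.transpose_mul]
          simp only [Matrix.mul_assoc]
      _ = J := by rw [iso_gram C (hGU hx), hJ]
  obtain ⟨i0, j0, h0⟩ : ∃ i j, J i j ≠ 0 := by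
    by_contra hne'
    push Not at hne'
    exact hJdet (by rw [show J = 0 from Matrix.ext hne', Matrix.det_zero])
  obtain ⟨φ, hφ⟩ := LinearMap.exists_leftInverse_of_injective (LinearMap.toSpanSingleton F₁ F (J i0 j0))
    (LinearMap.ker_eq_bot.2 (smul_left_injective F₁ h0))
  have hφ1 : φ (J i0 j0) = 1 := by
    have h1 := LinearMap.congr_fun hφ 1
    simpa using h1
  let ψ : F → F := fun a => ((φ a : F₁) : F)
  have hψl : ∀ (c : F), c ∈ F₁ → ∀ a, ψ (c * a) = c * ψ a := fun c hc a => by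
    simp only [ψ]
    rw [show c * a = (⟨c, hc⟩ : F₁) • a from rfl, map_smul, smul_eq_mul, Subfield.coe_mul]
  have hψs : ∀ (f : ι → F), ψ (∑ k, f k) = ∑ k, ψ (f k) := fun f => by
    simp only [ψ, map_sum, AddSubmonoidClass.coe_finsetSum]
  have hψL : ∀ A X : Matrix ι ι F, (∀ i j, A i j ∈ F₁) → (A * X).map ψ = A * X.map ψ :=
    fun A X hA => Matrix.ext fun i j => by
      simp only [Matrix.map_apply, Matrix.mul_apply, hψs, hψl _ (hA i _)]
  have hψR : ∀ X A : Matrix ι ι F, (∀ i j, A i j ∈ F₁) → (X * A).map ψ = X.map ψ * A :=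
    fun X A hA => Matrix.ext fun i j => by
      simp only [Matrix.map_apply, Matrix.mul_apply, hψs]
      exact Finset.sum_congr rfl fun k _ => by rw [mul_comm, hψl _ (hA k j), mul_comm]
  set M : Matrix ι ι F := J.map ψ with hM
  have hMfix : ∀ x ∈ G, (Bm.val * x.val * Bm⁻¹.val)ᵀ * M * (Bm.val * x.val * Bm⁻¹.val) = M := by
    intro x hx
    set X := Bm.val * x.val * Bm⁻¹.val with hX
    have hA : ∀ i j, Xᵀ i j ∈ F₁ := fun i j => hrat x hx j i
    rw [hM, ← hψL _ _ hA, ← hψR _ _ (hrat x hx), hfix x hx]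
  set M' := Bm.valᵀ * M * Bm.val with hM'
  obtain ⟨c, hc⟩ := hG.2 (G₀⁻¹ * M') (by
    rintro _ ⟨x, hx, rfl⟩
    have e1 : x.valᵀ * M' * x.val = M' := by
      calc x.valᵀ * M' * x.val = (Bm.val * x.val)ᵀ * M * (Bm.val * x.val) := by
            rw [hM', Matrix.transpose_mul]; simp only [Matrix.mul_assoc]
        _ = Bm.valᵀ * ((Bm.val * x.val * Bm⁻¹.val)ᵀ * M * (Bm.val * x.val * Bm⁻¹.val)) * Bm.val := by
            have h1 : Bm.val * x.val = (Bm.val * x.val * Bm⁻¹.val) * Bm.val := by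
              simp only [Matrix.mul_assoc, Units.inv_mul, Matrix.mul_one]
            conv_lhs => rw [h1, Matrix.transpose_mul]
            simp only [Matrix.mul_assoc]
        _ = M' := by rw [hMfix x hx]
    have e2 : G₀ * x.val = (x⁻¹).valᵀ * G₀ := by
      calc G₀ * x.val = ((x * x⁻¹).valᵀ) * (G₀ * x.val) := by simp
        _ = (x⁻¹).valᵀ * (x.valᵀ * G₀ * x.val) := by
            rw [Units.val_mul, Matrix.transpose_mul]; simp only [Matrix.mul_assoc]
        _ = _ := by rw [iso_gram C (hGU hx)]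
    have e3 : M' * x.val = (x⁻¹).valᵀ * M' := by
      calc M' * x.val = ((x * x⁻¹).valᵀ) * (M' * x.val) := by simp
        _ = (x⁻¹).valᵀ * (x.valᵀ * M' * x.val) := by
            rw [Units.val_mul, Matrix.transpose_mul]; simp only [Matrix.mul_assoc]
        _ = _ := by rw [e1]
    have e4 : G₀⁻¹ * (x⁻¹).valᵀ = x.val * G₀⁻¹ := by
      calc G₀⁻¹ * (x⁻¹).valᵀ = G₀⁻¹ * ((x⁻¹).valᵀ * G₀) * G₀⁻¹ := by
            rw [Matrix.mul_assoc, Matrix.mul_assoc, Matrix.mul_nonsing_inv _ hG₀u, Matrix.mul_one]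
        _ = x.val * G₀⁻¹ := by rw [← e2, ← Matrix.mul_assoc G₀⁻¹, Matrix.nonsing_inv_mul _ hG₀u, Matrix.one_mul]
    rw [Matrix.mul_assoc, e3, ← Matrix.mul_assoc, e4, Matrix.mul_assoc])
  have hMJ : M = c • J := by
    have hBP : Bm.val * P₀.val = 1 := by rw [hP₀, Units.mul_inv]
    have h1 : M' = c • G₀ := by
      have := congrArg (fun z => G₀ * z) hc
      simpa [← Matrix.mul_assoc, Matrix.mul_nonsing_inv _ hG₀u] using this
    calc M = (Bm.val * P₀.val)ᵀ * M * (Bm.val * P₀.val) := by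
          rw [hBP, Matrix.transpose_one, Matrix.one_mul, Matrix.mul_one]
      _ = P₀.valᵀ * M' * P₀.val := by rw [hM', Matrix.transpose_mul]; simp only [Matrix.mul_assoc]
      _ = c • J := by rw [h1, hJ, Matrix.mul_smul, Matrix.smul_mul]
  have hMmem : ∀ i j, M i j ∈ F₁ := fun i j => (φ (J i j)).2
  have hM1 : M i0 j0 = 1 := by rw [hM, Matrix.map_apply]; simp [ψ, hφ1]
  have hc0 : c ≠ 0 := fun h => by
    rw [hMJ, h, zero_smul] at hM1
    exact zero_ne_one hM1
  -- the multiplier is a square times an element of F₁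
  obtain ⟨k, hk⟩ := hodd
  have hdet : M.det = c * (c ^ k * P₀.val.det) ^ 2 * G₀.det := by
    rw [hMJ, Matrix.det_smul, hJ, Matrix.det_mul, Matrix.det_mul, Matrix.det_transpose, hk]
    ring
  set a : F := c ^ (k + 1) * P₀.val.det with ha
  have ha2 : a ^ 2 = c * (M.det / G₀.det) := by
    rw [hdet, mul_div_assoc, div_self hG₀u.ne_zero, ha]
    ring
  have hdetM : M.det ∈ F₁ := by
    rw [Matrix.det_apply']
    exact sum_mem fun σ _ => mul_mem (intCast_mem F₁ _) (prod_mem fun i _ => hMmem _ _)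
  have hG₀mem : ∀ i j, G₀ i j ∈ F₁ := fun i j => by
    have hs : ∀ i : ι, ∀ l, (Pi.single i (1 : F) : ι → F) l ∈ F₁ := fun i l => by
      rcases eq_or_ne l i with rfl | h <;> simp [*, F₁.one_mem, F₁.zero_mem]
    rw [hG₀, gramMatrix, QuadraticMap.polar]
    exact sub_mem (sub_mem (hQrat F₁ _ fun l => add_mem (hs i l) (hs j l)) (hQrat F₁ _ (hs i))) (hQrat F₁ _ (hs j))
  have hdetG : G₀.det ∈ F₁ := by
    rw [Matrix.det_apply']
    exact sum_mem fun σ _ => mul_mem (intCast_mem F₁ _) (prod_mem fun i _ => hG₀mem _ _)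
  have ha0 : a ≠ 0 := mul_ne_zero (pow_ne_zero _ hc0) hP₀d
  have hkey : ∀ i j, a * a * J i j ∈ F₁ := fun i j => by
    rw [← sq, ha2, mul_right_comm, ← show M i j = c * J i j by rw [hMJ]; rfl]
    exact F₁.mul_mem (hMmem i j) (F₁.div_mem hdetM hdetG)
  let z : GL ι F := Units.map (Matrix.scalar ι : F →+* _).toMonoidHom (Units.mk0 a ha0)
  refine ⟨F₁, s, P₀ * z, hne, hs, hcard, fun u hu => ?_, fun h hh => ?_⟩
  · have hP : (P₀ * z).val *ᵥ u = a • (P₀.val *ᵥ u) := by
      rw [mul_mulVec]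
      show P₀.val *ᵥ (Matrix.scalar ι a *ᵥ u) = _
      rw [Matrix.scalar_apply, ← Matrix.smul_one_eq_diagonal, Matrix.smul_mulVec, Matrix.one_mulVec,
        Matrix.mulVec_smul]
    rw [hP, C.smul]
    have h1 : (2 : F) * (a ^ 2 * Q (P₀.val *ᵥ u)) = ∑ i, ∑ j, u i * u j * (a * a * J i j) := by
      rw [mul_left_comm, ← C.self, ← C.polar, sesq_act (isSesq_polar C),
        show P₀.val.map (RingEquiv.refl F) = P₀.val from Matrix.ext fun i j => rfl, ← hG₀, ← hJ]
      simp only [dotProduct, Matrix.mulVec, Function.comp_apply, RingEquiv.refl_apply, Finset.mul_sum]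
      exact Finset.sum_congr rfl fun i _ => Finset.sum_congr rfl fun j _ => by ring
    have h3 : (2 : F) * (a ^ 2 * Q (P₀.val *ᵥ u)) ∈ F₁ := h1 ▸
      sum_mem fun i _ => sum_mem fun j _ => mul_mem (mul_mem (hu i) (hu j)) (hkey i j)
    have h4 := F₁.mul_mem (F₁.inv_mem (show (2 : F) ∈ F₁ by exact_mod_cast natCast_mem F₁ 2)) h3
    rwa [← mul_assoc, inv_mul_cancel₀ h2, one_mul] at h4
  · have h1 : Rat0.RatG F₁ (Bm * h * Bm⁻¹) :=
      ratG_mono hle (rat_normalizer hG F₀ Bm (fun x hx => hB _ (mem_matrixSet hx)) (hn' h hh))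
    rw [mem_subfieldSubgroup_iff]
    have hsc : ∀ g : GL ι F, Commute z g := fun g => (scalars_comm (g := g) ⟨_, rfl⟩).symm
    convert h1 using 1
    rw [mul_inv_rev, hP₀, inv_inv, show z⁻¹ * Bm * h * (Bm⁻¹ * z) = z⁻¹ * (Bm * h * Bm⁻¹ * z) by group,
      ← (hsc _).eq, inv_mul_cancel_left]

end Cfsg.Lib.Linear.Asch
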