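import Cfsg.Agent.Lib.Linear.Aschbacher.Basic
import Cfsg.Agent.S0752

/-!
# Forms fixed by absolutely irreducible groups
-/

set_option autoImplicit false
set_option linter.unusedSectionVars false
set_option linter.style.haveILetI false

namespace Cfsg.Lib.Linear.Asch

open Cfsg.Geo Cfsg.Lib.Linear
open scoped Matrix MatrixGroups

variable {ι : Type} [Fintype ι] [DecidableEq ι] {F : Type*} [Field F]

/-- A non-degenerate form, linear in the first and `σ`-semilinear in the second argument. -/
structure IsSesq (σ : F ≃+* F) (f : (ι → F) → (ι → F) → F) : Prop where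
  add_left : ∀ x y v, f (x + y) v = f x v + f y v
  smul_left : ∀ (c : F) (x v : ι → F), f (c • x) v = c * f x v
  add_right : ∀ v x y, f v (x + y) = f v x + f v y
  smul_right : ∀ (c : F) (v x : ι → F), f v (c • x) = σ c * f v x
  nondeg : ∀ v : ι → F, v ≠ 0 → ∃ x, f x v ≠ 0

theorem isSesq_of_unitary {σ : F ≃+* F} {f : (ι → F) → (ι → F) → F} (hf : IsUnitaryForm σ f) :
    IsSesq σ f where
  add_left := hf.add_left
  smul_left := hf.smul_left
  add_right := fun v x y => by rw [hf.herm, hf.add_left, map_add, ← hf.herm, ← hf.herm]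
  smul_right := fun c v x => by rw [hf.herm, hf.smul_left, map_mul, ← hf.herm]
  nondeg := fun v hv => (hf.nondegenerate v hv).1

theorem isSesq_of_bilinear {f : (ι → F) → (ι → F) → F} (hb : IsBilinearForm f)
    (hn : IsNondegenerateForm f) : IsSesq (RingEquiv.refl F) f where
  add_left := hb.add_left
  smul_left := hb.smul_left
  add_right := hb.add_right
  smul_right := hb.smul_right
  nondeg := fun v hv => (hn v hv).1

variable {σ : F ≃+* F} {f : (ι → F) → (ι → F) → F}

theorem sesq_gram (hf : IsSesq σ f) (u v : ι → F) : f u v = u ⬝ᵥ (gramMatrix f) *ᵥ (σ ∘ v) := by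
  let L : (ι → F) → (ι → F) →ₗ[F] F := fun v =>
    { toFun := fun u => f u v, map_add' := fun a b => hf.add_left a b v, map_smul' := fun c a => hf.smul_left c a v }
  let R : (ι → F) → (ι → F) →+ F := fun u =>
    AddMonoidHom.mk' (fun v => f u v) (fun a b => hf.add_right u a b)
  have h1 : f u v = ∑ a, u a * f (Pi.single a 1) v := by
    conv_lhs => rw [pi_eq_sum_univ' u]
    rw [show f _ v = L v _ from rfl, map_sum]
    exact Finset.sum_congr rfl fun a _ => hf.smul_left _ _ _
  have h2 : ∀ w, f w v = ∑ b, σ (v b) * f w (Pi.single b 1) := fun w => by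
    conv_lhs => rw [pi_eq_sum_univ' v]
    rw [show f w _ = R w _ from rfl, map_sum]
    exact Finset.sum_congr rfl fun a _ => hf.smul_right _ _ _
  rw [h1]
  simp only [dotProduct, Matrix.mulVec, gramMatrix, h2, Function.comp_apply]
  exact Finset.sum_congr rfl fun a _ => by
    congr 1
    exact Finset.sum_congr rfl fun b _ => mul_comm _ _

theorem map_mulVec' (σ : F ≃+* F) (g : Matrix ι ι F) (v : ι → F) :
    σ ∘ (g *ᵥ v) = g.map σ *ᵥ (σ ∘ v) :=
  funext fun i => RingHom.map_mulVec σ.toRingHom g v i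

theorem sesq_act (hf : IsSesq σ f) (g : Matrix ι ι F) (u v : ι → F) :
    f (g *ᵥ u) (g *ᵥ v) = u ⬝ᵥ (gᵀ * gramMatrix f * g.map σ) *ᵥ (σ ∘ v) := by
  rw [sesq_gram hf, map_mulVec', Matrix.mulVec_mulVec, ← Matrix.vecMul_transpose, ← Matrix.dotProduct_mulVec,
    Matrix.mulVec_mulVec, Matrix.mul_assoc]

theorem mat_eq (σ : F ≃+* F) {M M' : Matrix ι ι F}
    (h : ∀ u v : ι → F, u ⬝ᵥ M *ᵥ (σ ∘ v) = u ⬝ᵥ M' *ᵥ (σ ∘ v)) : M = M' := by
  ext i j
  have h1 := h (Pi.single i 1) (Pi.single j 1)
  have e : σ ∘ (Pi.single j (1 : F) : ι → F) = Pi.single j 1 := by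
    funext k
    by_cases hk : k = j
    · subst hk; simp
    · simp [hk]
  simpa [e, Matrix.mulVec_single_one, single_dotProduct] using h1

theorem isUnit_det_gram (hf : IsSesq σ f) : IsUnit (gramMatrix f).det := by
  rw [isUnit_iff_ne_zero]
  intro hd
  obtain ⟨w, hw0, hw⟩ := Matrix.exists_mulVec_eq_zero_iff.2 hd
  obtain ⟨x, hx⟩ := hf.nondeg (σ.symm ∘ w) (fun h => hw0 (funext fun i => by
    have h1 := congrArg σ (congrFun h i)
    simpa using h1))
  refine hx ?_
  rw [sesq_gram hf, show σ ∘ σ.symm ∘ w = w from funext fun i => σ.apply_symm_apply _, hw, dotProduct_zero]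

theorem fixes_gram (hf : IsSesq σ f) {S : Set (Matrix ι ι F)} (hS : FixesForm S f) :
    ∀ s ∈ S, sᵀ * gramMatrix f * s.map σ = gramMatrix f := fun s hs =>
  mat_eq σ fun u v => by rw [← sesq_act hf, hS s hs, sesq_gram hf]

/-- An element normalising an absolutely irreducible group of isometries of a form is a similarity. -/
theorem mem_similarityGroup [Nonempty ι] {G : Subgroup (GL ι F)}
    (hG : ActsAbsolutelyIrreducibly (matrixSet G)) (hf : IsSesq σ f) (hfix : FixesForm (matrixSet G) f)
    {h : GL ι F} (hn : ∀ x ∈ G, h * x * h⁻¹ ∈ G) : h ∈ similarityGroup f := by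
  set M := gramMatrix f with hM
  set M' := h.valᵀ * M * h.val.map σ with hM'
  have hMu : IsUnit M.det := isUnit_det_gram hf
  have hM'x : ∀ x ∈ G, x.valᵀ * M' * x.val.map σ = M' := by
    intro x hx
    have hx' : (h.val * x.val) = (h * x * h⁻¹).val * h.val := by
      rw [← Units.val_mul, ← Units.val_mul, inv_mul_cancel_right]
    calc x.valᵀ * M' * x.val.map σ = (h.val * x.val)ᵀ * M * (h.val * x.val).map σ := by
          rw [hM', Matrix.transpose_mul, Matrix.map_mul]; simp only [Matrix.mul_assoc]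
      _ = h.valᵀ * ((h * x * h⁻¹).valᵀ * M * (h * x * h⁻¹).val.map σ) * h.val.map σ := by
          rw [hx', Matrix.transpose_mul, Matrix.map_mul]; simp only [Matrix.mul_assoc]
      _ = M' := by rw [fixes_gram hf hfix _ (mem_matrixSet (hn x hx))]
  set X := M⁻¹ * M' with hX
  have hcomm : ∀ x ∈ G, X * x.val.map σ = x.val.map σ * X := by
    intro x hx
    have hxt : IsUnit x.valᵀ.det := by
      rw [Matrix.det_transpose]; exact x.isUnit.map Matrix.detMonoidHom
    have h1 : ∀ N : Matrix ι ι F, x.valᵀ * N * x.val.map σ = N → N * x.val.map σ = (x.valᵀ)⁻¹ * N := by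
      intro N hN
      conv_rhs => rw [← hN]
      simp only [← Matrix.mul_assoc, Matrix.nonsing_inv_mul _ hxt, Matrix.one_mul]
    have hMx := h1 M (fixes_gram hf hfix _ (mem_matrixSet hx))
    have hM'x' := h1 M' (hM'x x hx)
    have h2 : M⁻¹ * (x.valᵀ)⁻¹ = x.val.map σ * M⁻¹ := by
      calc M⁻¹ * (x.valᵀ)⁻¹ = M⁻¹ * ((x.valᵀ)⁻¹ * M) * M⁻¹ := by
            rw [Matrix.mul_assoc, Matrix.mul_assoc, Matrix.mul_nonsing_inv _ hMu, Matrix.mul_one]
        _ = M⁻¹ * (M * x.val.map σ) * M⁻¹ := by rw [hMx]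
        _ = x.val.map σ * M⁻¹ := by rw [← Matrix.mul_assoc M⁻¹, Matrix.nonsing_inv_mul _ hMu, Matrix.one_mul]
    rw [hX, Matrix.mul_assoc, hM'x', ← Matrix.mul_assoc, h2, Matrix.mul_assoc]
  obtain ⟨c, hc⟩ := hG.2 (X.map σ.symm) (by
    rintro _ ⟨x, hx, rfl⟩
    have h1 := congrArg (fun z => z.map σ.symm) (hcomm x hx)
    simpa [Matrix.map_mul, Matrix.map_map, Function.comp_def] using h1)
  have hXc : X = σ c • (1 : Matrix ι ι F) := by
    have h1 := congrArg (fun z => z.map σ) hc
    simp only [Matrix.map_map] at h1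
    rw [show (⇑σ ∘ ⇑σ.symm) = id from funext fun a => σ.apply_symm_apply a, Matrix.map_id] at h1
    rw [h1]
    ext i j
    by_cases hij : i = j <;> simp [Matrix.one_apply, hij]
  have hM'c : M' = σ c • M := by
    have h1 := congrArg (fun z => M * z) hXc
    rw [hX] at h1
    simp only [Matrix.mul_smul, Matrix.mul_one, ← Matrix.mul_assoc, Matrix.mul_nonsing_inv _ hMu,
      Matrix.one_mul] at h1
    exact h1
  have hc0 : σ c ≠ 0 := by
    intro h0
    have h1 : M'.det = 0 := by rw [hM'c, h0, zero_smul, Matrix.det_zero]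
    have hhu : IsUnit h.val.det := h.isUnit.map Matrix.detMonoidHom
    rw [hM', Matrix.det_mul, Matrix.det_mul, Matrix.det_transpose] at h1
    have hs : (h.val.map σ).det = σ h.val.det := (RingHom.map_det σ.toRingHom h.val).symm
    rw [hs] at h1
    simp [hhu.ne_zero, hMu.ne_zero] at h1
  refine ⟨Units.mk0 _ hc0, fun u v => ?_⟩
  rw [Units.val_mk0, sesq_act hf, ← hM', hM'c, sesq_gram hf, Matrix.smul_mulVec, dotProduct_smul,
    smul_eq_mul]

/-- The special linear group does not consist of similarities of a non-degenerate form. -/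
theorem not_SL_le_similarityGroup (hn : 3 ≤ Fintype.card ι) (hf : IsSesq σ f) :
    ¬ specialLinear ι F ≤ similarityGroup f := fun hle => by
  obtain ⟨v, hv⟩ : ∃ v : ι → F, v ≠ 0 := by
    obtain ⟨i⟩ : Nonempty ι := Fintype.card_pos_iff.1 (by omega)
    exact ⟨Pi.single i 1, by simp⟩
  obtain ⟨w, hw⟩ : ∃ w, f v w ≠ 0 := by
    by_contra hne
    push Not at hne
    have h1 : v ᵥ* gramMatrix f = 0 := by
      funext j
      have h2 := hne (σ.symm ∘ Pi.single j 1)
      rw [sesq_gram hf, show σ ∘ σ.symm ∘ Pi.single j (1 : F) = Pi.single j 1 from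
        funext fun i => σ.apply_symm_apply _, Matrix.dotProduct_mulVec, dotProduct_single, mul_one] at h2
      exact h2
    exact hv (Matrix.vecMul_injective_of_isUnit ((Matrix.isUnit_iff_isUnit_det _).2 (isUnit_det_gram hf))
      (h1.trans (Matrix.zero_vecMul _).symm))
  obtain ⟨a, ha0, hav, haw⟩ := Rat0.exists_perp_pair hn v w
  rw [dotProduct_comm] at hav haw
  obtain ⟨k, hk⟩ := Function.ne_iff.1 ha0
  obtain ⟨c, hc⟩ := hle (tv_mem_SL v a hav)
  simp only [coe_tv, tvMat_mulVec] at hc
  have hc1 : (c : F) = 1 := by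
    have h1 : f v w = c * f v w := by simpa [hav, haw] using hc v w
    exact (mul_eq_right₀ hw).1 h1.symm
  set u : ι → F := (a k)⁻¹ • Pi.single k 1
  have hau : a ⬝ᵥ u = 1 := by
    simp [u, inv_mul_cancel₀ (show a k ≠ 0 from hk)]
  have h2 := hc u w
  rw [hau, haw, one_smul, zero_smul, add_zero, hc1, one_mul, hf.add_left] at h2
  exact hw (by linear_combination h2)

/-- The similarity group of a quadratic form is that of its polar form in odd characteristic. -/
theorem quadSimilarityGroup_eq (h2 : (2 : F) ≠ 0) {Q : (ι → F) → F} (hQ : IsNondegenerateQuadraticForm Q) :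
    quadSimilarityGroup Q = similarityGroup (QuadraticMap.polar Q) := by
  have hpolar : ∀ v, QuadraticMap.polar Q v v = 2 * Q v := fun v => by
    rw [QuadraticMap.polar, ← two_smul F v, hQ.smul]
    ring
  ext g
  constructor
  · rintro ⟨c, hc⟩
    exact ⟨c, fun u v => by simp only [QuadraticMap.polar, ← Matrix.mulVec_add, hc]; ring⟩
  · rintro ⟨c, hc⟩
    refine ⟨c, fun v => mul_left_cancel₀ h2 ?_⟩
    rw [← hpolar, hc, hpolar]
    ring

/-- A group of isometries of a quadratic form fixes the polar form. -/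
theorem fixesForm_polar {S : Set (Matrix ι ι F)} {Q : (ι → F) → F} (h : FixesQuadForm S Q) :
    FixesForm S (QuadraticMap.polar Q) := fun s hs u v => by
  simp only [QuadraticMap.polar, ← Matrix.mulVec_add, h s hs]

/-- There are no non-degenerate alternating forms in odd dimension. -/
theorem not_alt_odd (hodd : Odd (Fintype.card ι)) (hb : IsBilinearForm f) (halt : ∀ v, f v v = 0)
    (hn : IsNondegenerateForm f) : False := by
  let B : LinearMap.BilinForm F (ι → F) := LinearMap.mk₂ F f hb.add_left hb.smul_left hb.add_right hb.smul_right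
  obtain ⟨m, k, b, -, -, -, h4⟩ := Cfsg.Agent.S0752.result B halt
  have hk : k = 0 := by
    by_contra hk
    obtain ⟨-, x, hx⟩ := hn _ (b.ne_zero (Sum.inr ⟨0, Nat.pos_of_ne_zero hk⟩))
    exact hx (h4 _ x)
  subst hk
  have h := Module.finrank_eq_card_basis b
  rw [Module.finrank_fintype_fun_eq_card, Fintype.card_sum, Fintype.card_sum, Fintype.card_fin,
    Fintype.card_fin, add_zero] at h
  rw [Nat.odd_iff] at hodd
  omega

theorem two_ne_zero_or_alt {Q : (ι → F) → F} (hQ : IsNondegenerateQuadraticForm Q)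
    (hodd : Odd (Fintype.card ι)) : (2 : F) ≠ 0 := fun h2 => by
  refine not_alt_odd hodd hQ.polar_bilinear (fun v => ?_) hQ.nondegenerate
  rw [QuadraticMap.polar, ← two_smul F v, hQ.smul, h2]
  linear_combination (-(Q v)) * h2

end Cfsg.Lib.Linear.Asch
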