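import Cfsg.Agent.Lib.Linear.Aschbacher.Basic

/-!
# Clifford's theorem in prime dimension

A normal subgroup of an irreducible group of prime degree is scalar, irreducible, or diagonal with
pairwise different characters, in which case the group is monomial.
-/

set_option autoImplicit false
set_option linter.unusedSectionVars false
set_option linter.style.haveILetI false

namespace Cfsg.Lib.Linear.Asch

open Cfsg.Geo Cfsg.Lib.Linear Module
open scoped Matrix MatrixGroups

variable {ι : Type} [Fintype ι] [DecidableEq ι] {F : Type*} [Field F]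

theorem finrank_move (g : GL ι F) (W : Submodule F (ι → F)) : finrank F (move g W) = finrank F W :=
  (LinearEquiv.finrank_eq (Submodule.equivMapOfInjective (Matrix.toLin' (g : Matrix ι ι F))
    (fun a b h => by
      rw [Matrix.toLin'_apply, Matrix.toLin'_apply] at h
      simpa only [inv_mulVec_mulVec] using congrArg ((g⁻¹).val *ᵥ ·) h) W)).symm

theorem invSub_move {G N : Subgroup (GL ι F)} (hN : ∀ g ∈ G, ∀ x ∈ N, g * x * g⁻¹ ∈ N) {g : GL ι F}
    (hg : g ∈ G) {W : Submodule F (ι → F)} (hW : InvSub N W) : InvSub N (move g W) := fun x hx v hv => by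
  obtain ⟨w, hw, rfl⟩ := mem_move.1 hv
  refine mem_move.2 ⟨(g⁻¹ * x * g).val *ᵥ w, hW _ ?_ w hw, ?_⟩
  · simpa using hN g⁻¹ (inv_mem hg) x hx
  · rw [← mul_mulVec, ← mul_mulVec]
    congr 2
    group

theorem move_ne_zero (g : GL ι F) {v : ι → F} (hv : v ≠ 0) : g.val *ᵥ v ≠ 0 := fun h =>
  hv (by rw [← inv_mulVec_mulVec g v, h, Matrix.mulVec_zero])

/-- The lines of `D` are eigenspaces of `N` with pairwise different characters. -/
def Separated {t : ℕ} (N : Subgroup (GL ι F)) (D : Fin t → Submodule F (ι → F)) : Prop :=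
  (∀ i, ∀ x ∈ N, ∃ c : F, ∀ v ∈ D i, x.val *ᵥ v = c • v) ∧
    ∀ i j, i ≠ j → ∃ x ∈ N, ∃ a b : F, a ≠ b ∧ (∀ v ∈ D i, x.val *ᵥ v = a • v) ∧ ∀ v ∈ D j, x.val *ᵥ v = b • v

/-- Clifford's theorem in prime dimension. -/
theorem clifford_prime {G N : Subgroup (GL ι F)} {r : ℕ} (hr : r.Prime) (hcard : Fintype.card ι = r)
    (hG : ActsIrreducibly (matrixSet G)) (hN : ∀ g ∈ G, ∀ x ∈ N, g * x * g⁻¹ ∈ N) :
    N ≤ scalars ι F ∨ ActsIrreducibly (matrixSet N) ∨
      ∃ D : Fin r → Submodule F (ι → F), IsMDecomposition 1 D ∧ G ≤ decompositionStabilizer D ∧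
        (∀ x ∈ N, ∀ y ∈ N, x * y = y * x) ∧ Separated N D := by
  classical
  haveI : Nonempty ι := Fintype.card_pos_iff.1 (hcard ▸ hr.pos)
  have hn : finrank F (ι → F) = r := by rw [Module.finrank_fintype_fun_eq_card, hcard]
  by_cases hirr : ActsIrreducibly (matrixSet N)
  · exact Or.inr (Or.inl hirr)
  have hex : ∃ d, ∃ W, InvSub N W ∧ W ≠ ⊥ ∧ finrank F W = d :=
    ⟨_, ⊤, fun _ _ _ _ => Submodule.mem_top, top_ne_bot, rfl⟩
  obtain ⟨W, hW, hW0, hWd⟩ := Nat.find_spec hex
  set d := Nat.find hex with hd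
  have hmin : ∀ X, InvSub N X → X ≠ ⊥ → d ≤ finrank F X := fun X h1 h2 =>
    Nat.find_min' hex ⟨X, h1, h2, rfl⟩
  have hdr : d < r := by
    rw [irr_iff] at hirr
    push Not at hirr
    obtain ⟨X, hX, hX0, hX1⟩ := hirr
    exact (hmin X hX hX0).trans_lt (hn ▸ Submodule.finrank_lt hX1)
  have hdpos : 0 < d := hWd ▸ Nat.pos_of_ne_zero (fun h => hW0 (Submodule.finrank_eq_zero.1 h))
  -- d divides r
  have hd1 : d = 1 := by
    let P : ℕ → Prop := fun k => ∃ U, InvSub N U ∧ d ∣ finrank F U ∧ finrank F U = k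
    obtain ⟨U, hU, hdU, hUk⟩ : P (Nat.findGreatest P r) :=
      Nat.findGreatest_spec (Nat.zero_le r) ⟨⊥, fun g _ w hw => by
        rw [Submodule.mem_bot] at hw ⊢; rw [hw, Matrix.mulVec_zero], by simp, by simp⟩
    have hUmax : ∀ g ∈ G, move g W ≤ U := fun g hg => by
      by_contra hle
      have hW' := invSub_move hN hg hW
      have hW'd : finrank F (move g W) = d := (finrank_move g W).trans hWd
      have hinf : InvSub N (move g W ⊓ U) := fun x hx v hv => ⟨hW' x hx v hv.1, hU x hx v hv.2⟩
      have hbot : move g W ⊓ U = ⊥ := by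
        by_contra hne
        refine hle (inf_eq_left.1 (Submodule.eq_of_le_of_finrank_le inf_le_left ?_))
        rw [hW'd]
        exact hmin _ hinf hne
      have hsum : InvSub N (move g W ⊔ U) := fun x hx v hv => by
        obtain ⟨a, ha, b, hb, rfl⟩ := Submodule.mem_sup.1 hv
        rw [Matrix.mulVec_add]
        exact Submodule.add_mem_sup (hW' x hx a ha) (hU x hx b hb)
      have hfr := Submodule.finrank_sup_add_finrank_inf_eq (move g W) U
      rw [hbot, finrank_bot, add_zero, hW'd, hUk] at hfr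
      have hle' : d + Nat.findGreatest P r ≤ r := hfr ▸ hn ▸ Submodule.finrank_le _
      have := Nat.le_findGreatest (P := P) hle'
        ⟨_, hsum, hfr ▸ Nat.dvd_add (dvd_refl d) (hUk ▸ hdU), hfr⟩
      omega
    have htop : U = ⊤ := by
      have hS : InvSub G (⨆ g : G, move (g : GL ι F) W) := fun g hg v hv => by
        induction hv using Submodule.iSup_induction' with
        | mem h v hv =>
          obtain ⟨w, hw, rfl⟩ := mem_move.1 hv
          exact Submodule.mem_iSup_of_mem ⟨g * h, mul_mem hg h.2⟩ (mem_move.2 ⟨w, hw, mul_mulVec _ _ _⟩)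
        | zero => rw [Matrix.mulVec_zero]; exact Submodule.zero_mem _
        | add _ _ _ _ ha hb => rw [Matrix.mulVec_add]; exact Submodule.add_mem _ ha hb
      rcases irr_iff.1 hG _ hS with h | h
      · exfalso
        refine hW0 (le_bot_iff.1 (fun w hw => ?_))
        rw [← h]
        exact Submodule.mem_iSup_of_mem (1 : G) (mem_move.2 ⟨w, hw, by simp⟩)
      · exact eq_top_iff.2 (h ▸ iSup_le fun g => hUmax g g.2)
    rw [htop, finrank_top, hn] at hdU
    exact ((Nat.dvd_prime hr).1 hdU).resolve_right hdr.ne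
  -- common eigenvectors
  let Eig : Set (ι → F) := {v | v ≠ 0 ∧ ∀ x ∈ N, ∃ c : F, x.val *ᵥ v = c • v}
  obtain ⟨w0, hw0, hw00⟩ := Submodule.exists_mem_ne_zero_of_ne_bot hW0
  have hWline : W = Submodule.span F {w0} :=
    (Submodule.eq_of_le_of_finrank_le ((Submodule.span_singleton_le_iff_mem _ _).2 hw0)
      (by rw [hWd, hd1, finrank_span_singleton hw00])).symm
  have hEig : ∀ g ∈ G, g.val *ᵥ w0 ∈ Eig := fun g hg => by
    refine ⟨move_ne_zero g hw00, fun x hx => ?_⟩
    have h1 := invSub_move hN hg hW x hx _ (mem_move.2 ⟨w0, hw0, rfl⟩)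
    rw [hWline] at h1
    obtain ⟨w, hw, he⟩ := mem_move.1 h1
    obtain ⟨c, rfl⟩ := Submodule.mem_span_singleton.1 hw
    exact ⟨c, by rw [← he, Matrix.mulVec_smul]⟩
  have hspanEig : ⊤ ≤ Submodule.span F Eig := by
    have hS : InvSub G (Submodule.span F {v | ∃ g ∈ G, g.val *ᵥ w0 = v}) := fun g hg v hv => by
      induction hv using Submodule.span_induction with
      | mem v hv =>
        obtain ⟨h, hh, rfl⟩ := hv
        exact Submodule.subset_span ⟨g * h, mul_mem hg hh, mul_mulVec _ _ _⟩
      | zero => rw [Matrix.mulVec_zero]; exact Submodule.zero_mem _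
      | add _ _ _ _ ha hb => rw [Matrix.mulVec_add]; exact Submodule.add_mem _ ha hb
      | smul c _ _ ha => rw [Matrix.mulVec_smul]; exact Submodule.smul_mem _ c ha
    rcases irr_iff.1 hG _ hS with h | h
    · exfalso
      refine hw00 ?_
      rw [← Submodule.mem_bot F, ← h]
      exact Submodule.subset_span ⟨1, one_mem _, by simp⟩
    · rw [← h]
      refine Submodule.span_mono ?_
      rintro _ ⟨g, hg, rfl⟩
      exact hEig g hg
  let B := Module.Basis.ofSpan hspanEig
  have hBmem : ∀ i, B i ∈ Eig := fun i => Module.Basis.ofSpan_subset hspanEig ⟨i, rfl⟩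
  haveI := FiniteDimensional.fintypeBasisIndex B
  have hBcard : Fintype.card ↑((linearIndepOn_empty F (id : (ι → F) → ι → F)).extend (Set.empty_subset Eig)) = r := by
    rw [← Module.finrank_eq_card_basis B, hn]
  let b : Module.Basis (Fin r) F (ι → F) := B.reindex (Fintype.equivFinOfCardEq hBcard)
  have hb : ∀ i, b i ∈ Eig := fun i => by rw [Module.Basis.reindex_apply]; exact hBmem _
  choose lam hlam using fun i (x : N) => (hb i).2 x x.2
  -- eigenspaces in coordinates
  have hco : ∀ (μ : N → F) (v : ι → F), (∀ x : N, x.1.val *ᵥ v = μ x • v) →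
      ∀ i, b.repr v i ≠ 0 → lam i = μ := by
    intro μ v hv i hi
    funext x
    have e : x.1.val *ᵥ v = ∑ j, (b.repr v j * lam j x) • b j := by
      conv_lhs => rw [← b.sum_repr v]
      rw [Matrix.mulVec_sum]
      exact Finset.sum_congr rfl fun j _ => by rw [Matrix.mulVec_smul, hlam, smul_smul]
    have h1 := congrArg (fun u => b.repr u i) ((hv x).symm.trans e)
    simp only [b.repr_sum_self, map_smul, Finsupp.smul_apply, smul_eq_mul] at h1
    exact mul_left_cancel₀ hi (by rw [← h1, mul_comm])
  let E : (N → F) → Submodule F (ι → F) := fun μ =>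
    { carrier := {v | ∀ x : N, x.1.val *ᵥ v = μ x • v}
      add_mem' := fun {u v} hu hv x => by rw [Matrix.mulVec_add, hu, hv, smul_add]
      zero_mem' := fun x => by rw [Matrix.mulVec_zero, smul_zero]
      smul_mem' := fun c v hv x => by rw [Matrix.mulVec_smul, hv, smul_comm] }
  have hEspan : ∀ μ, E μ = Submodule.span F (b '' {i | lam i = μ}) := fun μ => by
    refine le_antisymm (fun v hv => ?_) (Submodule.span_le.2 ?_)
    · rw [b.mem_span_image]
      exact fun i hi => hco μ v hv i (Finsupp.mem_support_iff.1 hi)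
    · rintro _ ⟨i, rfl, rfl⟩
      exact hlam i
  have hEdim : ∀ μ, finrank F (E μ) = Fintype.card {i // lam i = μ} := fun μ => by
    rw [hEspan, Set.image_eq_range]
    exact finrank_span_eq_card (b.linearIndependent.comp _ Subtype.val_injective)
  let conjN : GL ι F → (N → F) → N → F := fun g μ x =>
    if hg : g ∈ G then μ ⟨g⁻¹ * x * g, by simpa using hN g⁻¹ (inv_mem hg) x x.2⟩ else μ x
  have hmove : ∀ g ∈ G, ∀ μ v, v ∈ E μ → g.val *ᵥ v ∈ E (conjN g μ) := fun g hg μ v hv x => by
    have h1 := hv ⟨g⁻¹ * x * g, by simpa using hN g⁻¹ (inv_mem hg) x x.2⟩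
    simp only [conjN, dif_pos hg]
    rw [← mul_mulVec, show (x : GL ι F) * g = g * (g⁻¹ * x * g) by group, mul_mulVec]
    simp only at h1
    rw [h1, Matrix.mulVec_smul]
  have hcc : ∀ g ∈ G, ∀ μ, conjN g⁻¹ (conjN g μ) = μ := fun g hg μ => by
    funext x
    simp only [conjN, dif_pos hg, dif_pos (inv_mem hg)]
    congr 1
    apply Subtype.ext
    simp only
    group
  by_cases hall : ∀ i j, lam i = lam j
  · refine Or.inl fun x hx => ?_
    obtain ⟨i0⟩ : Nonempty (Fin r) := ⟨⟨0, hr.pos⟩⟩
    refine mem_scalars_of_smul (c := lam i0 ⟨x, hx⟩) (Matrix.toLin'.injective (b.ext fun i => ?_))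
    rw [Matrix.toLin'_apply, hlam i ⟨x, hx⟩, hall i i0, Matrix.toLin'_apply, Matrix.smul_mulVec,
      Matrix.one_mulVec]
  push Not at hall
  obtain ⟨i0, j0, hij⟩ := hall
  have htrans : ∀ i j, Fintype.card {k // lam k = lam i} = Fintype.card {k // lam k = lam j} := by
    intro i j
    obtain ⟨g, hg, hgE⟩ : ∃ g ∈ G, conjN g (lam i) = lam j := by
      have hS : InvSub G (Submodule.span F {u | ∃ g ∈ G, ∃ v ∈ E (lam i), g.val *ᵥ v = u}) := fun g hg v hv => by
        induction hv using Submodule.span_induction with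
        | mem v hv =>
          obtain ⟨h, hh, u, hu, rfl⟩ := hv
          exact Submodule.subset_span ⟨g * h, mul_mem hg hh, u, hu, mul_mulVec _ _ _⟩
        | zero => rw [Matrix.mulVec_zero]; exact Submodule.zero_mem _
        | add _ _ _ _ ha hb => rw [Matrix.mulVec_add]; exact Submodule.add_mem _ ha hb
        | smul c _ _ ha => rw [Matrix.mulVec_smul]; exact Submodule.smul_mem _ c ha
      rcases irr_iff.1 hG _ hS with h | h
      · exfalso
        refine (hb i).1 ?_
        rw [← Submodule.mem_bot F, ← h]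
        exact Submodule.subset_span ⟨1, one_mem _, b i, hlam i, by simp⟩
      · by_contra hne
        push Not at hne
        have hle : Submodule.span F {u | ∃ g ∈ G, ∃ v ∈ E (lam i), g.val *ᵥ v = u} ≤
            LinearMap.ker (b.coord j) := by
          rw [Submodule.span_le]
          rintro _ ⟨g, hg, v, hv, rfl⟩
          rw [SetLike.mem_coe, LinearMap.mem_ker, Module.Basis.coord_apply]
          by_contra h0
          exact hne g hg (hco _ _ (hmove g hg _ v hv) j h0).symm
        rw [h] at hle
        have := hle (Submodule.mem_top (x := b j))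
        simp at this
    rw [← hEdim, ← hEdim, ← hgE, ← finrank_move g (E (lam i))]
    refine congrArg (fun S : Submodule F (ι → F) => finrank F S) (le_antisymm (fun u hu => ?_) (fun u hu => ?_))
    · obtain ⟨v, hv, rfl⟩ := mem_move.1 hu
      exact hmove g hg _ v hv
    · refine mem_move.2 ⟨(g⁻¹).val *ᵥ u, ?_, mulVec_inv_mulVec g u⟩
      have h1 := hmove g⁻¹ (inv_mem hg) _ u hu
      rwa [hcc g hg] at h1
  have hinj : Function.Injective lam := by
    have hsum : r = (Finset.univ.image lam).card * Fintype.card {k // lam k = lam i0} := by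
      conv_lhs => rw [← Fintype.card_fin r, ← Finset.card_univ,
        Finset.card_eq_sum_card_image lam Finset.univ]
      rw [Finset.sum_const_nat]
      intro μ hμ
      obtain ⟨i, -, rfl⟩ := Finset.mem_image.1 hμ
      rw [htrans i0 i, Fintype.card_subtype]
    have h2 : 2 ≤ (Finset.univ.image lam).card := Finset.one_lt_card.2
      ⟨lam i0, Finset.mem_image_of_mem _ (Finset.mem_univ _), lam j0, Finset.mem_image_of_mem _ (Finset.mem_univ _), hij⟩
    rcases (Nat.dvd_prime hr).1 (Dvd.intro _ hsum.symm) with h | h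
    · omega
    · have hone : Fintype.card {k // lam k = lam i0} = 1 := by
        have h3 : r * Fintype.card {k // lam k = lam i0} = r * 1 :=
          (congrArg (· * Fintype.card {k // lam k = lam i0}) h).symm.trans (hsum.symm.trans (mul_one r).symm)
        exact Nat.eq_of_mul_eq_mul_left hr.pos h3
      intro i j hlij
      have h4 := (htrans i i0).trans hone
      exact congrArg Subtype.val (Fintype.card_le_one_iff.1 h4.le ⟨i, rfl⟩ ⟨j, hlij.symm⟩)
  have hEline : ∀ i, E (lam i) = Submodule.span F {b i} := fun i => by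
    rw [hEspan, show {k | lam k = lam i} = {i} from Set.ext fun k => hinj.eq_iff, Set.image_singleton]
  refine Or.inr (Or.inr ⟨fun i => Submodule.span F {b i}, ⟨hr.two_le, one_pos,
    fun i => finrank_span_singleton (hb i).1, b.linearIndependent.iSupIndep_span_singleton, ?_⟩,
    fun g hg => ?_, fun x hx y hy => ?_, fun i x hx => ⟨lam i ⟨x, hx⟩, fun v hv => ?_⟩, fun i j hij => ?_⟩)
  · rw [Submodule.iSup_span, Set.iUnion_singleton_eq_range, b.span_eq]
  · have hσ : ∀ i, ∃ j, (Submodule.span F {b i}).map (Matrix.toLin' g.val) = Submodule.span F {b j} := by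
      intro i
      have hv := hmove g hg (lam i) (b i) (hlam i)
      obtain ⟨j, hj⟩ : ∃ j, b.repr (g.val *ᵥ b i) j ≠ 0 := by
        by_contra h0
        push Not at h0
        exact move_ne_zero g (hb i).1 (b.repr.injective (by rw [map_zero]; exact Finsupp.ext h0))
      refine ⟨j, ?_⟩
      rw [← hco _ _ hv j hj, hEline] at hv
      rw [Submodule.map_span, Set.image_singleton, Matrix.toLin'_apply]
      exact Submodule.eq_of_le_of_finrank_le ((Submodule.span_singleton_le_iff_mem _ _).2 hv)
        (by rw [finrank_span_singleton (hb j).1, finrank_span_singleton (move_ne_zero g (hb i).1)])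
    choose σ hσ using hσ
    have hσinj : Function.Injective σ := fun i j hij' => by
      by_contra hne
      have h1 : Submodule.span F {b i} = Submodule.span F {b j} :=
        Submodule.map_injective_of_injective (f := Matrix.toLin' g.val) (fun a c h => by
          rw [Matrix.toLin'_apply, Matrix.toLin'_apply] at h
          simpa only [inv_mulVec_mulVec] using congrArg ((g⁻¹).val *ᵥ ·) h) (by rw [hσ, hσ, hij'])
      obtain ⟨c, hc⟩ := Submodule.mem_span_singleton.1 (h1 ▸ Submodule.mem_span_singleton_self (b i))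
      have h2 := congrArg (fun v => b.repr v i) hc
      simp [Finsupp.single_eq_of_ne, hne, Ne.symm hne] at h2
    exact ⟨Equiv.ofBijective σ (Finite.injective_iff_bijective.1 hσinj), hσ⟩
  · refine Units.ext (Matrix.toLin'.injective (b.ext fun i => ?_))
    simp only [Matrix.toLin'_apply, Units.val_mul, ← Matrix.mulVec_mulVec]
    rw [hlam i ⟨x, hx⟩, hlam i ⟨y, hy⟩, Matrix.mulVec_smul, Matrix.mulVec_smul, hlam i ⟨x, hx⟩,
      hlam i ⟨y, hy⟩, smul_comm]
  · obtain ⟨a, rfl⟩ := Submodule.mem_span_singleton.1 hv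
    rw [Matrix.mulVec_smul, hlam i ⟨x, hx⟩, smul_comm]
  · obtain ⟨x, hx⟩ := Function.ne_iff.1 fun e => hij (hinj e)
    refine ⟨x, x.2, lam i x, lam j x, hx, fun v hv => ?_, fun v hv => ?_⟩ <;>
    · obtain ⟨a, rfl⟩ := Submodule.mem_span_singleton.1 hv
      rw [Matrix.mulVec_smul, hlam _ x, smul_comm]

end Cfsg.Lib.Linear.Asch
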