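import Cfsg.Agent.Lib.Linear.Aschbacher.Basic

/-!
# Groups realised over a subfield

An element normalising an absolutely irreducible group with entries in a subfield is rational up to
a scalar; subfields of finite fields of prime index.
-/

set_option autoImplicit false
set_option linter.unusedSectionVars false
set_option linter.style.haveILetI false

namespace Cfsg.Lib.Linear.Asch

open Cfsg.Geo Cfsg.Lib.Linear
open scoped Matrix MatrixGroups

variable {ι : Type} [Fintype ι] [DecidableEq ι] {F : Type*} [Field F]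

theorem mem_subfieldSubgroup_iff (F₀ : Subfield F) (P g : GL ι F) :
    g ∈ subfieldSubgroup F₀ P ↔ Rat0.RatG F₀ (P⁻¹ * g * P) := by
  have h1 : subfieldSubgroup F₀ P =
      (subfieldSubgroup F₀ (1 : GL ι F)).map (MulAut.conj P).toMonoidHom := by
    have hid : ∀ S : Subgroup (GL ι F), S.map (MulAut.conj (1 : GL ι F)).toMonoidHom = S := by
      intro S; ext x; simp
    rw [subfieldSubgroup, subfieldSubgroup, hid]
  rw [h1, ← Rat0.mem_subfieldSubgroup_one]
  constructor
  · rintro ⟨y, hy, rfl⟩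
    simpa [mul_assoc] using hy
  · intro h
    exact ⟨_, h, by simp [mul_assoc]⟩

/-- An element normalising an absolutely irreducible group with entries in `F₀` is rational up to a
scalar. -/
theorem rat_normalizer [Nonempty ι] {G : Subgroup (GL ι F)}
    (hG : ActsAbsolutelyIrreducibly (matrixSet G)) (F₀ : Subfield F) (B : GL ι F)
    (hrat : ∀ x ∈ G, ∀ i j, (B.val * x.val * B⁻¹.val) i j ∈ F₀)
    {h : GL ι F} (hn : ∀ x ∈ G, h * x * h⁻¹ ∈ G) : Rat0.RatG F₀ (B * h * B⁻¹) := by
  set A := B * h * B⁻¹ with hA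
  obtain ⟨i0, j0, h0⟩ : ∃ i j, (A : Matrix ι ι F) i j ≠ 0 := by
    by_contra hne
    push Not at hne
    exact A.isUnit.ne_zero (Matrix.ext fun i j => hne i j)
  obtain ⟨φ, hφ⟩ := LinearMap.exists_leftInverse_of_injective (LinearMap.toSpanSingleton F₀ F (A.val i0 j0))
    (LinearMap.ker_eq_bot.2 (smul_left_injective F₀ h0))
  have hφ1 : φ (A.val i0 j0) = 1 := by
    have h1 := LinearMap.congr_fun hφ 1
    simpa using h1
  set M : Matrix ι ι F := A.val.map fun a => ((φ a : F₀) : F) with hM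
  have hφl : ∀ (a : F) (c : F₀), φ (a * c) = φ a * c := fun a c => by
    rw [mul_comm a, show (c : F) * a = c • a from rfl, map_smul, smul_eq_mul, mul_comm]
  have key : ∀ x ∈ G, (A⁻¹.val * M) * (B * x * B⁻¹).val = (B * x * B⁻¹).val * (A⁻¹.val * M) := by
    intro x hx
    set x' := B * x * B⁻¹ with hx'
    set x'' := B * (h * x * h⁻¹) * B⁻¹ with hx''
    have heq : A * x' = x'' * A := by rw [hA, hx', hx'']; group
    have hr1 : ∀ i j, x'.val i j ∈ F₀ := fun i j => by
      rw [hx', Units.val_mul, Units.val_mul]; exact hrat x hx i j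
    have hr2 : ∀ i j, x''.val i j ∈ F₀ := fun i j => by
      rw [hx'', Units.val_mul, Units.val_mul]; exact hrat _ (hn x hx) i j
    have h1 : M * x'.val = x''.val * M := by
      refine Matrix.ext fun i j => ?_
      have h2 := congrArg (fun z : GL ι F => ((φ (z.val i j) : F₀) : F)) heq
      simp only [Units.val_mul, Matrix.mul_apply, map_sum, AddSubmonoidClass.coe_finsetSum] at h2
      rw [Matrix.mul_apply, Matrix.mul_apply]
      refine Eq.trans ?_ (h2.trans ?_)
      · refine Finset.sum_congr rfl fun k _ => ?_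
        have h3 := hφl (A.val i k) ⟨_, hr1 k j⟩
        simp only at h3
        rw [h3, hM, Matrix.map_apply, Subfield.coe_mul]
      · refine Finset.sum_congr rfl fun k _ => ?_
        have h3 := hφl (A.val k j) ⟨_, hr2 i k⟩
        simp only at h3
        rw [mul_comm (x''.val i k), h3, hM, Matrix.map_apply, Subfield.coe_mul, mul_comm]
    have h4 : A⁻¹.val * x''.val = x'.val * A⁻¹.val := by
      rw [← Units.val_mul, ← Units.val_mul]
      congr 1
      rw [eq_mul_inv_iff_mul_eq, mul_assoc, ← heq, inv_mul_cancel_left]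
    rw [Matrix.mul_assoc, h1, ← Matrix.mul_assoc, h4, Matrix.mul_assoc]
  obtain ⟨c, hc⟩ := hG.2 (B⁻¹.val * (A⁻¹.val * M) * B.val) (by
    rintro _ ⟨x, hx, rfl⟩
    have hk := congrArg (fun z => B⁻¹.val * z * B.val) (key x hx)
    simpa [Units.val_mul, mul_assoc] using hk)
  have hc' : M = c • A.val := by
    have h5 := congrArg (fun z => A.val * (B.val * z * B⁻¹.val)) hc
    simp only [Matrix.mul_smul, Matrix.smul_mul, Matrix.mul_one, Units.mul_inv] at h5
    simpa [mul_assoc] using h5
  have hc0 : c ≠ 0 := by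
    rintro rfl
    rw [zero_smul] at hc'
    have h6 := congrFun (congrFun hc' i0) j0
    rw [hM, Matrix.map_apply, hφ1] at h6
    simp at h6
  refine ⟨c, hc0, fun i j => ?_⟩
  have h7 := congrFun (congrFun hc' i) j
  rw [Matrix.smul_apply, smul_eq_mul, hM, Matrix.map_apply] at h7
  rw [← h7]
  exact (φ _).2

/-- A finite field has a subfield of every degree dividing its degree. -/
theorem exists_subfield_pow [Fintype F] (p f k : ℕ) [hp : Fact p.Prime] [CharP F p]
    (hf : Fintype.card F = p ^ f) (hk0 : 0 < k) (hk : k ∣ f) :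
    ∃ F₁ : Subfield F, Nat.card F₁ = p ^ k ∧ ∀ x, x ∈ F₁ ↔ x ^ p ^ k = x := by
  classical
  refine ⟨(iterateFrobenius F p k).eqLocusField (RingHom.id F), ?_, fun x => ?_⟩
  swap
  · rw [RingHom.mem_eqLocusField, iterateFrobenius_def, RingHom.id_apply]
  have hpk : 1 < p ^ k := Nat.one_lt_pow hk0.ne' hp.out.one_lt
  have hdvd : p ^ k - 1 ∣ p ^ f - 1 := Nat.pow_sub_one_dvd_pow_sub_one p hk
  have hset : ((iterateFrobenius F p k).eqLocusField (RingHom.id F) : Set F) =
      insert 0 (Units.val '' ((powMonoidHom (p ^ k - 1) : Fˣ →* Fˣ).ker : Set Fˣ)) := by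
    ext x
    rw [SetLike.mem_coe, RingHom.mem_eqLocusField, iterateFrobenius_def, RingHom.id_apply, Set.mem_insert_iff]
    constructor
    · intro hx
      rcases eq_or_ne x 0 with h0 | h0
      · exact Or.inl h0
      · refine Or.inr ⟨Units.mk0 x h0, ?_, rfl⟩
        rw [SetLike.mem_coe, MonoidHom.mem_ker, powMonoidHom_apply, Units.ext_iff, Units.val_pow_eq_pow_val,
          Units.val_mk0, Units.val_one]
        refine mul_left_cancel₀ h0 ?_
        rw [← pow_succ', Nat.sub_add_cancel hpk.le, hx, mul_one]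
    · rintro (rfl | ⟨u, hu, rfl⟩)
      · exact zero_pow (by omega)
      · rw [SetLike.mem_coe, MonoidHom.mem_ker, powMonoidHom_apply, Units.ext_iff, Units.val_pow_eq_pow_val,
          Units.val_one] at hu
        rw [← Nat.sub_add_cancel hpk.le, pow_succ, hu, one_mul]
  show Nat.card ((iterateFrobenius F p k).eqLocusField (RingHom.id F) : Set F) = p ^ k
  rw [hset, Nat.card_coe_set_eq, Set.ncard_insert_of_notMem (by rintro ⟨u, -, hu⟩; exact u.ne_zero hu)
    (Set.toFinite _), Set.ncard_image_of_injective _ Units.val_injective, ← Nat.card_coe_set_eq]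
  show Nat.card (powMonoidHom (p ^ k - 1) : Fˣ →* Fˣ).ker + 1 = p ^ k
  rw [IsCyclic.card_powMonoidHom_ker, Nat.card_units, Nat.card_eq_fintype_card, hf,
    Nat.gcd_eq_right hdvd]
  omega

/-- A proper subfield lies in a subfield of prime index. -/
theorem exists_prime_index [Fintype F] {F₀ : Subfield F} (h : F₀ ≠ ⊤) :
    ∃ (F₁ : Subfield F) (r : ℕ), F₀ ≤ F₁ ∧ F₁ ≠ ⊤ ∧ r.Prime ∧ Fintype.card F = Nat.card F₁ ^ r := by
  classical
  obtain ⟨p, hp⟩ := CharP.exists F
  obtain ⟨f, hpr, hf⟩ := FiniteField.card F p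
  haveI := Fact.mk hpr
  haveI : CharP F₀ p := inferInstance
  obtain ⟨f₀, -, hf₀⟩ := FiniteField.card F₀ p
  have hd := Module.natCard_eq_pow_finrank (K := F₀) (V := F)
  rw [Nat.card_eq_fintype_card, Nat.card_eq_fintype_card, hf, hf₀, ← pow_mul] at hd
  have hfd : (f : ℕ) = f₀ * Module.finrank F₀ F := Nat.pow_right_injective hpr.two_le hd
  set d := Module.finrank F₀ F
  have hd1 : d ≠ 1 := fun h1 => h (by
    refine SetLike.ext fun x => ⟨fun _ => trivial, fun _ => ?_⟩
    have hc : Nat.card F₀ = Nat.card F := by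
      rw [Nat.card_eq_fintype_card, Nat.card_eq_fintype_card, hf, hf₀, hfd, h1, mul_one]
    have := (Nat.bijective_iff_injective_and_card (Subtype.val : F₀ → F)).2
      ⟨Subtype.val_injective, hc⟩
    obtain ⟨⟨y, hy⟩, rfl⟩ := this.2 x
    exact hy)
  obtain ⟨l, hl, m, hm⟩ := Nat.exists_prime_and_dvd hd1
  have hmpos : 0 < f₀ * m := by
    refine Nat.mul_pos f₀.pos (Nat.pos_of_ne_zero ?_)
    rintro rfl
    have := f.pos
    rw [mul_zero] at hm
    rw [hm, mul_zero] at hfd
    omega
  obtain ⟨F₁, hF₁, hmem⟩ := exists_subfield_pow p f (f₀ * m) hf hmpos ⟨l, by rw [hfd, hm]; ring⟩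
  refine ⟨F₁, l, fun x hx => ?_, fun htop => ?_, hl, ?_⟩
  · rw [hmem, pow_mul]
    have hx1 : (⟨x, hx⟩ : F₀) ^ Fintype.card F₀ = ⟨x, hx⟩ := FiniteField.pow_card _
    have hx2 : x ^ p ^ (f₀ : ℕ) = x := by
      rw [← hf₀]
      exact congrArg Subtype.val hx1
    clear hmem hF₁ hmpos hm
    induction m with
    | zero => simp
    | succ m ih => rw [pow_succ, pow_mul, ih, hx2]
  · subst htop
    rw [Nat.card_congr Subfield.topEquiv.toEquiv, Nat.card_eq_fintype_card, hf] at hF₁
    have h1 := Nat.pow_right_injective hpr.two_le hF₁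
    rw [hfd, hm] at h1
    have h2 : f₀ * m * l = f₀ * m * 1 := by rw [mul_one, mul_assoc, mul_comm m l]; exact h1
    exact hl.ne_one (Nat.eq_of_mul_eq_mul_left hmpos h2)
  · rw [hF₁, hf, ← pow_mul, hfd, hm, mul_comm l m, ← mul_assoc]

/-- The special linear group is realised over no proper subfield. -/
theorem not_SL_le_subfieldSubgroup [Finite F] (hn : 2 ≤ Fintype.card ι) {F₀ : Subfield F} (h : F₀ ≠ ⊤) (P : GL ι F) :
    ¬ specialLinear ι F ≤ subfieldSubgroup F₀ P := fun hle => by
  obtain ⟨c, hc⟩ : ∃ c : F, c ∉ F₀ := by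
    by_contra hne
    push Not at hne
    exact h (eq_top_iff.2 fun x _ => hne x)
  obtain ⟨i, j, hij⟩ := Fintype.exists_pair_of_one_lt_card (α := ι) (by omega)
  have hd : (c • Pi.single j 1 : ι → F) ⬝ᵥ Pi.single i 1 = 0 := by simp [hij]
  set T := tv (Pi.single i 1) (c • Pi.single j 1) hd with hT
  have hTS : P * T * P⁻¹ ∈ specialLinear ι F := by
    have h1 := tv_mem_SL (Pi.single i 1) (c • Pi.single j 1) hd
    simp only [specialLinear, MonoidHom.mem_ker] at h1 ⊢
    rw [map_mul, map_mul, ← hT] at *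
    rw [h1, mul_one, ← map_mul, mul_inv_cancel, map_one]
  have h2 := (mem_subfieldSubgroup_iff F₀ P _).1 (hle hTS)
  rw [show P⁻¹ * (P * T * P⁻¹) * P = T by group] at h2
  obtain ⟨e, he, hE⟩ := h2
  have h3 := hE i i
  have h4 := hE i j
  simp [hT, coe_tv, tvMat, Matrix.vecMulVec_apply, hij, hij.symm] at h3 h4
  exact hc (by simpa [he] using F₀.mul_mem (F₀.inv_mem h3) h4)

end Cfsg.Lib.Linear.Asch
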