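import Cfsg.Agent.Lib.Linear.Aschbacher.Monomial

/-!
# The special linear group preserves no geometric structure in prime dimension
-/

set_option autoImplicit false
set_option linter.unusedSectionVars false
set_option linter.style.haveILetI false

namespace Cfsg.Lib.Linear.Asch

open Cfsg.Geo Cfsg.Lib.Linear
open scoped Matrix MatrixGroups

variable {ι : Type} [Fintype ι] [DecidableEq ι] {F : Type*} [Field F]

theorem eq_inf_of_maximal {G : Type*} [Group G] {K H M : Subgroup G} (hH : IsMaximalIn K H) (hle : H ≤ M)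
    (hne : ¬ K ≤ M) : H = M ⊓ K := by
  rcases hH.2 (M ⊓ K) (le_inf hle hH.1.le) inf_le_right with h | h
  · exact h.symm
  · exact absurd (inf_eq_right.1 h) hne

theorem decomp_gen {t : ℕ} {D : Fin t → Submodule F (ι → F)} (hD : IsMDecomposition 1 D) :
    ∃ b : Module.Basis (Fin t) F (ι → F), ∀ i, D i = Submodule.span F {b i} := by
  have h : ∀ i, ∃ v : ι → F, v ≠ 0 ∧ D i = Submodule.span F {v} := fun i => by
    have hne : D i ≠ ⊥ := fun e => by
      have := hD.finrank_eq i
      rw [e, finrank_bot] at this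
      omega
    obtain ⟨v, hv, hv0⟩ := Submodule.exists_mem_ne_zero_of_ne_bot hne
    exact ⟨v, hv0, (Submodule.eq_of_le_of_finrank_le ((Submodule.span_singleton_le_iff_mem _ _).2 hv)
      (by rw [hD.finrank_eq i, finrank_span_singleton hv0])).symm⟩
  choose v hv0 hv using h
  have hli : LinearIndependent F v := iSupIndep.linearIndependent _ hD.indep
    (fun i => by rw [hv i]; exact Submodule.mem_span_singleton_self _) hv0
  refine ⟨Module.Basis.mk hli ?_, fun i => by rw [Module.Basis.mk_apply, hv]⟩
  rw [← hD.iSup_eq_top]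
  exact iSup_le fun i => by
    rw [hv i]
    exact Submodule.span_mono (Set.singleton_subset_iff.2 (Set.mem_range_self i))

theorem decomp_act {t : ℕ} {D : Fin t → Submodule F (ι → F)} {b : Module.Basis (Fin t) F (ι → F)}
    (hb : ∀ i, D i = Submodule.span F {b i}) {g : GL ι F} (hg : g ∈ decompositionStabilizer D) :
    ∃ (π : Equiv.Perm (Fin t)) (ε : Fin t → F), (∀ i, ε i ≠ 0) ∧ ∀ i, g.val *ᵥ b i = ε i • b (π i) := by
  obtain ⟨π, hπ⟩ := hg
  have h : ∀ i, ∃ c : F, c • b (π i) = g.val *ᵥ b i := fun i => by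
    refine Submodule.mem_span_singleton.1 ?_
    rw [← hb, ← hπ]
    exact ⟨b i, by rw [hb]; exact Submodule.mem_span_singleton_self _, Matrix.toLin'_apply _ _⟩
  choose ε hε using h
  refine ⟨π, ε, fun i h0 => ?_, fun i => (hε i).symm⟩
  have h1 := hε i
  rw [h0, zero_smul] at h1
  exact move_ne_zero g (b.ne_zero i) h1.symm

/-- The special linear group preserves no decomposition into lines. -/
theorem not_SL_le_decompositionStabilizer {t : ℕ} {D : Fin t → Submodule F (ι → F)}
    (hD : IsMDecomposition 1 D) : ¬ specialLinear ι F ≤ decompositionStabilizer D := fun hle => by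
  obtain ⟨b, hb⟩ := decomp_gen hD
  have ht := hD.two_le
  let i : Fin t := ⟨0, by omega⟩
  let j : Fin t := ⟨1, by omega⟩
  have hij : i ≠ j := fun h => by simp [i, j, Fin.ext_iff] at h
  obtain ⟨a, ha1, ha2⟩ := Rat0.exists_dot_pair (x := b j) (y := b i) fun c e => by
    have h1 := congrArg (fun v => b.repr v i) e
    simp [hij, hij.symm] at h1
  rw [dotProduct_comm] at ha1 ha2
  obtain ⟨π, ε, -, hg⟩ := decomp_act hb (hle (tv_mem_SL (b j) a ha1))
  have h1 := hg i
  rw [coe_tv, tvMat_mulVec, ha2, one_smul] at h1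
  have hi := congrArg (fun v => b.repr v i) h1
  have hj := congrArg (fun v => b.repr v j) h1
  simp [Finsupp.single_apply, hij, hij.symm] at hi hj
  have hi' : π i = i := by_contra fun h => by simp [h] at hi
  have hj' : π i = j := by_contra fun h => by simp [h] at hj
  exact hij (hi'.symm.trans hj')

theorem two_lt_pow {q r : ℕ} (hq : 2 ≤ q) (hr : 3 ≤ r) : r + q ^ 2 < q ^ r := by
  obtain ⟨k, rfl⟩ := Nat.exists_eq_add_of_le hr
  have h1 : k + 2 ≤ q ^ (k + 1) :=
    (Nat.lt_pow_self (n := k + 1) one_lt_two).trans_le (Nat.pow_le_pow_left hq _)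
  have h2 : q ^ (3 + k) = q ^ 2 * q ^ (k + 1) := by rw [← pow_add]; congr 1; omega
  rw [h2]
  have h4 : 4 ≤ q ^ 2 := Nat.pow_le_pow_left hq 2
  nlinarith [Nat.mul_le_mul_left (q ^ 2) h1]

/-- The special linear group normalises no extension field. -/
theorem not_SL_le_subalgebraNormalizer [Fintype F] {r : ℕ} (hr : 3 ≤ r) (hcard : Fintype.card ι = r)
    {K : Subalgebra F (Matrix ι ι F)} (hK : IsFieldSubalgebra r K) :
    ¬ specialLinear ι F ≤ subalgebraNormalizer K := fun hle => by
  classical
  haveI : Nonempty ι := Fintype.card_pos_iff.1 (by omega)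
  obtain ⟨k, hkK, hk⟩ : ∃ k ∈ K, ∀ c : F, k ≠ c • (1 : Matrix ι ι F) := by
    by_contra hne
    push Not at hne
    have hbot : K = ⊥ := eq_bot_iff.2 fun k hk => by
      obtain ⟨c, hc⟩ := hne k hk
      exact Algebra.mem_bot.2 ⟨c, by rw [hc, Algebra.algebraMap_eq_smul_one]⟩
    have := hK.finrank_eq
    rw [hbot, Subalgebra.finrank_bot] at this
    omega
  have hfield : IsField K :=
    { exists_pair_ne := ⟨0, 1, fun h => zero_ne_one (congrArg Subtype.val h)⟩
      mul_comm := fun a b => Subtype.ext (hK.comm a a.2 b b.2)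
      mul_inv_cancel := fun {a} ha => by
        obtain ⟨y, hy, hy'⟩ := hK.inv a a.2 (fun h => ha (Subtype.ext h))
        exact ⟨⟨y, hy⟩, Subtype.ext hy'⟩ }
  letI : Field K := hfield.toField
  set P := minpoly F k with hP
  have hPne : P ≠ 0 := minpoly.ne_zero (Matrix.isIntegral k)
  let S := (P.map (algebraMap F K)).roots.toFinset.image (fun x : K => (x : Matrix ι ι F))
  have hS : S.card ≤ r := by
    refine Finset.card_image_le.trans ((Multiset.toFinset_card_le _).trans ((Polynomial.card_roots' _).trans ?_))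
    rw [Polynomial.natDegree_map]
    exact hcard ▸ (Polynomial.natDegree_le_of_dvd (Matrix.minpoly_dvd_charpoly k) (Matrix.charpoly_monic k).ne_zero).trans
      (Matrix.charpoly_natDegree_eq_dim k).le
  have hX : ∀ g ∈ specialLinear ι F, g.val * k * (g⁻¹).val ∈ S := by
    intro g hg
    have hmem := (hle hg k).1 hkK
    refine Finset.mem_image.2 ⟨⟨_, hmem⟩, ?_, rfl⟩
    rw [Multiset.mem_toFinset, Polynomial.mem_roots (Polynomial.map_ne_zero hPne), Polynomial.IsRoot,
      Polynomial.eval_map, ← Polynomial.aeval_def]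
    apply Subtype.ext
    rw [← Subalgebra.coe_val, ← Polynomial.aeval_algHom_apply]
    show Polynomial.aeval (g.val * k * (g⁻¹).val) P = 0
    let φ : Matrix ι ι F →ₐ[F] Matrix ι ι F :=
      { toFun := fun m => g.val * m * (g⁻¹).val
        map_one' := by simp
        map_mul' := fun a b => by simp [mul_assoc]
        map_zero' := by simp
        map_add' := fun a b => by simp [mul_add, add_mul]
        commutes' := fun c => by
          rw [Algebra.algebraMap_eq_smul_one, Matrix.mul_smul, Matrix.smul_mul, mul_one, Units.mul_inv] }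
    show Polynomial.aeval (φ k) P = 0
    rw [Polynomial.aeval_algHom_apply, hP, minpoly.aeval, map_zero]
  have h1 := card_conjInvariant hk hX
  rw [hcard] at h1
  have h2 := two_lt_pow (q := Fintype.card F) Fintype.one_lt_card hr
  omega

/-- The special linear group over a field with more than `r` elements normalises no group of order `r ^ 3`
containing a non-scalar matrix. -/
theorem not_SL_le_normalizer [Fintype F] {r : ℕ} (hr : 3 ≤ r) (hcard : Fintype.card ι = r)
    (hq : r < Fintype.card F) {R : Subgroup (GL ι F)} (hR : Nat.card R = r ^ 3)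
    (hns : ¬ R ≤ scalars ι F) : ¬ specialLinear ι F ≤ subgroupNormalizer R := fun hle => by
  classical
  haveI : Nonempty ι := Fintype.card_pos_iff.1 (by omega)
  obtain ⟨x, hx, hxs⟩ := SetLike.not_le_iff_exists.1 hns
  haveI : Fintype R := Fintype.ofFinite R
  have hX : ∀ g ∈ specialLinear ι F, g.val * x.val * (g⁻¹).val ∈
      (Finset.univ.image fun a : R => ((a : GL ι F) : Matrix ι ι F)) := fun g hg =>
    Finset.mem_image.2 ⟨⟨_, (Subgroup.mem_normalizer_iff.1 (hle hg) x).1 hx⟩, Finset.mem_univ _, by simp⟩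
  have h1 := card_conjInvariant (ne_smul_of_notMem hxs) hX
  have h2 : (Finset.univ.image fun a : R => ((a : GL ι F) : Matrix ι ι F)).card ≤ r ^ 3 :=
    Finset.card_image_le.trans (by rw [Finset.card_univ, ← Nat.card_eq_fintype_card, hR])
  rw [hcard] at h1
  set q := Fintype.card F
  have h3 : q ^ 3 ≤ q ^ r := Nat.pow_le_pow_right (by omega) hr
  have h4 : (r + 1) ^ 2 ≤ q ^ 2 := Nat.pow_le_pow_left hq 2
  nlinarith [Nat.mul_le_mul h4 (show r ≤ q - 1 by omega), Nat.sub_add_cancel (show 1 ≤ q by omega)]

end Cfsg.Lib.Linear.Asch
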