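import Mathlib
import Cfsg.Prelude.Def_GeometricClasses
import Cfsg.Agent.Lib.Linear.SubfieldBasic

/-!
# Irreducible matrix groups over finite fields

Centralizer algebras, the density theorem, and the lemmas saying that the special linear group
preserves none of the geometric structures.
-/

set_option autoImplicit false
set_option linter.unusedSectionVars false
set_option linter.style.haveILetI false

namespace Cfsg.Lib.Linear.Asch

open Cfsg.Geo Cfsg.Lib.Linear
open scoped Matrix MatrixGroups

variable {ι : Type} [Fintype ι] [DecidableEq ι] {F : Type*} [Field F]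

theorem mem_matrixSet {G : Subgroup (GL ι F)} {g : GL ι F} (hg : g ∈ G) :
    (g : Matrix ι ι F) ∈ matrixSet G := ⟨g, hg, rfl⟩

/-- A subspace mapped into itself by every element of the group. -/
def InvSub (G : Subgroup (GL ι F)) (W : Submodule F (ι → F)) : Prop :=
  ∀ g ∈ G, ∀ w ∈ W, (g : Matrix ι ι F) *ᵥ w ∈ W

theorem irr_iff {G : Subgroup (GL ι F)} :
    ActsIrreducibly (matrixSet G) ↔ ∀ W, InvSub G W → W = ⊥ ∨ W = ⊤ := by
  constructor
  · intro h W hW
    refine h W ?_
    rintro _ ⟨g, hg, rfl⟩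
    rw [Submodule.map_le_iff_le_comap]
    intro w hw
    rw [Submodule.mem_comap, Matrix.toLin'_apply]
    exact hW g hg w hw
  · intro h W hW
    refine h W fun g hg w hw => ?_
    have h1 := hW _ (mem_matrixSet hg) (Submodule.mem_map_of_mem hw)
    rwa [Matrix.toLin'_apply] at h1

theorem mul_mulVec (g h : GL ι F) (v : ι → F) :
    (g * h).val *ᵥ v = g.val *ᵥ (h.val *ᵥ v) := by
  rw [Units.val_mul, Matrix.mulVec_mulVec]

theorem inv_mulVec_mulVec (g : GL ι F) (v : ι → F) : (g⁻¹).val *ᵥ (g.val *ᵥ v) = v := by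
  rw [← mul_mulVec, inv_mul_cancel, Units.val_one, Matrix.one_mulVec]

theorem mulVec_inv_mulVec (g : GL ι F) (v : ι → F) : g.val *ᵥ ((g⁻¹).val *ᵥ v) = v := by
  rw [← mul_mulVec, mul_inv_cancel, Units.val_one, Matrix.one_mulVec]

/-- Translate of a subspace by an element of the general linear group. -/
def move (g : GL ι F) (W : Submodule F (ι → F)) : Submodule F (ι → F) :=
  W.map (Matrix.toLin' (g : Matrix ι ι F))

theorem mem_move {g : GL ι F} {W : Submodule F (ι → F)} {v : ι → F} :
    v ∈ move g W ↔ ∃ w ∈ W, g.val *ᵥ w = v := by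
  simp only [move, Submodule.mem_map, Matrix.toLin'_apply]

theorem mem_subspaceStabilizer_of_inv [Finite F] {W : Submodule F (ι → F)} {g : GL ι F}
    (h : ∀ w ∈ W, g.val *ᵥ w ∈ W) : g ∈ subspaceStabilizer W :=
  fun v => ⟨fun hv => h v hv, fun hv => by
    obtain ⟨⟨u, hu⟩, he⟩ := (Finite.injective_iff_surjective (f := fun w : W => (⟨g.val *ᵥ w.1, h w w.2⟩ : W))).1
      (fun a b e => Subtype.ext (by
        have e' := congrArg (fun z : W => (g⁻¹).val *ᵥ z.1) e
        simpa only [inv_mulVec_mulVec] using e')) ⟨g.val *ᵥ v, hv⟩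
    have h1 := congrArg (fun z : W => (g⁻¹).val *ᵥ z.1) he
    simp only [inv_mulVec_mulVec] at h1
    exact h1 ▸ hu⟩

/-- A matrix all of whose non-zero vectors are eigenvectors is a scalar matrix. -/
theorem exists_smul_one [Nonempty ι] {M : Matrix ι ι F} (h : ∀ v : ι → F, ∃ c : F, M *ᵥ v = c • v) :
    ∃ c : F, M = c • (1 : Matrix ι ι F) := by
  obtain ⟨i⟩ := ‹Nonempty ι›
  choose c hc using h
  have hcol : ∀ j k, M k j = if k = j then c (Pi.single j 1) else 0 := fun j k => by
    have h1 := congrFun (hc (Pi.single j 1)) k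
    rw [Matrix.mulVec_single_one] at h1
    simpa [Pi.single_apply] using h1
  refine ⟨c (Pi.single i 1), Matrix.ext fun k j => ?_⟩
  rw [Matrix.smul_apply, Matrix.one_apply, smul_eq_mul, hcol]
  by_cases hkj : k = j
  · subst hkj
    rw [if_pos rfl, if_pos rfl, mul_one]
    rcases eq_or_ne k i with rfl | hki
    · rfl
    · have h2 := hc (Pi.single k 1 + Pi.single i 1)
      set d := c (Pi.single k 1 + Pi.single i 1) with hd
      rw [Matrix.mulVec_add, hc, hc] at h2
      have hk := congrFun h2 k
      have hi := congrFun h2 i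
      simp [Pi.single_apply, hki, hki.symm] at hk hi
      rw [hk, hi]
  · rw [if_neg hkj, if_neg hkj, mul_zero]

theorem exists_not_eigen [Nonempty ι] {M : Matrix ι ι F} (h : ∀ c : F, M ≠ c • (1 : Matrix ι ι F)) :
    ∃ v : ι → F, ∀ c : F, M *ᵥ v ≠ c • v := by
  by_contra hne
  push Not at hne
  obtain ⟨c, hc⟩ := exists_smul_one hne
  exact h c hc

theorem mem_scalars_of_smul {g : GL ι F} [Nonempty ι] {c : F} (h : (g : Matrix ι ι F) = c • 1) :
    g ∈ scalars ι F := by
  refine (mem_scalars_iff g).2 ⟨Units.mk0 c ?_, h⟩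
  rintro rfl
  rw [zero_smul] at h
  exact g.isUnit.ne_zero h

theorem ne_smul_of_notMem {g : GL ι F} [Nonempty ι] (h : g ∉ scalars ι F) :
    ∀ c : F, (g : Matrix ι ι F) ≠ c • 1 := fun _ hc => h (mem_scalars_of_smul hc)

theorem scalars_comm {g s : GL ι F} (hs : s ∈ scalars ι F) : g * s = s * g := by
  obtain ⟨c, hc⟩ := (mem_scalars_iff s).1 hs
  refine Units.ext ?_
  rw [Units.val_mul, Units.val_mul, hc, Matrix.mul_smul, Matrix.mul_one, Matrix.smul_mul, Matrix.one_mul]

theorem absIrr_center {G : Subgroup (GL ι F)} [Nonempty ι] (hG : ActsAbsolutelyIrreducibly (matrixSet G))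
    {g : GL ι F} (h : ∀ x ∈ G, g * x = x * g) : g ∈ scalars ι F := by
  obtain ⟨c, hc⟩ := hG.2 (g : Matrix ι ι F) (by
    rintro _ ⟨x, hx, rfl⟩
    rw [← Units.val_mul, h x hx, Units.val_mul])
  exact mem_scalars_of_smul hc

/-- The centralizer algebra of an irreducible group over a finite field is a field. -/
theorem centralizer_field [Finite F] [Nonempty ι] {G : Subgroup (GL ι F)}
    (hG : ActsIrreducibly (matrixSet G)) :
    IsFieldSubalgebra (Module.finrank F (Subalgebra.centralizer F (matrixSet G)))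
        (Subalgebra.centralizer F (matrixSet G)) ∧
      Module.finrank F (Subalgebra.centralizer F (matrixSet G)) ∣ Fintype.card ι := by
  set C := Subalgebra.centralizer F (matrixSet G) with hC
  have hmem : ∀ {z : Matrix ι ι F}, z ∈ C ↔ ∀ g ∈ matrixSet G, g * z = z * g :=
    fun {z} => Subalgebra.mem_centralizer_iff F
  have hunit : ∀ x ∈ C, x ≠ 0 → x.det ≠ 0 := fun x hx hx0 => by
    have hker := irr_iff.1 hG (LinearMap.ker (Matrix.toLin' x)) (fun g hg w hw => by
      rw [LinearMap.mem_ker, Matrix.toLin'_apply] at hw ⊢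
      rw [Matrix.mulVec_mulVec, ← hmem.1 hx _ (mem_matrixSet hg), ← Matrix.mulVec_mulVec, hw,
        Matrix.mulVec_zero])
    rcases hker with hk | hk
    · intro hd
      obtain ⟨v, hv0, hv⟩ := Matrix.exists_mulVec_eq_zero_iff.2 hd
      have : v ∈ LinearMap.ker (Matrix.toLin' x) := by rw [LinearMap.mem_ker, Matrix.toLin'_apply, hv]
      rw [hk, Submodule.mem_bot] at this
      exact hv0 this
    · exfalso
      rw [LinearMap.ker_eq_top, LinearEquiv.map_eq_zero_iff] at hk
      exact hx0 hk
  haveI : IsDomain C := by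
    haveI : NoZeroDivisors C := ⟨fun {a b} hab => by
      by_contra hne
      push Not at hne
      have h1 := congrArg (fun z : C => (z : Matrix ι ι F).det) hab
      simp only [MulMemClass.coe_mul, Matrix.det_mul, ZeroMemClass.coe_zero, Matrix.det_zero] at h1
      rcases mul_eq_zero.1 h1 with h | h
      · exact hunit _ a.2 (fun e => hne.1 (Subtype.ext e)) h
      · exact hunit _ b.2 (fun e => hne.2 (Subtype.ext e)) h⟩
    exact NoZeroDivisors.to_isDomain C
  haveI : Finite (Matrix ι ι F) := inferInstanceAs (Finite (ι → ι → F))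
  have hfield : IsField C := Finite.isDomain_to_isField C
  refine ⟨⟨fun x hx y hy => congrArg Subtype.val (hfield.mul_comm ⟨x, hx⟩ ⟨y, hy⟩), fun x hx hx0 => ?_,
    rfl⟩, ?_⟩
  · obtain ⟨y, hy⟩ := hfield.mul_inv_cancel (a := (⟨x, hx⟩ : C)) (fun e => hx0 (congrArg Subtype.val e))
    exact ⟨y, y.2, congrArg Subtype.val hy⟩
  · letI : Field C := hfield.toField
    letI : Module C (ι → F) := Module.compHom (ι → F)
      ((Matrix.toLinAlgEquiv' : Matrix ι ι F ≃ₐ[F] Module.End F (ι → F)).toAlgHom.comp C.val).toRingHom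
    have h1 : Nat.card (ι → F) = Nat.card C ^ Module.finrank C (ι → F) := Module.natCard_eq_pow_finrank
    have h2 : Nat.card C = Nat.card F ^ Module.finrank F C := Module.natCard_eq_pow_finrank
    rw [h2, ← pow_mul, Nat.card_fun, Nat.card_eq_fintype_card (α := ι)] at h1
    exact ⟨_, Nat.pow_right_injective (Finite.one_lt_card (α := F)) h1⟩

/-- In prime dimension an irreducible group is absolutely irreducible or commutes with an extension field
of that degree. -/
theorem absIrr_or_field [Finite F] {G : Subgroup (GL ι F)} {r : ℕ} (hr : r.Prime)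
    (hcard : Fintype.card ι = r) (hG : ActsIrreducibly (matrixSet G)) :
    ActsAbsolutelyIrreducibly (matrixSet G) ∨
      IsFieldSubalgebra r (Subalgebra.centralizer F (matrixSet G)) := by
  haveI : Nonempty ι := Fintype.card_pos_iff.1 (hcard ▸ hr.pos)
  obtain ⟨h1, h2⟩ := centralizer_field hG
  rw [hcard] at h2
  rcases (Nat.dvd_prime hr).1 h2 with h3 | h3
  · refine Or.inl ⟨hG, fun M hM => ?_⟩
    have hM' : M ∈ Subalgebra.centralizer F (matrixSet G) :=
      (Subalgebra.mem_centralizer_iff F).2 fun g hg => (hM g hg).symm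
    rw [Subalgebra.eq_bot_of_finrank_one h3] at hM'
    obtain ⟨c, hc⟩ := Algebra.mem_bot.1 hM'
    exact ⟨c, by rw [← hc, Algebra.algebraMap_eq_smul_one]⟩
  · exact Or.inr (h3 ▸ h1)

/-- An element normalising a group normalises its centralizer algebra. -/
theorem mem_normalizer_centralizer {G : Subgroup (GL ι F)} {h : GL ι F}
    (hn : ∀ x, x ∈ G ↔ h * x * h⁻¹ ∈ G) :
    h ∈ subalgebraNormalizer (Subalgebra.centralizer F (matrixSet G)) := by
  intro k
  show k ∈ Subalgebra.centralizer F (matrixSet G) ↔ _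
  rw [Subalgebra.mem_centralizer_iff, Subalgebra.mem_centralizer_iff]
  constructor
  · rintro hk _ ⟨g, hg, rfl⟩
    have hg' : h⁻¹ * g * h ∈ G := by rw [hn]; simpa [mul_assoc] using hg
    have h1 := hk _ (mem_matrixSet hg')
    calc (g : Matrix ι ι F) * (h.val * k * h⁻¹.val)
        = h.val * ((h⁻¹ * g * h).val * k) * h⁻¹.val := by
          simp only [Units.val_mul, ← mul_assoc, Units.mul_inv, one_mul]
      _ = h.val * (k * (h⁻¹ * g * h).val) * h⁻¹.val := by rw [h1]
      _ = h.val * k * h⁻¹.val * g := by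
          simp only [Units.val_mul, mul_assoc, Units.mul_inv, mul_one]
  · rintro hk _ ⟨g, hg, rfl⟩
    have h1 := hk _ (mem_matrixSet ((hn g).1 hg))
    have h2 := congrArg (fun z => h⁻¹.val * z * h.val) h1
    simpa [Units.val_mul, mul_assoc] using h2

/-- Density: an absolutely irreducible group spans the matrix algebra. -/
theorem span_eq_top [Finite F] [Nonempty ι] {G : Subgroup (GL ι F)}
    (hG : ActsAbsolutelyIrreducibly (matrixSet G)) : Submodule.span F (matrixSet G) = ⊤ := by
  set A := Algebra.adjoin F (matrixSet G) with hA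
  have hclos : (Submonoid.closure (matrixSet G) : Set (Matrix ι ι F)) = matrixSet G := by
    refine Set.Subset.antisymm ?_ Submonoid.subset_closure
    intro x hx
    refine Submonoid.closure_induction (motive := fun x _ => x ∈ matrixSet G) (fun x hx => hx) ⟨1, one_mem G, rfl⟩ ?_ hx
    rintro _ _ - - ⟨a, ha, rfl⟩ ⟨b, hb, rfl⟩
    exact ⟨a * b, mul_mem ha hb, rfl⟩
  have hspan : Subalgebra.toSubmodule A = Submodule.span F (matrixSet G) := by
    rw [hA, Algebra.adjoin_eq_span, hclos]
  letI : Module A (ι → F) := Module.compHom (ι → F)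
    ((Matrix.toLinAlgEquiv' : Matrix ι ι F ≃ₐ[F] Module.End F (ι → F)).toAlgHom.comp A.val).toRingHom
  have hsm : ∀ (a : A) (v : ι → F), a • v = (a : Matrix ι ι F) *ᵥ v := fun a v =>
    Matrix.toLinAlgEquiv'_apply _ _
  have hfs : ∀ (c : F) (v : ι → F), (algebraMap F A c) • v = c • v := fun c v => by
    rw [hsm, Subalgebra.coe_algebraMap, Algebra.algebraMap_eq_smul_one, Matrix.smul_mulVec,
      Matrix.one_mulVec]
  haveI : IsSimpleModule A (ι → F) := by
    haveI : Nontrivial (Submodule A (ι → F)) := inferInstance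
    refine { eq_bot_or_eq_top := fun W => ?_ }
    let W' : Submodule F (ι → F) :=
      { carrier := W, add_mem' := W.add_mem, zero_mem' := W.zero_mem,
        smul_mem' := fun c v hv => by
          show c • v ∈ W
          rw [← hfs]
          exact W.smul_mem _ hv }
    have hinv : InvSub G W' := fun g hg w hw => by
      have h1 := W.smul_mem (⟨g.val, Algebra.subset_adjoin (mem_matrixSet hg)⟩ : A) hw
      exact (congrArg (· ∈ W) (hsm _ _)).mp h1
    rcases irr_iff.1 hG.1 W' hinv with h | h
    · exact Or.inl (SetLike.ext' (congrArg (fun S : Submodule F (ι → F) => (S : Set (ι → F))) h))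
    · exact Or.inr (SetLike.ext' (congrArg (fun S : Submodule F (ι → F) => (S : Set (ι → F))) h))
  have hend : ∀ φ : Module.End A (ι → F), ∃ c : F, ∀ v, φ v = c • v := fun φ => by
    let L : (ι → F) →ₗ[F] (ι → F) :=
      { toFun := φ, map_add' := φ.map_add,
        map_smul' := fun c v => by rw [RingHom.id_apply, ← hfs c v, ← hfs c (φ v)]; exact φ.map_smul _ _ }
    obtain ⟨c, hc⟩ := hG.2 (LinearMap.toMatrix' L) (by
      rintro _ ⟨g, hg, rfl⟩
      refine Matrix.toLin'.injective (LinearMap.ext fun v => ?_)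
      rw [Matrix.toLin'_mul, Matrix.toLin'_mul, Matrix.toLin'_toMatrix', LinearMap.comp_apply,
        LinearMap.comp_apply, Matrix.toLin'_apply, Matrix.toLin'_apply]
      show φ (g.val *ᵥ v) = g.val *ᵥ φ v
      exact ((congrArg φ (hsm ⟨g.val, Algebra.subset_adjoin (mem_matrixSet hg)⟩ v)).symm.trans
        (φ.map_smul _ _)).trans (hsm _ _))
    refine ⟨c, fun v => ?_⟩
    have h1 : L v = c • v := by
      rw [← Matrix.toLin'_toMatrix' L, hc, Matrix.toLin'_apply, Matrix.smul_mulVec, Matrix.one_mulVec]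
    exact h1
  rw [← hspan, eq_top_iff]
  intro M _
  let f : Module.End (Module.End A (ι → F)) (ι → F) :=
    { toFun := fun v => M *ᵥ v, map_add' := Matrix.mulVec_add M,
      map_smul' := fun φ v => by
        obtain ⟨c, hc⟩ := hend φ
        simp only [RingHom.id_apply, Module.End.smul_def, hc, Matrix.mulVec_smul] }
  classical
  obtain ⟨a, ha⟩ := jacobson_density f (Finset.univ.image fun i => Pi.single i (1 : F))
  have : M = (a : Matrix ι ι F) := by
    refine Matrix.ext fun i j => ?_
    have h1 := ha (Pi.single j 1) (Finset.mem_image_of_mem _ (Finset.mem_univ _))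
    have h2 : M *ᵥ Pi.single j 1 = (a : Matrix ι ι F) *ᵥ Pi.single j 1 := h1.trans (hsm _ _)
    simpa [Matrix.mulVec_single_one] using congrFun h2 i
  rw [this]
  exact a.2

theorem tvMat_mulVec (z a v : ι → F) : tvMat z a *ᵥ v = v + (a ⬝ᵥ v) • z := by
  rw [tvMat, Matrix.add_mulVec, Matrix.one_mulVec, Matrix.vecMulVec_mulVec, op_smul_eq_smul]

/-- The special linear group fixes no proper non-zero subspace. -/
theorem not_SL_le_subspaceStabilizer {W : Submodule F (ι → F)} (h0 : W ≠ ⊥) (h1 : W ≠ ⊤) :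
    ¬ specialLinear ι F ≤ subspaceStabilizer W := fun hle => by
  obtain ⟨w, hw, hw0⟩ := Submodule.exists_mem_ne_zero_of_ne_bot h0
  obtain ⟨u, hu⟩ := SetLike.exists_not_mem_of_ne_top W h1
  obtain ⟨a, ha1, ha2⟩ := Rat0.exists_dot_pair (x := u) (y := w) fun c e => by
    rcases eq_or_ne c 0 with rfl | hc
    · exact hw0 (by rw [e, zero_smul])
    · refine hu ?_
      rw [show u = c⁻¹ • w by rw [e, smul_smul, inv_mul_cancel₀ hc, one_smul]]
      exact W.smul_mem _ hw
  rw [dotProduct_comm] at ha1 ha2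
  have h2 := hle (tv_mem_SL u a ha1)
  have h3 : tvMat u a *ᵥ w ∈ (W : Set (ι → F)) := by
    exact (h2 w).1 hw
  rw [tvMat_mulVec, ha2, one_smul, SetLike.mem_coe] at h3
  exact hu (by simpa using W.sub_mem h3 hw)

/-- A finite set stable under conjugation by `SL` containing a non-scalar matrix is large. -/
theorem card_conjInvariant [Fintype F] [Nonempty ι] {X : Finset (Matrix ι ι F)} {k : Matrix ι ι F}
    (hk : ∀ c : F, k ≠ c • (1 : Matrix ι ι F))
    (hX : ∀ g ∈ specialLinear ι F, (g : Matrix ι ι F) * k * (g⁻¹ : GL ι F).val ∈ X) :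
    Fintype.card F ^ Fintype.card ι ≤ X.card + Fintype.card F ^ 2 := by
  classical
  obtain ⟨v, hv⟩ := exists_not_eigen hk
  have hv0 : v ≠ 0 := fun h => hv 0 (by rw [h, Matrix.mulVec_zero, smul_zero])
  set w := k *ᵥ v with hw
  let P : Finset (ι → F) := Finset.univ.image fun st : F × F => st.1 • v + st.2 • w
  have hP : P.card ≤ Fintype.card F ^ 2 := by
    refine Finset.card_image_le.trans ?_
    simp [sq]
  have hsub : Pᶜ ⊆ X.image fun x => x *ᵥ v - w := by
    intro u hu
    rw [Finset.mem_compl] at hu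
    have hu' : ∀ s t : F, u ≠ s • v + t • w := fun s t e =>
      hu (Finset.mem_image.2 ⟨(s, t), Finset.mem_univ _, e.symm⟩)
    obtain ⟨a, haw, hav, hau⟩ := Rat0.exists_dot3 (x := w) (y := v) (w := u) fun s t e => by
      rcases eq_or_ne t 0 with rfl | ht
      · exact hv s (e.trans (by rw [zero_smul, add_zero]))
      · refine hu' (-(t⁻¹ * s)) t⁻¹ ?_
        rw [e, smul_add, smul_smul, smul_smul, inv_mul_cancel₀ ht, one_smul, neg_smul, ← add_assoc,
          neg_add_cancel, zero_add]
    rw [dotProduct_comm] at haw hav hau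
    let T := tv u a hau
    have hTv : T.val *ᵥ v = v := by rw [coe_tv, tvMat_mulVec, hav, zero_smul, add_zero]
    have hTw : T.val *ᵥ w = w + u := by rw [coe_tv, tvMat_mulVec, haw, one_smul]
    refine Finset.mem_image.2 ⟨_, hX T (tv_mem_SL u a hau), ?_⟩
    have hTiv : (T⁻¹).val *ᵥ v = v := by
      have := inv_mulVec_mulVec T v
      rwa [hTv] at this
    rw [← Matrix.mulVec_mulVec, ← Matrix.mulVec_mulVec, hTiv, ← hw, hTw, add_sub_cancel_left]
  have h1 := Finset.card_le_card hsub
  rw [Finset.card_compl, Fintype.card_fun] at h1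
  have h2 := h1.trans Finset.card_image_le
  omega

end Cfsg.Lib.Linear.Asch
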