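import Cfsg.Agent.Lib.Linear.Aschbacher.NotSL

/-!
# Orders of the stabilisers of geometric structures in prime dimension
-/

set_option autoImplicit false
set_option linter.unusedSectionVars false
set_option linter.style.haveILetI false

namespace Cfsg.Lib.Linear.Asch

open Cfsg.Geo Cfsg.Lib.Linear
open scoped Matrix MatrixGroups

variable {ι : Type} [Fintype ι] [DecidableEq ι] {F : Type*} [Field F] [Fintype F] {r : ℕ}

theorem card_decompositionStabilizer_le {D : Fin r → Submodule F (ι → F)} (hD : IsMDecomposition 1 D) :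
    Nat.card (decompositionStabilizer D) ≤ r.factorial * Fintype.card F ^ r := by
  classical
  obtain ⟨b, hb⟩ := decomp_gen hD
  choose π ε _ hg using fun g : decompositionStabilizer D => decomp_act hb g.2
  let φ : decompositionStabilizer D → Equiv.Perm (Fin r) × (Fin r → F) := fun g => (π g, ε g)
  have hφ : Function.Injective φ := fun g h e => by
    refine Subtype.ext (Units.ext (Matrix.toLin'.injective (b.ext fun i => ?_)))
    rw [Matrix.toLin'_apply, Matrix.toLin'_apply, hg, hg]
    simp only [φ, Prod.mk.injEq] at e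
    rw [e.1, e.2]
  refine (Nat.card_le_card_of_injective φ hφ).trans (le_of_eq ?_)
  rw [Nat.card_prod, Nat.card_fun, Nat.card_eq_fintype_card (α := Fin r), Fintype.card_fin,
    Nat.card_eq_fintype_card (α := F), Nat.card_perm, Nat.card_eq_fintype_card (α := Fin r), Fintype.card_fin]

theorem card_subalgebraNormalizer_le (hr : r.Prime) (hcard : Fintype.card ι = r)
    {K : Subalgebra F (Matrix ι ι F)} (hK : IsFieldSubalgebra r K) :
    Nat.card (subalgebraNormalizer K) ≤ r * Fintype.card F ^ r := by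
  classical
  haveI : Nonempty ι := Fintype.card_pos_iff.1 (hcard ▸ hr.pos)
  haveI : Finite (Matrix ι ι F) := inferInstanceAs (Finite (ι → ι → F))
  haveI : FiniteDimensional F K :=
    Module.finite_of_finrank_pos (hK.finrank_eq.symm ▸ hr.pos)
  have hfield : IsField K :=
    { exists_pair_ne := ⟨0, 1, fun h => zero_ne_one (congrArg Subtype.val h)⟩
      mul_comm := fun a b => Subtype.ext (hK.comm a a.2 b b.2)
      mul_inv_cancel := fun {a} ha => by
        obtain ⟨y, hy, hy'⟩ := hK.inv a a.2 (fun h => ha (Subtype.ext h))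
        exact ⟨⟨y, hy⟩, Subtype.ext hy'⟩ }
  letI : Field K := hfield.toField
  obtain ⟨k, hk⟩ : ∃ k : K, k ∉ (algebraMap F K).range := by
    by_contra hne
    push Not at hne
    have hsurj : Function.Surjective (algebraMap F K) := fun x => hne x
    have h1 := Nat.card_le_card_of_surjective _ hsurj
    rw [Module.natCard_eq_pow_finrank (K := F) (V := K), hK.finrank_eq] at h1
    have h2 : Nat.card F ^ 1 < Nat.card F ^ r := Nat.pow_lt_pow_right Finite.one_lt_card hr.one_lt
    rw [pow_one] at h2
    omega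
  have hint : IsIntegral F k := IsIntegral.of_finite F k
  have hdeg : (minpoly F k).natDegree = r := by
    have h1 := minpoly.degree_dvd (K := F) (L := K) hint
    rw [hK.finrank_eq] at h1
    rcases (Nat.dvd_prime hr).1 h1 with h | h
    · exact absurd (minpoly.natDegree_eq_one_iff.1 h) hk
    · exact h
  let v : ι → F := Pi.single (Classical.arbitrary ι) 1
  have hv : v ≠ 0 := by simp [v]
  let ev : K →ₗ[F] (ι → F) :=
    { toFun := fun x => (x : Matrix ι ι F) *ᵥ v
      map_add' := fun a b => Matrix.add_mulVec _ _ _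
      map_smul' := fun c a => Matrix.smul_mulVec _ _ _ }
  have hev : LinearMap.ker ev = ⊥ := by
    rw [LinearMap.ker_eq_bot, injective_iff_map_eq_zero]
    intro x hx
    by_contra h0
    obtain ⟨y, hy, hy'⟩ := hK.inv x x.2 (fun e => h0 (Subtype.ext e))
    rw [hK.comm _ x.2 y hy] at hy'
    refine hv ?_
    have h1 := congrArg (fun u => y *ᵥ u) hx
    simpa [ev, Matrix.mulVec_mulVec, hy'] using h1
  have hli : LinearIndependent F fun i : Fin (minpoly F k).natDegree => ev (k ^ (i : ℕ)) :=
    (linearIndependent_pow k).map' ev hev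
  haveI : Nonempty (Fin (minpoly F k).natDegree) := ⟨⟨0, hdeg.symm ▸ hr.pos⟩⟩
  obtain ⟨B, hB⟩ : ∃ B : Module.Basis (Fin (minpoly F k).natDegree) F (ι → F), ∀ i, B i = ev (k ^ (i : ℕ)) :=
    ⟨basisOfLinearIndependentOfCardEqFinrank hli
      (by rw [Fintype.card_fin, hdeg, Module.finrank_fintype_fun_eq_card, hcard]),
      fun i => congrFun (coe_basisOfLinearIndependentOfCardEqFinrank hli _) i⟩
  let p := minpoly F k
  let S : Finset (Matrix ι ι F) := (p.map (algebraMap F K)).roots.toFinset.image (fun x : K => (x : Matrix ι ι F))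
  have hS : S.card ≤ r := by
    refine Finset.card_image_le.trans ((Multiset.toFinset_card_le _).trans ((Polynomial.card_roots' _).trans ?_))
    rw [Polynomial.natDegree_map, hdeg]
  have hmemS : ∀ g : subalgebraNormalizer K, g.1.val * (k : Matrix ι ι F) * (g.1⁻¹).val ∈ S := by
    intro g
    have hmem := (g.2 _).1 k.2
    refine Finset.mem_image.2 ⟨⟨_, hmem⟩, ?_, rfl⟩
    rw [Multiset.mem_toFinset, Polynomial.mem_roots (Polynomial.map_ne_zero (minpoly.ne_zero hint)),
      Polynomial.IsRoot, Polynomial.eval_map, ← Polynomial.aeval_def]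
    apply Subtype.ext
    show K.val (Polynomial.aeval _ p) = _
    rw [← Polynomial.aeval_algHom_apply]
    show Polynomial.aeval (g.1.val * (k : Matrix ι ι F) * (g.1⁻¹).val) p = 0
    let φ : Matrix ι ι F →ₐ[F] Matrix ι ι F :=
      { toFun := fun m => g.1.val * m * (g.1⁻¹).val
        map_one' := by simp
        map_mul' := fun a b => by simp [mul_assoc]
        map_zero' := by simp
        map_add' := fun a b => by simp [mul_add, add_mul]
        commutes' := fun c => by
          rw [Algebra.algebraMap_eq_smul_one, Matrix.mul_smul, Matrix.smul_mul, mul_one, Units.mul_inv] }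
    show Polynomial.aeval (φ (k : Matrix ι ι F)) p = 0
    rw [Polynomial.aeval_algHom_apply, ← Subalgebra.coe_val, Polynomial.aeval_algHom_apply,
      show p = minpoly F k from rfl, minpoly.aeval, map_zero, map_zero]
  let ψ : subalgebraNormalizer K → S × (ι → F) := fun g => (⟨_, hmemS g⟩, g.1.val *ᵥ v)
  have hψ : Function.Injective ψ := by
    intro g h e
    simp only [ψ, Prod.mk.injEq, Subtype.mk.injEq] at e
    obtain ⟨e1, e2⟩ := e
    have hpow : ∀ i : ℕ, g.1.val * ((k ^ i : K) : Matrix ι ι F) * (g.1⁻¹).val =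
        h.1.val * ((k ^ i : K) : Matrix ι ι F) * (h.1⁻¹).val := fun i => by
      rw [SubmonoidClass.coe_pow, ← Units.conj_pow, ← Units.conj_pow, e1]
    refine Subtype.ext (Units.ext (Matrix.toLin'.injective (B.ext fun i => ?_)))
    rw [Matrix.toLin'_apply, Matrix.toLin'_apply, hB]
    show g.1.val *ᵥ (((k ^ (i : ℕ) : K) : Matrix ι ι F) *ᵥ v) = h.1.val *ᵥ (((k ^ (i : ℕ) : K) : Matrix ι ι F) *ᵥ v)
    calc _ = (g.1.val * ((k ^ (i : ℕ) : K) : Matrix ι ι F) * (g.1⁻¹).val) *ᵥ (g.1.val *ᵥ v) := by
          simp only [Matrix.mulVec_mulVec, mul_assoc, Units.inv_mul, mul_one]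
      _ = (h.1.val * ((k ^ (i : ℕ) : K) : Matrix ι ι F) * (h.1⁻¹).val) *ᵥ (h.1.val *ᵥ v) := by rw [hpow, e2]
      _ = _ := by simp only [Matrix.mulVec_mulVec, mul_assoc, Units.inv_mul, mul_one]
  refine (Nat.card_le_card_of_injective ψ hψ).trans ?_
  rw [Nat.card_prod, Nat.card_fun, Nat.card_eq_fintype_card (α := S), Fintype.card_coe,
    Nat.card_eq_fintype_card (α := F), Nat.card_eq_fintype_card (α := ι), hcard]
  exact Nat.mul_le_mul_right _ hS

theorem card_normalizer_le (hr : r.Prime) (hcard : Fintype.card ι = r) {R : Subgroup (GL ι F)} {c : F}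
    {x y z : GL ι F} (hR : Extra r R c x y z) :
    Nat.card (subgroupNormalizer R ⊓ specialLinear ι F : Subgroup (GL ι F)) ≤ r ^ 7 := by
  classical
  haveI : Nonempty ι := Fintype.card_pos_iff.1 (hcard ▸ hr.pos)
  haveI : NeZero r := ⟨hr.ne_zero⟩
  haveI : Finite (Matrix ι ι F) := inferInstanceAs (Finite (ι → ι → F))
  set N : Subgroup (GL ι F) := subgroupNormalizer R ⊓ specialLinear ι F
  haveI : Fintype N := Fintype.ofFinite N
  haveI : Fintype R := Fintype.ofFinite R
  have hcRR : Fintype.card R = r ^ 3 := by rw [← Nat.card_eq_fintype_card, hR.card]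
  let φ : N → R × R := fun g =>
    (⟨g * x * (g : GL ι F)⁻¹, (Subgroup.mem_normalizer_iff.1 g.2.1 x).1 hR.mem_x⟩,
      ⟨g * y * (g : GL ι F)⁻¹, (Subgroup.mem_normalizer_iff.1 g.2.1 y).1 hR.mem_y⟩)
  have hfib : ∀ p ∈ Finset.univ.image φ, ((Finset.univ : Finset N).filter fun g => φ g = p).card ≤ r := by
    intro p hp
    obtain ⟨g₀, -, rfl⟩ := Finset.mem_image.1 hp
    have key : ∀ g : N, φ g = φ g₀ → ∃ k : Fin r, (g : GL ι F) = g₀ * z ^ (k : ℕ) := by
      intro g hg
      simp only [φ, Prod.mk.injEq, Subtype.mk.injEq] at hg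
      set s : GL ι F := (g₀ : GL ι F)⁻¹ * g with hs
      have hcx : ∀ w : GL ι F, (g : GL ι F) * w * (g : GL ι F)⁻¹ = g₀ * w * (g₀ : GL ι F)⁻¹ → Commute s w := by
        intro w hw
        show s * w = w * s
        calc s * w = (g₀ : GL ι F)⁻¹ * ((g : GL ι F) * w * (g : GL ι F)⁻¹) * g := by rw [hs]; group
          _ = (g₀ : GL ι F)⁻¹ * ((g₀ : GL ι F) * w * (g₀ : GL ι F)⁻¹) * g := by rw [hw]
          _ = w * s := by rw [hs]; group
      have hx := hcx x hg.1
      have hy := hcx y hg.2
      have hz : Commute s z := scalars_comm (mem_scalars_of_smul hR.coe_z)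
      have hall : ∀ w ∈ R, s * w = w * s := fun w hw => by
        obtain ⟨i, j, k, rfl⟩ := hR.gen w hw
        exact (((hx.pow_right i).mul_right (hy.pow_right j)).mul_right (hz.pow_right k)).eq
      obtain ⟨d, hd⟩ := (mem_scalars_iff s).1 (absIrr_center hR.absIrr hall)
      have hd1 : (d : F) ^ r = 1 := hcard ▸ det_scalar hd (mul_mem (inv_mem g₀.2.2) g.2.2)
      obtain ⟨k, hk, hk'⟩ := hR.prim.eq_pow_of_pow_eq_one hd1
      refine ⟨⟨k, hk⟩, ?_⟩
      have h2 : s = z ^ k := Units.ext (by rw [hd, scalar_pow hR.coe_z, hk'])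
      show (g : GL ι F) = g₀ * z ^ k
      rw [← h2, hs]
      group
    have h1 : ((Finset.univ : Finset N).filter fun g => φ g = φ g₀).map ⟨Subtype.val, Subtype.val_injective⟩ ⊆
        Finset.image (fun k : Fin r => (g₀ : GL ι F) * z ^ (k : ℕ)) Finset.univ := by
      intro w hw
      obtain ⟨g, hg, rfl⟩ := Finset.mem_map.1 hw
      obtain ⟨k, hk⟩ := key g (Finset.mem_filter.1 hg).2
      exact Finset.mem_image.2 ⟨k, Finset.mem_univ _, hk.symm⟩
    have h2 := (Finset.card_le_card h1).trans Finset.card_image_le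
    rwa [Finset.card_map, Finset.card_univ, Fintype.card_fin] at h2
  have h1 := Finset.card_le_mul_card_image (f := φ) (Finset.univ : Finset N) r hfib
  have h2 : (Finset.univ.image φ).card ≤ r ^ 3 * r ^ 3 := by
    refine (Finset.card_le_univ _).trans (le_of_eq ?_)
    rw [Fintype.card_prod, hcRR]
  rw [Nat.card_eq_fintype_card, ← Finset.card_univ]
  calc (Finset.univ : Finset N).card ≤ r * (Finset.univ.image φ).card := h1
    _ ≤ r * (r ^ 3 * r ^ 3) := Nat.mul_le_mul_left _ h2
    _ = r ^ 7 := by ring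

end Cfsg.Lib.Linear.Asch
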