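import Cfsg.Agent.Lib.Linear.Aschbacher.NotSL

/-!
# The normaliser of the field of 64 elements in dimension 3 over the field of 4 elements

Its determinant-one part is realised, up to scalars, over the field of 2 elements.
-/

set_option autoImplicit false
set_option linter.unusedSectionVars false
set_option linter.style.haveILetI false

namespace Cfsg.Lib.Linear.Asch

open Cfsg.Geo Cfsg.Lib.Linear
open scoped Matrix MatrixGroups

variable {ι : Type} [Fintype ι] [DecidableEq ι] {F : Type*} [Field F]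

theorem field_four [Fintype F] (hcard : Fintype.card ι = 3) (hq : Fintype.card F = 4)
    {K : Subalgebra F (Matrix ι ι F)} (hK : IsFieldSubalgebra 3 K) :
    ∃ (F₀ : Subfield F) (P : GL ι F), F₀ ≠ ⊤ ∧ Fintype.card F = Nat.card F₀ ^ 2 ∧
      ∀ h ∈ subalgebraNormalizer K, h ∈ specialLinear ι F → h ∈ subfieldSubgroup F₀ P := by
  classical
  haveI : Nonempty ι := Fintype.card_pos_iff.1 (by omega)
  haveI : Finite (Matrix ι ι F) := inferInstanceAs (Finite (ι → ι → F))
  haveI : Fact (Nat.Prime 2) := ⟨Nat.prime_two⟩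
  haveI : CharP F 2 := by
    obtain ⟨p, hp⟩ := CharP.exists F
    obtain ⟨n, hpp, hn⟩ := FiniteField.card F p
    have h2 : p ∣ 2 ^ 2 := by
      rw [show (2 : ℕ) ^ 2 = p ^ (n : ℕ) from (by rw [← hn, hq]; norm_num)]
      exact dvd_pow_self p n.ne_zero
    have := (Nat.prime_dvd_prime_iff_eq hpp Nat.prime_two).1 (hpp.dvd_of_dvd_pow h2)
    subst this
    exact hp
  obtain ⟨F₀, hF₀, hmem⟩ := exists_subfield_pow (F := F) 2 2 1 (by rw [hq]; norm_num) one_pos (one_dvd 2)
  have hfield : IsField K :=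
    { exists_pair_ne := ⟨0, 1, fun h => zero_ne_one (congrArg Subtype.val h)⟩
      mul_comm := fun a b => Subtype.ext (hK.comm a a.2 b b.2)
      mul_inv_cancel := fun {a} ha => by
        obtain ⟨y, hy, hy'⟩ := hK.inv a a.2 (fun h => ha (Subtype.ext h))
        exact ⟨⟨y, hy⟩, Subtype.ext hy'⟩ }
  letI : Field K := hfield.toField
  haveI : Fintype K := Fintype.ofFinite K
  have hKcard : Nat.card K = 64 := by
    rw [Module.natCard_eq_pow_finrank (K := F), hK.finrank_eq, Nat.card_eq_fintype_card, hq]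
    norm_num
  haveI : Fact (Nat.Prime 7) := ⟨by norm_num⟩
  obtain ⟨gu, hgu⟩ := exists_prime_orderOf_dvd_card (G := Kˣ) 7 (by
    rw [Fintype.card_units, ← Nat.card_eq_fintype_card, hKcard]; norm_num)
  set g : K := (gu : K) with hg
  have hg7 : g ^ 7 = 1 := by
    rw [hg, ← Units.val_pow_eq_pow_val, ← hgu, pow_orderOf_eq_one, Units.val_one]
  have hord : orderOf g = 7 := by rw [hg, orderOf_units, hgu]
  have hgs : g ∉ (algebraMap F K).range := by
    rintro ⟨a, ha⟩
    have h1 : a ^ 4 = a := by rw [← hq]; exact FiniteField.pow_card a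
    have ha0 : a ≠ 0 := by
      rintro rfl
      rw [map_zero] at ha
      exact gu.ne_zero (hg ▸ ha.symm)
    have h3 : a ^ 3 = 1 := mul_left_cancel₀ ha0 (by rw [← pow_succ', h1, mul_one])
    have h4 : g ^ 3 = 1 := by rw [← ha, ← map_pow, h3, map_one]
    have := orderOf_dvd_of_pow_eq_one h4
    rw [hord] at this
    omega
  haveI : CharP K 2 := charP_of_injective_algebraMap (algebraMap F K).injective 2
  -- g satisfies a cubic with coefficients 0, 1
  obtain ⟨e1, e2, he1, he2, hcub⟩ : ∃ e1 e2 : F, e1 ∈ F₀ ∧ e2 ∈ F₀ ∧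
      g ^ 3 = 1 + algebraMap F K e1 * g + algebraMap F K e2 * g ^ 2 := by
    have h2 : (2 : K) = 0 := CharTwo.two_eq_zero
    have h1 : (g - 1) * ((g ^ 3 + g + 1) * (g ^ 3 + g ^ 2 + 1)) = 0 := by
      have e : (g - 1) * ((g ^ 3 + g + 1) * (g ^ 3 + g ^ 2 + 1)) = g ^ 7 - 1 + 2 * (g ^ 4 - g ^ 3) := by
        ring
      rw [e, hg7, sub_self, h2, zero_mul, add_zero]
    have hg1 : g - 1 ≠ 0 := sub_ne_zero.2 fun h => by
      rw [h, orderOf_one] at hord; omega
    rcases mul_eq_zero.1 ((mul_eq_zero.1 h1).resolve_left hg1) with h | h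
    · exact ⟨1, 0, F₀.one_mem, F₀.zero_mem, by
        rw [map_one, map_zero]; linear_combination h + (-g - 1) * h2⟩
    · exact ⟨0, 1, F₀.zero_mem, F₀.one_mem, by
        rw [map_one, map_zero]; linear_combination h + (-g ^ 2 - 1) * h2⟩
  -- the basis v, g v, g² v
  let v : ι → F := Pi.single (Classical.arbitrary ι) 1
  have hv : v ≠ 0 := by simp [v]
  let ev : K →ₗ[F] (ι → F) :=
    { toFun := fun k => (k : Matrix ι ι F) *ᵥ v
      map_add' := fun a b => Matrix.add_mulVec _ _ _
      map_smul' := fun c a => Matrix.smul_mulVec _ _ _ }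
  have hev : Function.Injective ev := by
    rw [injective_iff_map_eq_zero]
    intro k hk
    by_contra h0
    obtain ⟨y, hy, hy'⟩ := hK.inv k k.2 (fun e => h0 (Subtype.ext e))
    rw [hK.comm _ k.2 y hy] at hy'
    refine hv ?_
    have h1 := congrArg (fun u => y *ᵥ u) hk
    simpa [ev, Matrix.mulVec_mulVec, hy'] using h1
  have hfr : Module.finrank F K = Module.finrank F (ι → F) := by
    rw [hK.finrank_eq, Module.finrank_fintype_fun_eq_card, hcard]
  haveI : FiniteDimensional F K := Module.finite_of_finrank_eq_succ hK.finrank_eq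
  let evE := LinearEquiv.ofInjectiveOfFinrankEq ev hev hfr
  have hdeg : (minpoly F g).natDegree = 3 := by
    have h1 := minpoly.degree_dvd (K := F) (L := K) (IsIntegral.of_finite F g)
    rw [hK.finrank_eq] at h1
    rcases (Nat.dvd_prime Nat.prime_three).1 h1 with h | h
    · exact absurd (minpoly.natDegree_eq_one_iff.1 h) hgs
    · exact h
  let e : ι ≃ Fin 3 := Fintype.equivFinOfCardEq hcard
  let P : Matrix ι ι F := Matrix.of fun i j => ev (g ^ (e j : ℕ)) i
  have hPw : ∀ w : ι → F, P *ᵥ w = ev (∑ j, w j • g ^ (e j : ℕ)) := fun w => by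
    funext i
    rw [map_sum, Finset.sum_apply]
    exact Finset.sum_congr rfl fun j _ => by
      rw [map_smul, Pi.smul_apply, smul_eq_mul, mul_comm]; rfl
  have hli : LinearIndependent F fun j : ι => g ^ (e j : ℕ) := by
    have h1 := linearIndependent_pow (K := F) g
    exact (h1.comp (fun j : ι => Fin.cast hdeg.symm (e j)) fun a b hab => e.injective (Fin.ext (congrArg Fin.val hab :)))
  have hPinj : Function.Injective P.mulVec := fun a b hab => by
    rw [hPw, hPw] at hab
    funext j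
    exact (Fintype.linearIndependent_iff.1 hli (a - b) (by
      simp only [Pi.sub_apply, sub_smul, Finset.sum_sub_distrib, hev hab, sub_self]) j) |> sub_eq_zero.1
  obtain ⟨Pu, hPu⟩ := Matrix.mulVec_injective_iff_isUnit.1 hPinj
  let V₀ : Set K := {k | ∃ w : ι → F, (∀ i, w i ∈ F₀) ∧ k = ∑ j, w j • g ^ (e j : ℕ)}
  have hadd : ∀ a ∈ V₀, ∀ b ∈ V₀, a + b ∈ V₀ := by
    rintro _ ⟨w, hw, rfl⟩ _ ⟨u, hu, rfl⟩
    exact ⟨w + u, fun i => F₀.add_mem (hw i) (hu i), by simp [add_smul, Finset.sum_add_distrib]⟩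
  have hsmul : ∀ c ∈ F₀, ∀ a ∈ V₀, c • a ∈ V₀ := by
    rintro c hc _ ⟨u, hu, rfl⟩
    exact ⟨c • u, fun i => F₀.mul_mem hc (hu i), by simp [Finset.smul_sum, smul_smul]⟩
  have hbase : ∀ n < 3, g ^ n ∈ V₀ := fun n hn =>
    ⟨Pi.single (e.symm ⟨n, hn⟩) 1, fun i => by
      by_cases h : i = e.symm ⟨n, hn⟩
      · subst h; simp [F₀.one_mem]
      · simp [h, F₀.zero_mem], by
      rw [Finset.sum_eq_single (e.symm ⟨n, hn⟩)]
      · simp
      · intro j _ hj; simp [hj]
      · intro h; exact absurd (Finset.mem_univ _) h⟩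
  have hpowmem : ∀ n, g ^ n ∈ V₀ := by
    intro n
    induction n using Nat.strong_induction_on with
    | _ n ih =>
      by_cases hn : n < 3
      · exact hbase n hn
      · obtain ⟨m, rfl⟩ : ∃ m, n = m + 3 := ⟨n - 3, by omega⟩
        have : g ^ (m + 3) = g ^ m + (e1 • g ^ (m + 1) + e2 • g ^ (m + 2)) := by
          rw [pow_add, hcub, Algebra.smul_def, Algebra.smul_def]
          ring
        rw [this]
        exact hadd _ (ih m (by omega)) _
          (hadd _ (hsmul _ he1 _ (ih (m + 1) (by omega))) _ (hsmul _ he2 _ (ih (m + 2) (by omega))))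
  refine ⟨F₀, Pu, fun htop => ?_, by rw [hF₀, hq]; norm_num, fun h hn hSL => ?_⟩
  · rw [htop, Nat.card_congr Subfield.topEquiv.toEquiv, Nat.card_eq_fintype_card, hq] at hF₀
    norm_num at hF₀
  -- conjugation by h maps g to a power of itself
  have hconj : (⟨h.val * (g : Matrix ι ι F) * (h⁻¹).val, (hn _).1 g.2⟩ : K) ^ 7 = 1 := by
    apply Subtype.ext
    have h7 : ((g : Matrix ι ι F)) ^ 7 = 1 := by
      rw [← SubmonoidClass.coe_pow, hg7]; rfl
    rw [SubmonoidClass.coe_pow]
    show (h.val * (g : Matrix ι ι F) * (h⁻¹).val) ^ 7 = 1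
    rw [Units.conj_pow, h7, mul_one, Units.mul_inv]
  have hprim : IsPrimitiveRoot g 7 := hord ▸ IsPrimitiveRoot.orderOf g
  obtain ⟨j, -, hj⟩ := hprim.eq_pow_of_pow_eq_one hconj
  have hhg : ∀ i : ℕ, h.val * ((g ^ i : K) : Matrix ι ι F) = ((g ^ (j * i) : K) : Matrix ι ι F) * h.val := by
    intro i
    induction i with
    | zero => simp
    | succ i ih =>
      have hj' : ((g ^ j : K) : Matrix ι ι F) * h.val = h.val * (g : Matrix ι ι F) := by
        rw [hj]; simp [mul_assoc]
      rw [pow_succ, MulMemClass.coe_mul, ← mul_assoc, ih, mul_assoc, ← hj', ← mul_assoc,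
        ← MulMemClass.coe_mul, ← pow_add]
      congr 3
  let k := evE.symm (h.val *ᵥ v)
  have hk : (k : Matrix ι ι F) *ᵥ v = h.val *ᵥ v := evE.apply_symm_apply (h.val *ᵥ v)
  -- the rational part of h
  have hw : ∀ i : ι, ∃ w : ι → F, (∀ a, w a ∈ F₀) ∧ g ^ (j * (e i : ℕ)) = ∑ a, w a • g ^ (e a : ℕ) :=
    fun i => hpowmem _
  choose W hW hWe using hw
  let M : Matrix ι ι F := Matrix.of fun a i => W i a
  have hcol : ∀ i, h.val *ᵥ (P *ᵥ Pi.single i 1) = (k : Matrix ι ι F) *ᵥ (P *ᵥ (M *ᵥ Pi.single i 1)) := by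
    intro i
    rw [hPw (Pi.single i 1), Finset.sum_eq_single i (fun a _ ha => by simp [ha])
      (fun hh => absurd (Finset.mem_univ _) hh), Pi.single_eq_same, one_smul, hPw]
    show h.val *ᵥ (((g ^ (e i : ℕ) : K) : Matrix ι ι F) *ᵥ v) = _
    rw [Matrix.mulVec_mulVec, hhg, ← Matrix.mulVec_mulVec, ← hk]
    have h3 : (∑ a, (M *ᵥ Pi.single i 1) a • g ^ (e a : ℕ)) = g ^ (j * (e i : ℕ)) := by
      rw [hWe]
      exact Finset.sum_congr rfl fun a _ => by rw [Matrix.mulVec_single_one]; rfl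
    rw [h3]
    show _ = (k : Matrix ι ι F) *ᵥ (((g ^ (j * (e i : ℕ)) : K) : Matrix ι ι F) *ᵥ v)
    rw [Matrix.mulVec_mulVec, Matrix.mulVec_mulVec, hK.comm _ k.2 _ (g ^ (j * (e i : ℕ)) : K).2]
  have hhP : h.val * P = (k : Matrix ι ι F) * P * M := by
    refine Matrix.ext fun a i => ?_
    have h1 := congrFun (hcol i) a
    simp only [Matrix.mulVec_mulVec, ← Matrix.mul_assoc, Matrix.mulVec_single_one, Matrix.col_apply] at h1
    exact h1
  -- determinants
  have hdetM : M.det = 1 ∧ (k : Matrix ι ι F).det = 1 := by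
    have hdet : h.val.det = 1 := by
      have := congrArg Units.val (MonoidHom.mem_ker.1 hSL)
      rw [Units.val_one] at this
      exact this
    have hPdet : P.det ≠ 0 := by
      rw [← hPu]; exact Matrix.GeneralLinearGroup.det_ne_zero Pu
    have h1 := congrArg Matrix.det hhP
    rw [Matrix.det_mul, Matrix.det_mul, Matrix.det_mul, hdet, one_mul] at h1
    have h2 : (k : Matrix ι ι F).det * M.det = 1 := by
      refine mul_left_cancel₀ hPdet ?_
      linear_combination h1.symm
    have hMmem : M.det ∈ F₀ := by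
      rw [Matrix.det_apply']
      refine sum_mem fun σ _ => mul_mem (intCast_mem F₀ _) (prod_mem fun a _ => hW a (σ a))
    have hM0 : M.det ≠ 0 := fun h0 => by rw [h0, mul_zero] at h2; exact zero_ne_one h2
    have hM1 : M.det = 1 := by
      have h3 := (hmem _).1 hMmem
      rw [pow_one, sq] at h3
      exact mul_left_cancel₀ hM0 (by rw [h3, mul_one])
    exact ⟨hM1, by rw [hM1, mul_one] at h2; exact h2⟩
  -- k is a scalar times a power of g
  have hk0 : k ≠ 0 := fun h0 => by
    have h1 := hk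
    rw [h0] at h1
    simp only [ZeroMemClass.coe_zero, Matrix.zero_mulVec] at h1
    exact move_ne_zero h hv h1.symm
  have hk63 : k ^ 63 = 1 := by
    have h1 := FiniteField.pow_card_sub_one_eq_one k hk0
    rwa [← Nat.card_eq_fintype_card, hKcard] at h1
  have hk21 : k ^ 21 = 1 := by
    set k' := k ^ 7 with hk'
    have h9 : k' ^ 9 = 1 := by rw [hk', ← pow_mul]; exact hk63
    have hdet' : (k' : Matrix ι ι F).det = 1 := by
      rw [hk', SubmonoidClass.coe_pow, Matrix.det_pow, hdetM.2, one_pow]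
    suffices k' ^ 3 = 1 by rwa [hk', ← pow_mul] at this
    -- k'^3 is a cube root of unity, hence a scalar
    obtain ⟨ω, hω, hω'⟩ : ∃ ω : F, ω ^ 3 = 1 ∧ algebraMap F K ω = k' ^ 3 := by
      have h3 : (k' ^ 3) ^ 3 = 1 := by rw [← pow_mul]; exact h9
      obtain ⟨ζ, hζ⟩ := exists_prime_orderOf_dvd_card (G := Fˣ) 3 (by
        rw [Fintype.card_units, hq])
      have hζ' : IsPrimitiveRoot (algebraMap F K (ζ : F)) 3 :=
        (IsPrimitiveRoot.coe_units_iff.2 (hζ ▸ IsPrimitiveRoot.orderOf ζ)).map_of_injective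
          (algebraMap F K).injective
      obtain ⟨a, -, ha⟩ := hζ'.eq_pow_of_pow_eq_one h3
      refine ⟨(ζ : F) ^ a, ?_, by rw [map_pow, ha]⟩
      rw [← pow_mul, mul_comm, pow_mul, ← Units.val_pow_eq_pow_val ζ, ← hζ, pow_orderOf_eq_one,
        Units.val_one, one_pow]
    by_cases hks : k' ∈ (algebraMap F K).range
    · obtain ⟨a, ha⟩ := hks
      have ha0 : a ≠ 0 := by
        rintro rfl
        rw [map_zero] at ha
        exact pow_ne_zero 7 hk0 (hk' ▸ ha.symm)
      have : a ^ 3 = 1 := by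
        have := FiniteField.pow_card_sub_one_eq_one a ha0
        rwa [hq] at this
      rw [← ha, ← map_pow, this, map_one]
    · have hd3 : (minpoly F k').natDegree = 3 := by
        have h1 := minpoly.degree_dvd (K := F) (L := K) (IsIntegral.of_finite F k')
        rw [hK.finrank_eq] at h1
        rcases (Nat.dvd_prime Nat.prime_three).1 h1 with h | h
        · exact absurd (minpoly.natDegree_eq_one_iff.1 h) hks
        · exact h
      have hp1 : minpoly F k' = Polynomial.X ^ 3 - Polynomial.C ω := by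
        refine (Polynomial.eq_of_monic_of_dvd_of_natDegree_le (minpoly.monic (IsIntegral.of_finite F k'))
          (Polynomial.monic_X_pow_sub_C ω (by norm_num)) (minpoly.dvd F k' (by simp [hω'])) ?_).symm
        rw [Polynomial.natDegree_X_pow_sub_C, hd3]
      have hp2 : minpoly F k' = (k' : Matrix ι ι F).charpoly := by
        refine (Polynomial.eq_of_monic_of_dvd_of_natDegree_le (minpoly.monic (IsIntegral.of_finite F k'))
          (Matrix.charpoly_monic _) ?_ ?_).symm
        · have := Matrix.minpoly_dvd_charpoly (k' : Matrix ι ι F)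
          rwa [← Subalgebra.coe_val, minpoly.algHom_eq _ Subtype.val_injective] at this
        · rw [Matrix.charpoly_natDegree_eq_dim, hcard, hd3]
      have h1 := Matrix.det_eq_sign_charpoly_coeff (k' : Matrix ι ι F)
      rw [← hp2, hp1, hdet', hcard] at h1
      simp [CharTwo.neg_eq] at h1
      rw [← hω', ← h1, map_one]
  let S : Finset K := (Polynomial.nthRootsFinset 21 (1 : K))
  obtain ⟨ζ, hζ⟩ := exists_prime_orderOf_dvd_card (G := Fˣ) 3 (by rw [Fintype.card_units, hq])
  set z : K := algebraMap F K (ζ : F) with hz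
  have hz3 : orderOf z = 3 := by
    exact (orderOf_injective (algebraMap F K).toMonoidHom (algebraMap F K).injective (ζ : F)).trans
      (by rw [orderOf_units, hζ])
  have hzg : orderOf (z * g) = 21 := by
    rw [(Commute.all z g).orderOf_mul_eq_mul_orderOf_of_coprime (by rw [hz3, hord]; norm_num), hz3, hord]
  have hprim21 : IsPrimitiveRoot (z * g) 21 := hzg ▸ IsPrimitiveRoot.orderOf _
  obtain ⟨m, -, hm⟩ := hprim21.eq_pow_of_pow_eq_one hk21
  set c : F := (ζ : F) ^ m with hc
  have hkc : k = algebraMap F K c * g ^ m := by rw [← hm, mul_pow, hz, map_pow]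
  -- conclusion
  have hc0 : c ≠ 0 := pow_ne_zero _ ζ.ne_zero
  have hgm : ∀ i : ι, ∃ w : ι → F, (∀ a, w a ∈ F₀) ∧
      g ^ m * g ^ (j * (e i : ℕ)) = ∑ a, w a • g ^ (e a : ℕ) := fun i => by
    rw [← pow_add]; exact hpowmem _
  choose U hU hUe using hgm
  rw [mem_subfieldSubgroup_iff]
  refine ⟨c⁻¹, inv_ne_zero hc0, fun a i => ?_⟩
  have hcoln : h.val *ᵥ (P *ᵥ Pi.single i 1) = P *ᵥ (c • U i) := by
    rw [hcol, hPw, hPw]
    have h3 : (∑ b, (M *ᵥ Pi.single i 1) b • g ^ (e b : ℕ)) = g ^ (j * (e i : ℕ)) := by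
      rw [hWe]
      exact Finset.sum_congr rfl fun b _ => by rw [Matrix.mulVec_single_one]; rfl
    have h4 : (∑ b, (c • U i) b • g ^ (e b : ℕ)) = k * g ^ (j * (e i : ℕ)) := by
      rw [hkc, mul_assoc, hUe, ← Algebra.smul_def, Finset.smul_sum]
      exact Finset.sum_congr rfl fun b _ => by rw [Pi.smul_apply, smul_eq_mul, smul_smul]
    rw [h3, h4]
    show (k : Matrix ι ι F) *ᵥ _ = ((k * g ^ (j * (e i : ℕ)) : K) : Matrix ι ι F) *ᵥ v
    rw [MulMemClass.coe_mul, ← Matrix.mulVec_mulVec]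
    rfl
  have h5 : (Pu⁻¹ * h * Pu).val *ᵥ Pi.single i 1 = c • U i := by
    rw [mul_mulVec, mul_mulVec, hPu, hcoln, ← hPu, inv_mulVec_mulVec]
  rw [Matrix.mulVec_single_one] at h5
  have h6 := congrFun h5 a
  rw [Matrix.col_apply, Pi.smul_apply, smul_eq_mul] at h6
  rw [h6, ← mul_assoc, inv_mul_cancel₀ hc0, one_mul]
  exact hU i a

end Cfsg.Lib.Linear.Asch
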