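import Cfsg.Agent.Lib.Linear.Aschbacher.Core
import Cfsg.Agent.Lib.Linear.Aschbacher.Forms
import Cfsg.Agent.Lib.Linear.Aschbacher.Rational

/-!
# Monomial matrices in a basis: invariant forms and realisation over subfields
-/

set_option autoImplicit false
set_option linter.unusedSectionVars false
set_option linter.style.haveILetI false

namespace Cfsg.Lib.Linear.Asch

open Cfsg.Geo Cfsg.Lib.Linear
open scoped Matrix MatrixGroups

variable {ι κ : Type} [Fintype ι] [DecidableEq ι] [Fintype κ] [DecidableEq κ] {F : Type*} [Field F]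

/-- The form `Σ uᵢ σ(vᵢ)` in the coordinates of a basis. -/
noncomputable def diagForm (b : Module.Basis κ F (ι → F)) (σ : F ≃+* F) (u v : ι → F) : F :=
  ∑ i, b.repr u i * σ (b.repr v i)

/-- The quadratic form `Σ vᵢ²` in the coordinates of a basis. -/
noncomputable def diagQuad (b : Module.Basis κ F (ι → F)) (v : ι → F) : F :=
  ∑ i, b.repr v i ^ 2

variable (b : Module.Basis κ F (ι → F))

theorem repr_monomial {g : Matrix ι ι F} {ε : κ → F} {π : Equiv.Perm κ}
    (hg : ∀ i, g *ᵥ b i = ε i • b (π i)) (v : ι → F) (i : κ) :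
    b.repr (g *ᵥ v) (π i) = ε i * b.repr v i := by
  conv_lhs => rw [← b.sum_repr v]
  rw [Matrix.mulVec_sum, map_sum, Finset.sum_apply', Finset.sum_eq_single i]
  · rw [Matrix.mulVec_smul, hg, smul_smul, map_smul, Finsupp.smul_apply, b.repr_self,
      Finsupp.single_eq_same, smul_eq_mul, mul_one, mul_comm]
  · intro j _ hj
    rw [Matrix.mulVec_smul, hg, smul_smul, map_smul, Finsupp.smul_apply, b.repr_self,
      Finsupp.single_eq_of_ne (fun h => hj (π.injective h).symm), smul_zero]
  · intro h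
    exact absurd (Finset.mem_univ i) h

theorem diagForm_monomial (σ : F ≃+* F) {g : Matrix ι ι F} {ε : κ → F} {π : Equiv.Perm κ}
    (hg : ∀ i, g *ᵥ b i = ε i • b (π i)) (hε : ∀ i, ε i * σ (ε i) = 1) (u v : ι → F) :
    diagForm b σ (g *ᵥ u) (g *ᵥ v) = diagForm b σ u v := by
  unfold diagForm
  rw [← Equiv.sum_comp π]
  refine Finset.sum_congr rfl fun i _ => ?_
  rw [repr_monomial b hg, repr_monomial b hg, map_mul]
  linear_combination (b.repr u i * σ (b.repr v i)) * hε i

theorem diagQuad_monomial {g : Matrix ι ι F} {ε : κ → F} {π : Equiv.Perm κ}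
    (hg : ∀ i, g *ᵥ b i = ε i • b (π i)) (hε : ∀ i, ε i * ε i = 1) (v : ι → F) :
    diagQuad b (g *ᵥ v) = diagQuad b v := by
  unfold diagQuad
  rw [← Equiv.sum_comp π]
  refine Finset.sum_congr rfl fun i _ => ?_
  rw [repr_monomial b hg]
  linear_combination (b.repr v i ^ 2) * hε i

theorem diagForm_nondeg (σ : F ≃+* F) {v : ι → F} (hv : v ≠ 0) :
    (∃ x, diagForm b σ x v ≠ 0) ∧ ∃ x, diagForm b σ v x ≠ 0 := by
  obtain ⟨i, hi⟩ : ∃ i, b.repr v i ≠ 0 := by
    by_contra h
    push Not at h
    exact hv (b.repr.injective (Finsupp.ext fun i => by rw [h i, map_zero]; rfl))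
  refine ⟨⟨b i, ?_⟩, ⟨b i, ?_⟩⟩ <;>
  · simpa [diagForm, Finsupp.single_apply] using hi

theorem isUnitaryForm_diag {σ : F ≃+* F} (hne : σ ≠ RingEquiv.refl F) (hinv : ∀ a, σ (σ a) = a) :
    IsUnitaryForm σ (diagForm b σ) where
  ne_refl := hne
  involutive := hinv
  add_left x y v := by simp [diagForm, add_mul, Finset.sum_add_distrib]
  smul_left c x v := by simp [diagForm, mul_assoc, Finset.mul_sum]
  herm v w := by simp [diagForm, map_sum, hinv, mul_comm]
  nondegenerate v hv := diagForm_nondeg b σ hv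

theorem polar_diagQuad (u v : ι → F) :
    QuadraticMap.polar (diagQuad b) u v = 2 * diagForm b (RingEquiv.refl F) u v := by
  simp only [QuadraticMap.polar, diagQuad, diagForm, map_add, Finsupp.add_apply, RingEquiv.refl_apply,
    ← Finset.sum_sub_distrib, Finset.mul_sum]
  exact Finset.sum_congr rfl fun i _ => by ring

theorem isNondegenerateQuadraticForm_diag (h2 : (2 : F) ≠ 0) :
    IsNondegenerateQuadraticForm (diagQuad b) where
  smul c v := by simp [diagQuad, mul_pow, Finset.mul_sum]
  polar_bilinear :=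
    { add_left := fun x y v => by
        simp only [polar_diagQuad, diagForm, map_add, Finsupp.add_apply, add_mul, Finset.sum_add_distrib, mul_add]
      smul_left := fun c x v => by
        simp only [polar_diagQuad, diagForm, map_smul, Finsupp.smul_apply, smul_eq_mul, Finset.mul_sum]
        exact Finset.sum_congr rfl fun i _ => by ring
      add_right := fun v x y => by
        simp only [polar_diagQuad, diagForm, map_add, Finsupp.add_apply, RingEquiv.refl_apply, mul_add,
          Finset.sum_add_distrib]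
      smul_right := fun c v x => by
        simp only [polar_diagQuad, diagForm, map_smul, Finsupp.smul_apply, smul_eq_mul, RingEquiv.refl_apply,
          Finset.mul_sum]
        exact Finset.sum_congr rfl fun i _ => by ring }
  nondegenerate v hv := by
    obtain ⟨⟨x, hx⟩, ⟨y, hy⟩⟩ := diagForm_nondeg b (RingEquiv.refl F) hv
    exact ⟨⟨x, by rw [polar_diagQuad]; exact mul_ne_zero h2 hx⟩,
      ⟨y, by rw [polar_diagQuad]; exact mul_ne_zero h2 hy⟩⟩

/-- An extraspecial group is monomial, with roots of unity as entries, in a suitable basis. -/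
theorem Extra.monomial [Finite F] {r : ℕ} {R : Subgroup (GL ι F)} {c : F} {x y z : GL ι F} [Nonempty ι]
    (hr : r.Prime) (hcard : Fintype.card ι = r) (h : Extra r R c x y z) :
    ∃ b : Module.Basis ι F (ι → F), ∀ g ∈ R, ∃ (π : Equiv.Perm ι) (k : ι → ℕ),
      ∀ i, g.val *ᵥ b i = c ^ k i • b (π i) := by
  haveI : NeZero r := ⟨hr.ne_zero⟩
  obtain ⟨v, d, hv, hd, hxv⟩ := exists_eigen_of_pow h.prim h.char_ne h.pow_x
  have hd0 : d ≠ 0 := fun e => by rw [e, zero_pow hr.ne_zero] at hd; exact zero_ne_one hd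
  have hc0 : c ≠ 0 := h.prim.ne_zero hr.ne_zero
  have hzcomm : ∀ (g : GL ι F) (n : ℕ), Commute (z ^ n) g := fun g n =>
    (scalars_comm (pow_mem (mem_scalars_of_smul h.coe_z) n)).symm
  have hyk : ∀ k : ℕ, y ^ k * x = z ^ k * x * y ^ k := by
    intro k
    induction k with
    | zero => simp
    | succ k ih =>
      calc y ^ (k + 1) * x = y * (y ^ k * x) := by rw [pow_succ', mul_assoc]
        _ = y * z ^ k * x * y ^ k := by rw [ih]; group
        _ = z ^ k * y * x * y ^ k := by rw [(hzcomm y k).eq]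
        _ = z ^ k * (y * x) * y ^ k := by group
        _ = z ^ (k + 1) * x * y ^ (k + 1) := by rw [h.comm, pow_succ, pow_succ']; simp only [mul_assoc]
  let μ : Fin r → F := fun k => d * (c ^ (k : ℕ))⁻¹
  let w : Fin r → (ι → F) := fun k => (y ^ (k : ℕ)).val *ᵥ v
  have hxb : ∀ k, x.val *ᵥ w k = μ k • w k := by
    intro k
    have h1 : (y ^ (k : ℕ) * x).val *ᵥ v = (z ^ (k : ℕ) * x * y ^ (k : ℕ)).val *ᵥ v := by rw [hyk]
    rw [mul_mulVec, hxv, mul_mulVec, mul_mulVec, scalar_pow h.coe_z, Matrix.smul_mulVec, Matrix.one_mulVec,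
      Matrix.mulVec_smul] at h1
    simp only [w, μ]
    rw [mul_comm d, ← smul_smul, eq_inv_smul_iff₀ (pow_ne_zero _ hc0)]
    exact h1.symm
  have hμ : Function.Injective μ := fun i j hij => by
    simp only [μ] at hij
    exact Fin.ext (h.prim.pow_inj i.2 j.2 (inv_injective (mul_left_cancel₀ hd0 hij)))
  have hli := linearIndependent_eigen hμ x.val (fun k => move_ne_zero _ hv) hxb
  let B := basisOfLinearIndependentOfCardEqFinrank hli
    (by rw [Fintype.card_fin, Module.finrank_fintype_fun_eq_card, hcard])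
  have hB : ∀ k, B k = w k := fun k => congrFun (coe_basisOfLinearIndependentOfCardEqFinrank hli _) k
  let e : Fin r ≃ ι := (Fintype.equivFinOfCardEq hcard).symm
  refine ⟨B.reindex e, fun g hg => ?_⟩
  obtain ⟨a, m, n, rfl⟩ := h.gen g hg
  have hroot : ∀ i : Fin r, (c ^ n * μ i ^ a) ^ r = 1 := fun i => by
    rw [mul_pow, ← pow_mul, mul_comm n, pow_mul, h.prim.pow_eq_one, one_pow, one_mul, ← pow_mul, mul_comm a,
      pow_mul, mul_pow, hd, one_mul, inv_pow, ← pow_mul, mul_comm (i : ℕ), pow_mul, h.prim.pow_eq_one,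
      one_pow, inv_one, one_pow]
  choose l _ hl using fun i => h.prim.eq_pow_of_pow_eq_one (hroot i)
  refine ⟨(e.symm.trans ((Equiv.addRight ((Fin.ofNat r m))).trans e)),
    fun i => l (e.symm i + ((Fin.ofNat r m))), fun i => ?_⟩
  have hy : (y ^ m).val *ᵥ w (e.symm i) = w (e.symm i + ((Fin.ofNat r m))) := by
    simp only [w]
    rw [← mul_mulVec, ← pow_add]
    congr 2
    rw [pow_eq_pow_mod (m + (e.symm i : ℕ)) h.pow_y, Fin.val_add, Fin.val_ofNat]
    congr 1
    conv_rhs => rw [Nat.add_mod_mod]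
    rw [add_comm]
  have hxa : ∀ (a : ℕ) (k : Fin r), (x ^ a).val *ᵥ w k = μ k ^ a • w k := by
    intro a k
    induction a with
    | zero => simp
    | succ a ih => rw [pow_succ', mul_mulVec, ih, Matrix.mulVec_smul, hxb, smul_smul, pow_succ, mul_comm]
  simp only [Module.Basis.reindex_apply, Equiv.trans_apply, Equiv.symm_apply_apply, Equiv.coe_addRight, hB]
  rw [mul_mulVec, scalar_pow h.coe_z, Matrix.smul_mulVec, Matrix.one_mulVec, Matrix.mulVec_smul, mul_mulVec,
    hy, hxa, smul_smul, hl]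

/-- A group monomial in a basis with entries in a subfield is realised over that subfield. -/
theorem realisable_monomial {R : Subgroup (GL ι F)} {F₀ : Subfield F} (b : Module.Basis ι F (ι → F))
    (h : ∀ g ∈ R, ∃ (π : Equiv.Perm ι) (ε : ι → F), (∀ i, ε i ∈ F₀) ∧ ∀ i, g.val *ᵥ b i = ε i • b (π i)) :
    RealisableOver F₀ (matrixSet R) := by
  let P : Matrix ι ι F := Matrix.of fun i j => b j i
  let Q : Matrix ι ι F := Matrix.of fun i j => b.repr (Pi.single j 1) i
  have hQP : Q * P = 1 := by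
    ext i j
    rw [Matrix.mul_apply]
    have h1 := congrArg (fun v => b.repr v i) (pi_eq_sum_univ' (b j))
    simp only [b.repr_self, map_sum, Finset.sum_apply', map_smul, Finsupp.smul_apply, smul_eq_mul] at h1
    rw [Matrix.one_apply]
    rw [Finsupp.single_apply] at h1
    rw [show (if i = j then (1 : F) else 0) = (if j = i then (1 : F) else 0) from if_congr eq_comm rfl rfl, h1]
    exact Finset.sum_congr rfl fun k _ => by simp [P, Q, mul_comm]
  have hPQ : P * Q = 1 := mul_eq_one_comm.1 hQP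
  refine ⟨⟨Q, P, hQP, hPQ⟩, ?_⟩
  rintro _ ⟨g, hg, rfl⟩ i j
  obtain ⟨π, ε, hε, hπ⟩ := h g hg
  show (Q * g.val * P) i j ∈ F₀
  have h1 : (Q * g.val * P) i j = b.repr (g.val *ᵥ b j) i := by
    rw [Matrix.mul_assoc, Matrix.mul_apply]
    conv_rhs => rw [pi_eq_sum_univ' (g.val *ᵥ b j)]
    simp only [map_sum, Finset.sum_apply', map_smul, Finsupp.smul_apply, smul_eq_mul]
    refine Finset.sum_congr rfl fun k _ => ?_
    rw [mul_comm]
    rfl
  rw [h1, hπ, map_smul, Finsupp.smul_apply, b.repr_self, Finsupp.single_apply, smul_eq_mul]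
  split_ifs
  · rw [mul_one]; exact hε j
  · rw [mul_zero]; exact F₀.zero_mem

end Cfsg.Lib.Linear.Asch
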