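import Cfsg.Agent.Lib.Linear.Aschbacher.Linear
import Cfsg.Agent.Lib.Linear.OrthOdd
import Cfsg.Agent.Lib.Linear.OrthTrans
import Cfsg.Agent.Lib.Linear.AschSp.Descent

/-!
# The group `Ω` in odd dimension: irreducibility and absence of monomial or subfield structures
-/

set_option autoImplicit false
set_option linter.unusedSectionVars false
set_option linter.style.haveILetI false

namespace Cfsg.Lib.Linear.Asch

open Cfsg.Geo Cfsg.Lib.Linear
open scoped Matrix MatrixGroups commutatorElement

variable {ι : Type} [Fintype ι] [DecidableEq ι] {F : Type*} [Field F]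
  {Q : (ι → F) → F} {B : LinearMap.BilinForm F (ι → F)}

theorem omegaGL_le_SL : omegaGL Q ≤ specialLinear ι F := by
  rw [omegaGL, Subgroup.map_le_iff_le_comap, Omega, commutator_def, Subgroup.commutator_le]
  intro a _ b _
  show Matrix.GeneralLinearGroup.det ((isometryGroup F Q).subtype ⁅a, b⁆) = 1
  rw [map_commutatorElement, map_commutatorElement]
  exact commutatorElement_eq_one_iff_mul_comm.2 (mul_comm _ _)

theorem omegaGL_le_iso : omegaGL Q ≤ isometryGroup F Q := by
  rintro _ ⟨x, -, rfl⟩
  exact x.2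

theorem fixesForm_iso {G : Subgroup (GL ι F)} (h : G ≤ isometryGroup F Q) :
    FixesForm (matrixSet G) (QuadraticMap.polar Q) := by
  refine fixesForm_polar ?_
  rintro _ ⟨g, hg, rfl⟩ v
  exact Orth.mem_iso.1 (h hg) v

theorem sGL_mem_omega (C : Orth.Space Q B) [Finite F] (h5 : 5 ≤ Fintype.card ι) {u a : ι → F} (hu : Q u = 0)
    (hua : B u a = 0) : Orth.sGL Q B u a ∈ omegaGL Q := by
  rw [Orth.omegaGL_eq C h5]
  exact Orth.sGL_mem_root trivial trivial hu hua

/-- `Ω` fixes no proper non-zero subspace. -/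
theorem not_omega_le_subspaceStabilizer (C : Orth.Space Q B) [Finite F] (h5 : 5 ≤ Fintype.card ι)
    (h2 : (2 : F) ≠ 0) {e f : ι → F} (he : Q e = 0) (hf : Q f = 0) (hef : B e f = 1)
    {W : Submodule F (ι → F)} (h0 : W ≠ ⊥) (h1 : W ≠ ⊤) : ¬ omegaGL Q ≤ subspaceStabilizer W := by
  intro hle
  have act : ∀ u a, Q u = 0 → B u a = 0 → ∀ x ∈ W, B u x • a - (B a x + Q a * B u x) • u ∈ W := by
    intro u a hu hua x hx
    have h3 : (Orth.sGL Q B u a).val *ᵥ x ∈ W := (hle (sGL_mem_omega C h5 hu hua) x).1 hx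
    rw [Orth.sGL_act C hu hua, add_sub_assoc, W.add_mem_iff_right hx] at h3
    exact h3
  have sing : ∀ u, Q u = 0 → u ∈ W := by
    intro u hu
    obtain ⟨x, hx, hx0⟩ := Submodule.exists_mem_ne_zero_of_ne_bot h0
    by_contra huW
    by_cases hux : B u x = 0
    · by_cases hall : ∀ a, B u a = 0 → B a x = 0
      · obtain ⟨w, hw⟩ := C.exists_pair (fun h => huW (h ▸ W.zero_mem) : u ≠ 0)
        have hxu : x = B w x • u := by
          refine sub_eq_zero.1 (C.nondeg' fun y => ?_)
          have h3 := hall (y - B u y • w) (by rw [map_sub, map_smul, hw, smul_eq_mul, mul_one, sub_self])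
          rw [map_sub, LinearMap.sub_apply, map_smul, LinearMap.smul_apply, smul_eq_mul, C.symm y x] at h3
          rw [map_sub, LinearMap.sub_apply, map_smul, LinearMap.smul_apply, smul_eq_mul]
          linear_combination h3
        have hne : B w x ≠ 0 := fun h => hx0 (by rw [hxu, h, zero_smul])
        exact huW ((W.smul_mem_iff hne).1 (hxu ▸ hx))
      · push Not at hall
        obtain ⟨a, hua, hax⟩ := hall
        have h3 := act u a hu hua x hx
        rw [hux, zero_smul, zero_sub, mul_zero, add_zero, W.neg_mem_iff] at h3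
        exact huW ((W.smul_mem_iff hax).1 h3)
    · obtain ⟨a, hua, hQa⟩ : ∃ a, B u a = 0 ∧ Q a ≠ 0 := by
        by_contra hne
        push Not at hne
        have hperp : ∀ a b, B u a = 0 → B u b = 0 → B a b = 0 := fun a b ha hb => by
          have h3 := hne (a + b) (by rw [map_add, ha, hb, add_zero])
          rwa [C.add, hne a ha, hne b hb, zero_add, zero_add] at h3
        let K := LinearMap.ker (B u)
        have hKB : ∀ a ∈ K, B a ∈ Submodule.span F ({B u} : Set (Module.Dual F (ι → F))) := by
          intro a ha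
          obtain ⟨w, hw⟩ := C.exists_pair (fun h => huW (h ▸ W.zero_mem) : u ≠ 0)
          refine Submodule.mem_span_singleton.2 ⟨B a w, LinearMap.ext fun y => ?_⟩
          have h3 := hperp a (y - B u y • w) ha (by rw [map_sub, map_smul, hw, smul_eq_mul, mul_one, sub_self])
          rw [map_sub, map_smul, smul_eq_mul] at h3
          rw [LinearMap.smul_apply, smul_eq_mul]
          linear_combination -h3
        have hinj : Function.Injective ((B : (ι → F) →ₗ[F] Module.Dual F (ι → F)).domRestrict K) := by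
          rw [injective_iff_map_eq_zero]
          intro a ha
          exact Subtype.ext (C.nondeg' fun y => LinearMap.congr_fun ha y)
        have h3 := LinearMap.finrank_le_finrank_of_injective
          (f := ((B : (ι → F) →ₗ[F] Module.Dual F (ι → F)).domRestrict K).codRestrict
            (Submodule.span F ({B u} : Set (Module.Dual F (ι → F)))) fun a => hKB a a.2)
          (fun a b h => hinj (congrArg Subtype.val h))
        have h4 := LinearMap.finrank_range_add_finrank_ker (B u)
        have h5' : Module.finrank F (LinearMap.range (B u)) ≤ 1 := by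
          have := Submodule.finrank_le (LinearMap.range (B u))
          rwa [Module.finrank_self] at this
        have h6 := finrank_span_le_card (R := F) ({B u} : Set (Module.Dual F (ι → F)))
        simp only [Set.toFinset_singleton, Finset.card_singleton] at h6
        rw [Module.finrank_fintype_fun_eq_card] at h4
        have h7 : Module.finrank F K ≤ 1 := h3.trans h6
        show False
        change Module.finrank F (LinearMap.ker (B u)) ≤ 1 at h7
        omega
      have e1 := act u a hu hua x hx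
      have e2 := act u (-a) hu (by rw [map_neg, hua, neg_zero]) x hx
      have e3 := W.add_mem e1 e2
      rw [map_neg, LinearMap.neg_apply, C.neg] at e3
      have e4 : (-(2 * Q a * B u x)) • u ∈ W := by convert e3 using 1; module
      exact huW ((W.smul_mem_iff (neg_ne_zero.2 (mul_ne_zero (mul_ne_zero h2 hQa) hux))).1 e4)
  refine h1 (eq_top_iff.2 fun y _ => ?_)
  have hperp : ∀ a, B e a = 0 → a ∈ W := fun a ha => by
    have h3 := act e a he ha f (sing f hf)
    rw [hef, one_smul] at h3
    have h4 := W.add_mem h3 (W.smul_mem (B a f + Q a * 1) (sing e he))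
    rwa [sub_add_cancel] at h4
  have h3 := W.add_mem (hperp (y - B e y • f) (by rw [map_sub, map_smul, hef, smul_eq_mul, mul_one, sub_self]))
    (W.smul_mem (B e y) (sing f hf))
  rwa [sub_add_cancel] at h3

/-- A Siegel element with totally singular pair: its square deviation from the identity vanishes. -/
theorem exists_small (C : Orth.Space Q B) [Finite F] (h5 : 5 ≤ Fintype.card ι) {u a w : ι → F} (hu : Q u = 0)
    (ha : Q a = 0) (hua : B u a = 0) (huw : B u w = 1) (haw : B a w = 0) (ha0 : a ≠ 0) :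
    ∀ t : F, t ≠ 0 → ∃ g ∈ omegaGL Q, g ≠ 1 ∧ (g.val - 1) * (g.val - 1) = 0 ∧
      ∀ x, g.val *ᵥ x = x + t • (B u x • a - B a x • u) := by
  intro t ht
  have hua' : B u (t • a) = 0 := by rw [map_smul, hua, smul_zero]
  have hact : ∀ x, (Orth.sGL Q B u (t • a)).val *ᵥ x = x + t • (B u x • a - B a x • u) := fun x => by
    rw [Orth.sGL_act C hu hua', C.smul, ha, map_smul, LinearMap.smul_apply, smul_eq_mul]
    module
  refine ⟨_, sGL_mem_omega C h5 hu hua', fun h => ha0 ?_, Orth.mat_ext fun x => ?_, hact⟩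
  · have h1 := hact w
    rw [h, Units.val_one, Matrix.one_mulVec, huw, haw, zero_smul, sub_zero, one_smul, left_eq_add] at h1
    exact (smul_eq_zero.1 h1).resolve_left ht
  · have hN : ∀ z, ((Orth.sGL Q B u (t • a)).val - 1) *ᵥ z = t • (B u z • a - B a z • u) := fun z => by
      rw [Matrix.sub_mulVec, Matrix.one_mulVec, hact, add_sub_cancel_left]
    rw [Matrix.zero_mulVec, ← Matrix.mulVec_mulVec, hN, hN]
    simp only [map_smul, map_sub, hua, C.self_zero hu, C.self_zero ha, C.symm a u, smul_zero, sub_zero,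
      zero_smul, sub_self]

/-- `Ω` preserves no decomposition into lines. -/
theorem not_omega_le_decompositionStabilizer (C : Orth.Space Q B) [Finite F] (h5 : 5 ≤ Fintype.card ι)
    (h2 : (2 : F) ≠ 0) {u a w : ι → F} (hu : Q u = 0) (ha : Q a = 0) (hua : B u a = 0) (huw : B u w = 1)
    (haw : B a w = 0) (ha0 : a ≠ 0) {t : ℕ} {D : Fin t → Submodule F (ι → F)} (hD : IsMDecomposition 1 D) :
    ¬ omegaGL Q ≤ decompositionStabilizer D := by
  intro hle
  obtain ⟨g, hg, hg1, hsq, -⟩ := exists_small C h5 hu ha hua huw haw ha0 1 one_ne_zero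
  obtain ⟨b, hb⟩ := decomp_gen hD
  obtain ⟨π, ε, hε, hπ⟩ := decomp_act hb (hle hg)
  refine hg1 (Units.ext (Matrix.toLin'.injective (b.ext fun i => ?_)))
  have h1 := congrArg (fun m => m *ᵥ b i) hsq
  simp only [Matrix.zero_mulVec, ← Matrix.mulVec_mulVec, Matrix.sub_mulVec, Matrix.one_mulVec,
    Matrix.mulVec_sub, hπ, Matrix.mulVec_smul, smul_smul] at h1
  have hfix : π i = i := by
    by_contra hne
    have h3 := congrArg (fun v => b.repr v (π i)) h1
    have hne2 : π (π i) ≠ π i := fun h => hne (π.injective h)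
    simp [Finsupp.single_apply, hne2, Ne.symm hne] at h3
    exact mul_ne_zero h2 (hε i) (by linear_combination (-1 : F) * h3)
  rw [hfix] at h1
  have h3 := congrArg (fun v => b.repr v i) h1
  simp [hfix] at h3
  have h4 : (ε i - 1) ^ 2 = 0 := by linear_combination h3
  rw [Matrix.toLin'_apply, Matrix.toLin'_apply, Units.val_one, Matrix.one_mulVec, hπ, hfix,
    sub_eq_zero.1 (sq_eq_zero_iff.1 h4), one_smul]

/-- `Ω` is realised over no proper subfield. -/
theorem not_omega_le_subfieldSubgroup (C : Orth.Space Q B) [Finite F] (h5 : 5 ≤ Fintype.card ι)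
    (h2 : (2 : F) ≠ 0) {u a w : ι → F} (hu : Q u = 0) (ha : Q a = 0) (hua : B u a = 0) (huw : B u w = 1)
    (haw : B a w = 0) (ha0 : a ≠ 0) {F₁ : Subfield F} (hne : F₁ ≠ ⊤) (P : GL ι F) :
    ¬ omegaGL Q ≤ subfieldSubgroup F₁ P := by
  intro hle
  obtain ⟨φ, hφ⟩ := LinearMap.exists_leftInverse_of_injective (LinearMap.toSpanSingleton F₁ F 1)
    (LinearMap.ker_eq_bot.2 (smul_left_injective F₁ one_ne_zero))
  have hφc : ∀ c : F₁, φ (c : F) = c := fun c => by
    have h1 := LinearMap.congr_fun hφ c
    simp only [LinearMap.comp_apply, LinearMap.toSpanSingleton_apply, LinearMap.id_apply] at h1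
    rwa [show c • (1 : F) = (c : F) from mul_one _] at h1
  have hφl : ∀ (c : F), c ∈ F₁ → ∀ z, (φ (c * z) : F) = c * φ z := fun c hc z => by
    rw [show c * z = (⟨c, hc⟩ : F₁) • z from rfl, map_smul, smul_eq_mul, Subfield.coe_mul]
  obtain ⟨g₁, -, hg₁, -, hg₁v⟩ := exists_small C h5 hu ha hua huw haw ha0 1 one_ne_zero
  set N₁ : Matrix ι ι F := P⁻¹.val * (g₁.val - 1) * P.val with hN₁
  have hN₁0 : N₁ ≠ 0 := fun h => hg₁ (Units.ext (sub_eq_zero.1 (by
    have h1 := congrArg (fun m => P.val * m * P⁻¹.val) h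
    simpa [hN₁, Matrix.mul_assoc] using h1)))
  have key : ∀ t : F, t ≠ 0 → ∀ i j, t * N₁ i j ∈ F₁ := by
    intro t ht
    obtain ⟨g, hg, -, hsq, hgv⟩ := exists_small C h5 hu ha hua huw haw ha0 t ht
    obtain ⟨c, hc0, hc⟩ := (mem_subfieldSubgroup_iff F₁ P g).1 (hle hg)
    have hgN : (P⁻¹ * g * P).val = 1 + t • N₁ := by
      have h1 : g.val - 1 = t • (g₁.val - 1) := Orth.mat_ext fun x => by
        rw [Matrix.smul_mulVec, Matrix.sub_mulVec, Matrix.sub_mulVec, Matrix.one_mulVec, hgv, hg₁v,
          add_sub_cancel_left, add_sub_cancel_left, one_smul]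
      rw [hN₁, ← Matrix.smul_mul, ← Matrix.mul_smul, ← h1, Units.val_mul, Units.val_mul]
      simp [Matrix.mul_sub, Matrix.sub_mul]
    have hNsq : (t • N₁) * (t • N₁) = 0 := by
      have h1 : t • N₁ = P⁻¹.val * (g.val - 1) * P.val := by
        have h2' := congrArg (fun m => m - 1) hgN
        rw [add_sub_cancel_left] at h2'
        rw [← h2', Units.val_mul, Units.val_mul]
        simp [Matrix.mul_sub, Matrix.sub_mul]
      rw [h1]
      calc _ = P⁻¹.val * ((g.val - 1) * (g.val - 1)) * P.val := by
            simp only [Matrix.mul_assoc, ← Matrix.mul_assoc P.val, Units.mul_inv, Matrix.one_mul]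
        _ = 0 := by rw [hsq, Matrix.mul_zero, Matrix.zero_mul]
    set M : Matrix ι ι F := c • (1 + t • N₁) with hM
    have hMmem : ∀ i j, M i j ∈ F₁ := fun i j => by
      have := hc i j
      rwa [hgN] at this
    have hMsq : M * M = (2 * c) • M - (c * c) • 1 := by
      rw [hM, Matrix.smul_mul, Matrix.mul_smul, smul_smul, Matrix.add_mul, Matrix.mul_add, Matrix.mul_add, hNsq,
        Matrix.one_mul, Matrix.one_mul, Matrix.mul_one, add_zero]
      module
    have hsqmem : ∀ i j, (M * M) i j ∈ F₁ := fun i j =>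
      sum_mem fun k _ => F₁.mul_mem (hMmem i k) (hMmem k j)
    have hrel : (2 * (φ c : F) - 2 * c) • M = ((φ (c * c) : F) - c * c) • (1 : Matrix ι ι F) := by
      refine Matrix.ext fun i j => ?_
      have h1 := congrFun (congrFun hMsq i) j
      have h2' := congrArg (fun z => ((φ z : F₁) : F)) h1
      simp only [Matrix.sub_apply, Matrix.smul_apply, smul_eq_mul, map_sub, AddSubgroupClass.coe_sub] at h2'
      rw [hφc ⟨_, hsqmem i j⟩, mul_comm (2 * c), hφl _ (hMmem i j), mul_comm (c * c)] at h2'
      rw [mul_comm (2 : F) c, hφl _ (show (1 : Matrix ι ι F) i j ∈ F₁ by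
        rw [Matrix.one_apply]; split_ifs <;> simp [F₁.one_mem, F₁.zero_mem])] at h2'
      have e2 : (φ (c * 2) : F) = 2 * φ c := by
        rw [mul_comm c 2, hφl 2 (by exact_mod_cast natCast_mem F₁ 2)]
      simp only [Subtype.coe_mk, e2] at h2'
      simp only [Matrix.smul_apply, smul_eq_mul]
      simp only [Matrix.sub_apply, Matrix.smul_apply, smul_eq_mul] at h1
      linear_combination h1 - h2'
    have hcF : c ∈ F₁ := by
      by_contra hcF
      have hd : 2 * (φ c : F) - 2 * c ≠ 0 := by
        rw [← mul_sub]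
        exact mul_ne_zero h2 (fun h => hcF (sub_eq_zero.1 h ▸ (φ c).2))
      refine hN₁0 ?_
      obtain ⟨e, he⟩ : ∃ e : F, N₁ = e • (1 : Matrix ι ι F) := by
        refine ⟨((2 * (φ c : F) - 2 * c) * c * t)⁻¹ *
          ((φ (c * c) : F) - c * c - (2 * (φ c : F) - 2 * c) * c), ?_⟩
        rw [hM, smul_smul, smul_add, smul_smul] at hrel
        rw [mul_smul, eq_inv_smul_iff₀ (mul_ne_zero (mul_ne_zero hd hc0) ht), sub_smul]
        exact eq_sub_of_add_eq' hrel
      have h7 := hNsq
      rw [he, smul_smul, Matrix.smul_mul, Matrix.mul_smul, smul_smul, Matrix.one_mul, smul_eq_zero] at h7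
      rcases h7 with h7 | h7
      · rw [he, (mul_eq_zero.1 (mul_self_eq_zero.1 h7)).resolve_left ht, zero_smul]
      · haveI : Nonempty ι := Fintype.card_pos_iff.1 (by omega)
        exact absurd h7 one_ne_zero
    intro i j
    have h8 : c * (t * N₁ i j) ∈ F₁ := by
      have h9 := F₁.sub_mem (hMmem i j) (F₁.mul_mem hcF (show (1 : Matrix ι ι F) i j ∈ F₁ by
        rw [Matrix.one_apply]; split_ifs <;> simp [F₁.one_mem, F₁.zero_mem]))
      convert h9 using 1
      simp [hM, mul_add]
    have h10 := F₁.mul_mem (F₁.inv_mem hcF) h8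
    rwa [← mul_assoc, inv_mul_cancel₀ hc0, one_mul] at h10
  obtain ⟨i, j, hij⟩ : ∃ i j, N₁ i j ≠ 0 := by
    by_contra h
    push Not at h
    exact hN₁0 (Matrix.ext h)
  refine hne (eq_top_iff.2 fun t _ => ?_)
  rcases eq_or_ne t 0 with rfl | ht
  · exact F₁.zero_mem
  have h1 := F₁.div_mem (key t ht i j) (key 1 one_ne_zero i j)
  rwa [one_mul, mul_div_assoc, div_self hij, mul_one] at h1

end Cfsg.Lib.Linear.Asch
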