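import Cfsg.Agent.Lib.Linear.Aschbacher.SUFiveTwoData
import Cfsg.Agent.Lib.Linear.Aschbacher.OrthForms
import Cfsg.Agent.Lib.Linear.HermStandard

/-!
# `SU₅(2)`: the normaliser of an extension field is not maximal
-/

set_option autoImplicit false
set_option linter.unusedSectionVars false
set_option linter.style.haveILetI false

namespace Cfsg.Lib.Linear.Asch.SUFiveTwo

open Cfsg.Geo Cfsg.Lib.Linear
open scoped Matrix MatrixGroups
open Fin.NatCast

variable {F : Type*} [Field F] [Fintype F]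

theorem two_eq_zero (hF : Fintype.card F = 2 ^ 2) : (2 : F) = 0 := by
  by_contra h2
  have := odd_card_of_two_ne_zero h2
  rw [hF] at this
  exact absurd this (by decide)

theorem exists_omega (hF : Fintype.card F = 2 ^ 2) : ∃ w : F, w ^ 2 = w + 1 := by
  classical
  obtain ⟨w, hw⟩ : ∃ w : F, w ∉ ({0, 1} : Finset F) := by
    by_contra hne
    push Not at hne
    have : (Finset.univ : Finset F).card ≤ ({0, 1} : Finset F).card := Finset.card_le_card fun x _ => hne x
    rw [Finset.card_univ, hF, Finset.card_pair zero_ne_one] at this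
    omega
  simp only [Finset.mem_insert, Finset.mem_singleton, not_or] at hw
  have h3 := FiniteField.pow_card_sub_one_eq_one w hw.1
  rw [hF] at h3
  refine ⟨w, mul_left_cancel₀ (sub_ne_zero.2 hw.2) ?_⟩
  linear_combination h3 - (w ^ 2 - 1) * two_eq_zero hF

/-- The elements of the field as table entries. -/
def phi (w : F) : Fin 4 → F := ![0, 1, w, w + 1]

section phi

variable {w : F} (h2 : (2 : F) = 0) (hw : w ^ 2 = w + 1)

include h2 hw in
theorem phi_add (a b : Fin 4) : phi w (add4 a b) = phi w a + phi w b := by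
  fin_cases a <;> fin_cases b <;> simp [phi, add4] <;>
    first
      | linear_combination h2
      | linear_combination (-1 : F) * h2
      | linear_combination w * h2
      | linear_combination (-w) * h2
      | linear_combination (w + 1) * h2
      | linear_combination (-(w + 1)) * h2
      | ring

include h2 hw in
theorem phi_mul (a b : Fin 4) : phi w (mul4 a b) = phi w a * phi w b := by
  fin_cases a <;> fin_cases b <;> simp [phi, mul4] <;>
    first
      | linear_combination (-1 : F) * hw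
      | linear_combination (-1 : F) * hw + (-w) * h2
      | linear_combination (-1 : F) * hw + (-1 : F) * h2
      | linear_combination (-1 : F) * hw + (-w - 1) * h2
      | ring

include h2 hw in
theorem phi_conj (a : Fin 4) : phi w (conj4 a) = phi w a ^ 2 := by
  fin_cases a <;> simp [phi, conj4] <;>
    first
      | linear_combination (-1 : F) * hw
      | linear_combination (-1 : F) * hw + (-w) * h2
      | linear_combination (-1 : F) * hw + (-1 : F) * h2
      | linear_combination (-1 : F) * hw + (-w - 1) * h2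
      | ring

include h2 hw in
theorem phi_inj : Function.Injective (phi w) := by
  have h0 : w ≠ 0 := by
    rintro rfl
    exact one_ne_zero (α := F) (by linear_combination -hw)
  have h1 : w ≠ 1 := by
    rintro rfl
    exact one_ne_zero (α := F) (by linear_combination -hw)
  have h3 : w + 1 ≠ 0 := fun h => h1 (by linear_combination h - h2)
  have h4 : w + 1 ≠ 1 := fun h => h0 (by linear_combination h)
  intro a b
  fin_cases a <;> fin_cases b <;>
    simp [phi, h0, h0.symm, h1, h1.symm, h3, h3.symm, h4, h4.symm]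

/-- A table matrix over the field. -/
def lift4 (w : F) (A : Mat4) : Matrix (Fin 5) (Fin 5) F := Matrix.of fun i j => phi w (A i j)

/-- A table vector over the field. -/
def liftV (w : F) (v : Vec4) : Fin 5 → F := fun i => phi w (v i)

include h2 hw in
theorem lift_dot (a b : Vec4) : phi w (dot4 a b) = ∑ k, phi w (a k) * phi w (b k) := by
  simp only [dot4, phi_add h2 hw, phi_mul h2 hw, Fin.sum_univ_five]

include h2 hw in
theorem lift_mul (A B : Mat4) : lift4 w (mm4 A B) = lift4 w A * lift4 w B :=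
  Matrix.ext fun i j => lift_dot h2 hw (A i) fun k => B k j

include h2 hw in
theorem lift_vec (A : Mat4) (v : Vec4) : lift4 w A *ᵥ liftV w v = liftV w (mv4 A v) :=
  funext fun i => (lift_dot h2 hw _ _).symm

theorem lift_one : lift4 w one4 = 1 := by
  ext i j
  by_cases h : i = j <;> simp [lift4, one4, phi, h, Matrix.one_apply]

include h2 hw in
theorem lift_inj {A B : Mat4} (h : lift4 w A = lift4 w B) : A = B :=
  funext fun i => funext fun j => phi_inj h2 hw (congrFun (congrFun h i) j)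

include h2 hw in
theorem lift_trace (A : Mat4) : (lift4 w A).trace = phi w (tr4 A) := by
  simp only [tr4, phi_add h2 hw, Matrix.trace, Matrix.diag_apply, Fin.sum_univ_five, lift4, Matrix.of_apply]

include h2 hw in
theorem mem_GU_of_isU (hF : Fintype.card F = 2 ^ 2) {g : GL (Fin 5) F} {A : Mat4} (hg : g.val = lift4 w A)
    (hA : isU A) : g ∈ Cfsg.GU 5 F 2 := by
  intro u v
  have hgram : g.valᵀ * g.val.map (sigmaE hF) = 1 := by
    rw [hg, ← lift_one (w := w), ← show mm4 (fun i j => A j i) (fun i j => conj4 (A i j)) = one4 from hA,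
      lift_mul h2 hw]
    congr 1
    ext i j
    simp [lift4, sigmaE_apply, phi_conj h2 hw]
  show Cfsg.hermForm 5 F 2 (g.val *ᵥ u) (g.val *ᵥ v) = _
  have hf := isSesq_of_unitary (herm_unitary (n := 5) hF)
  rw [sesq_act hf, gram_herm hF, Matrix.mul_one, hgram, sesq_gram hf u v, gram_herm hF]

end phi

/-- A determinant of odd order is one. -/
theorem det_one_of_pow (hF : Fintype.card F = 2 ^ 2) {g : GL (Fin 5) F} {k : ℕ} (hk : Nat.Coprime k 3)
    (h : g ^ k = 1) : g ∈ specialLinear (Fin 5) F := by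
  show Matrix.GeneralLinearGroup.det g = 1
  have h1 : Matrix.GeneralLinearGroup.det g ^ k = 1 := by rw [← map_pow, h, map_one]
  have h3 : Matrix.GeneralLinearGroup.det g ^ 3 = 1 := by
    refine Units.ext ?_
    have := FiniteField.pow_card_sub_one_eq_one (Matrix.GeneralLinearGroup.det g : Fˣ).1 (Units.ne_zero _)
    rw [hF] at this
    simpa using this
  have := pow_gcd_eq_one.2 ⟨h1, h3⟩
  rwa [hk, pow_one] at this

/-- A subgroup of `SU₅(2)` containing the normaliser of a subgroup of order eleven. -/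
theorem exists_overgroup (hF : Fintype.card F = 2 ^ 2) :
    ∃ (g : GL (Fin 5) F) (M : Subgroup (GL (Fin 5) F)), g ∈ sunit 5 F 2 ∧ g ≠ 1 ∧ g ^ 11 = 1 ∧
      M ≤ sunit 5 F 2 ∧ M ≠ sunit 5 F 2 ∧ g ∈ M ∧
      (∃ t ∈ M, t * g * t⁻¹ ∉ Subgroup.zpowers g) ∧
      (∀ n ∈ sunit 5 F 2, n * g * n⁻¹ ∈ Subgroup.zpowers g →
        ∃ m ∈ M, m * g * m⁻¹ = n * g * n⁻¹) := by
  classical
  have h2 := two_eq_zero hF
  obtain ⟨w, hw⟩ := exists_omega hF
  have mk : ∀ A B : Mat4, mm4 A B = one4 → ∃ g : GL (Fin 5) F, g.val = lift4 w A := fun A B h =>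
    ⟨⟨lift4 w A, lift4 w B, by rw [← lift_mul h2 hw, h, lift_one],
      mul_eq_one_comm.1 (by rw [← lift_mul h2 hw, h, lift_one])⟩, rfl⟩
  have hg10 : mm4 (gp 1) (gp 10) = one4 := by decide
  have hh4 : mm4 hh (hp 4) = one4 := by decide
  obtain ⟨g, hg⟩ := mk _ _ hg10
  obtain ⟨h, hh'⟩ := mk _ _ hh4
  obtain ⟨t, ht⟩ := mk _ _ tt_sq
  obtain ⟨u, hu⟩ := mk _ _ uu_sq
  have hgpow : ∀ i : ℕ, (g ^ i).val = lift4 w (gp (i : Fin 11)) := by
    intro i
    induction i with
    | zero => rw [pow_zero, Units.val_one, Nat.cast_zero, gp_zero, lift_one]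
    | succ i ih => rw [pow_succ, Units.val_mul, ih, hg, ← lift_mul h2 hw, gp_step, Nat.cast_succ]
  have hhpow : ∀ i : ℕ, (h ^ i).val = lift4 w (hp (i : Fin 5)) := by
    intro i
    induction i with
    | zero => rw [pow_zero, Units.val_one, Nat.cast_zero, hp_zero, lift_one]
    | succ i ih => rw [pow_succ, Units.val_mul, ih, hh', ← lift_mul h2 hw, hp_step, Nat.cast_succ]
  have hg11 : g ^ 11 = 1 := Units.ext (by
    rw [hgpow, show ((11 : ℕ) : Fin 11) = 0 from Fin.natCast_self 11, gp_zero, lift_one, Units.val_one])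
  have hh5 : h ^ 5 = 1 := Units.ext (by
    rw [hhpow, show ((5 : ℕ) : Fin 5) = 0 from Fin.natCast_self 5, hp_zero, lift_one, Units.val_one])
  have ht2 : t ^ 2 = 1 := Units.ext (by
    rw [pow_two, Units.val_mul, ht, ← lift_mul h2 hw, tt_sq, lift_one, Units.val_one])
  have hu2 : u ^ 2 = 1 := Units.ext (by
    rw [pow_two, Units.val_mul, hu, ← lift_mul h2 hw, uu_sq, lift_one, Units.val_one])
  have hgS : g ∈ sunit 5 F 2 :=
    ⟨mem_GU_of_isU h2 hw hF hg unit_g, det_one_of_pow hF (by norm_num) hg11⟩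
  have hhS : h ∈ sunit 5 F 2 :=
    ⟨mem_GU_of_isU h2 hw hF hh' unit_h, det_one_of_pow hF (by norm_num) hh5⟩
  have htS : t ∈ sunit 5 F 2 :=
    ⟨mem_GU_of_isU h2 hw hF ht unit_t, det_one_of_pow hF (by norm_num) ht2⟩
  have huS : u ∈ sunit 5 F 2 :=
    ⟨mem_GU_of_isU h2 hw hF hu unit_u, det_one_of_pow hF (by norm_num) hu2⟩
  let S : Set (Fin 5 → F) := {v | ∃ (i : Fin 55) (c : F), v = c • liftV w (reps i)}
  have hstab : ∀ (x : GL (Fin 5) F) (A : Mat4) (π : Fin 55 → Fin 55) (c : Fin 55 → Fin 4),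
      x.val = lift4 w A → (∀ i, mv4 A (reps i) = fun k => mul4 (c i) (reps (π i) k)) →
      x ∈ stabilizing (glToMat (Fin 5) F) S := by
    intro x A π c hx hA
    have hmem : ∀ v ∈ S, x.val *ᵥ v ∈ S := by
      rintro _ ⟨i, d, rfl⟩
      refine ⟨π i, d * phi w (c i), ?_⟩
      rw [Matrix.mulVec_smul, hx, lift_vec h2 hw, hA, mul_smul]
      congr 1
      funext k
      simp [liftV, phi_mul h2 hw]
    haveI : Finite S := Subtype.finite
    intro v
    refine ⟨hmem v, fun hv => ?_⟩
    obtain ⟨⟨z, hz⟩, he⟩ := (Finite.injective_iff_surjective (f := fun z : S => (⟨x.val *ᵥ z.1, hmem _ z.2⟩ : S))).1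
      (fun a b e => Subtype.ext (by
        have e' := congrArg (fun z : S => (x⁻¹).val *ᵥ z.1) e
        simpa only [inv_mulVec_mulVec] using e')) ⟨_, hv⟩
    have h1 := congrArg (fun z : S => (x⁻¹).val *ᵥ z.1) he
    simp only [inv_mulVec_mulVec] at h1
    rw [show glToMat (Fin 5) F x = x.val from rfl, inv_mulVec_mulVec] at h1
    exact h1 ▸ hz
  set M := stabilizing (glToMat (Fin 5) F) S ⊓ sunit 5 F 2 with hM
  have hgM : g ∈ M := ⟨hstab g _ permg multg hg stable_g, hgS⟩
  have hhM : h ∈ M := ⟨hstab h _ permh multh hh' stable_h, hhS⟩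
  have htM : t ∈ M := ⟨hstab t _ permt multt ht stable_t, htS⟩
  have hphi : Function.Surjective (phi w) :=
    ((Fintype.bijective_iff_injective_and_card (phi w)).2 ⟨phi_inj h2 hw, by simp [hF]⟩).2
  have hpowers : ∀ x ∈ Subgroup.zpowers g, ∃ i : ℕ, x = g ^ i := by
    intro x hx
    have hfin : IsOfFinOrder g := isOfFinOrder_iff_pow_eq_one.2 ⟨11, by norm_num, hg11⟩
    rw [← IsOfFinOrder.mem_powers_iff_mem_zpowers hfin] at hx
    obtain ⟨i, rfl⟩ := hx
    exact ⟨i, rfl⟩
  refine ⟨g, M, hgS, fun e => gp_one_ne (lift_inj h2 hw ?_), hg11, inf_le_right, fun e => ?_, hgM,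
    ⟨t, htM, fun e => ?_⟩, fun n hn hng => ?_⟩
  · rw [← hg, e, Units.val_one, lift_one]
  · have hu' : u ∈ M := e.symm ▸ huS
    obtain ⟨i, c, hc⟩ := (hu'.1 _).1 (show liftV w (reps 2) ∈ S from ⟨2, 1, (one_smul _ _).symm⟩)
    obtain ⟨c, rfl⟩ := hphi c
    refine moved i c (funext fun k => phi_inj h2 hw ?_)
    have h1 := congrFun hc k
    rw [show glToMat (Fin 5) F u = lift4 w uu from hu, lift_vec h2 hw] at h1
    simpa [liftV, phi_mul h2 hw] using h1
  · obtain ⟨i, hi⟩ := hpowers _ e
    refine tt_conj (i : Fin 11) (lift_inj h2 hw ?_)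
    rw [lift_mul h2 hw, lift_mul h2 hw, ← hgpow, ← ht, ← hg, ← Units.val_mul, ← Units.val_mul, ← hi,
      inv_mul_cancel_right]
  · obtain ⟨i, hi⟩ := hpowers _ hng
    have htr : tr4 (gp (i : Fin 11)) = tr4 (gp 1) := by
      refine phi_inj h2 hw ?_
      rw [← lift_trace h2 hw, ← lift_trace h2 hw, ← hgpow, ← hg, ← hi, Units.val_mul, Units.val_mul,
        Matrix.trace_units_conj]
    have hstep : h * g * h⁻¹ = g ^ 4 := by
      rw [mul_inv_eq_iff_eq_mul]
      refine Units.ext ?_
      rw [Units.val_mul, Units.val_mul, hh', hg, hgpow, ← lift_mul h2 hw, hh_conj, lift_mul h2 hw]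
      rfl
    have hk : ∀ k : ℕ, h ^ k * g * (h ^ k)⁻¹ = g ^ (4 ^ k) := by
      intro k
      induction k with
      | zero => simp
      | succ k ih =>
        calc h ^ (k + 1) * g * (h ^ (k + 1))⁻¹ = h * (h ^ k * g * (h ^ k)⁻¹) * h⁻¹ := by rw [pow_succ']; group
          _ = (h * g * h⁻¹) ^ (4 ^ k) := by rw [ih, conj_pow]
          _ = g ^ (4 ^ (k + 1)) := by rw [hstep, ← pow_mul, pow_succ']
    have hfin : ∀ k : ℕ, ((4 ^ k : ℕ) : Fin 11) = (i : Fin 11) → ∃ m ∈ M, m * g * m⁻¹ = n * g * n⁻¹ := by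
      intro k e
      refine ⟨h ^ k, pow_mem hhM k, ?_⟩
      rw [hk, hi]
      exact Units.ext (by rw [hgpow, hgpow, e])
    rcases trace_qr _ htr with e | e | e | e | e
    · exact hfin 0 (by rw [e]; decide)
    · exact hfin 1 (by rw [e]; decide)
    · exact hfin 2 (by rw [e]; decide)
    · exact hfin 3 (by rw [e]; decide)
    · exact hfin 4 (by rw [e]; decide)

/-- In `SU₅(2)` the normaliser of an extension field of degree five is not maximal. -/
theorem field_false (hF : Fintype.card F = 2 ^ 2) {H N : Subgroup (GL (Fin 5) F)}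
    {K : Subalgebra F (Matrix (Fin 5) (Fin 5) F)} (hH : IsMaximalIn (sunit 5 F 2) H)
    (hK : IsFieldSubalgebra 5 K) (hle : H ≤ subalgebraNormalizer K) (hN : N ≤ H)
    (hKN : K = Subalgebra.centralizer F (matrixSet N)) : False := by
  classical
  haveI : Nonempty (Fin 5) := ⟨0⟩
  haveI : Finite (Matrix (Fin 5) (Fin 5) F) := inferInstanceAs (Finite (Fin 5 → Fin 5 → F))
  haveI := Fact.mk (show Nat.Prime 11 by norm_num)
  haveI : FiniteDimensional F K := Module.finite_of_finrank_pos (hK.finrank_eq.symm ▸ by norm_num)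
  have hfield : IsField K :=
    { exists_pair_ne := ⟨0, 1, fun h => zero_ne_one (congrArg Subtype.val h)⟩
      mul_comm := fun a b => Subtype.ext (hK.comm a a.2 b b.2)
      mul_inv_cancel := fun {a} ha => by
        obtain ⟨y, hy, hy'⟩ := hK.inv a a.2 (fun h => ha (Subtype.ext h))
        exact ⟨⟨y, hy⟩, Subtype.ext hy'⟩ }
  letI : Field K := hfield.toField
  have hcK : Nat.card K = 1024 := by
    rw [Module.natCard_eq_pow_finrank (K := F) (V := K), hK.finrank_eq, Nat.card_eq_fintype_card, hF]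
    norm_num
  have hNK : ∀ x ∈ N, x.val ∈ K := fun x hx => mem_of_comm_field (r := 5) (by norm_num) (Fintype.card_fin 5) hK
    fun k hk => (Subalgebra.mem_centralizer_iff F).1 (hKN ▸ hk) _ (mem_matrixSet hx)
  -- elements of the field in the unitary group have order dividing thirty-three
  have h33 : ∀ x ∈ sunit 5 F 2, x.val ∈ K → x ^ 33 = 1 := by
    intro x hx hxK
    have h1 : x ^ 1023 = 1 := by
      haveI : Fintype K := Fintype.ofFinite _
      have h0 : (⟨x.val, hxK⟩ : K) ≠ 0 := fun e => x.isUnit.ne_zero (congrArg Subtype.val e)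
      have := FiniteField.pow_card_sub_one_eq_one (⟨x.val, hxK⟩ : K) h0
      rw [← Nat.card_eq_fintype_card, hcK] at this
      exact Units.ext (by simpa using congrArg Subtype.val this)
    have h2 : x ^ 41057280 = 1 := by
      have h3 : Nat.card (Cfsg.GU 5 F 2) = 41057280 := by
        rw [Herm.card_GU hF 5]
        decide
      have h4 := pow_card_eq_one' (x := (⟨x, hx.1⟩ : Cfsg.GU 5 F 2))
      rw [h3] at h4
      exact congrArg Subtype.val h4
    have := pow_gcd_eq_one.2 ⟨h1, h2⟩
    rwa [show Nat.gcd 1023 41057280 = 33 by norm_num] at this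
  -- scalars are the roots of X ^ 4 = X
  have hscal : ∀ x : GL (Fin 5) F, x.val ∈ K → x ^ 3 = 1 → x ∈ scalars (Fin 5) F := by
    intro x hxK h3
    have hroot : ∀ z : K, z ^ 4 = z → z ∈ (Finset.univ : Finset F).image (algebraMap F K) := by
      intro z hz
      by_contra hne
      have hp : (Polynomial.X ^ 4 - Polynomial.X : Polynomial K) ≠ 0 := fun e => by
        have := congrArg (fun p => p.coeff 4) e
        simp [Polynomial.coeff_X] at this
      have hsub : insert z ((Finset.univ : Finset F).image (algebraMap F K)) ⊆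
          (Polynomial.X ^ 4 - Polynomial.X : Polynomial K).roots.toFinset := by
        intro a ha
        rw [Multiset.mem_toFinset, Polynomial.mem_roots hp, Polynomial.IsRoot, Polynomial.eval_sub,
          Polynomial.eval_pow, Polynomial.eval_X, sub_eq_zero]
        rcases Finset.mem_insert.1 ha with rfl | ha
        · exact hz
        · obtain ⟨c, -, rfl⟩ := Finset.mem_image.1 ha
          rw [← map_pow]
          congr 1
          have := FiniteField.pow_card c
          rwa [hF] at this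
      have h1 := (Finset.card_le_card hsub).trans ((Multiset.toFinset_card_le _).trans (Polynomial.card_roots' _))
      rw [Finset.card_insert_of_notMem hne, Finset.card_image_of_injective _ (algebraMap F K).injective,
        Finset.card_univ, hF] at h1
      have h5 : (Polynomial.X ^ 4 - Polynomial.X : Polynomial K).natDegree ≤ 4 :=
        Polynomial.natDegree_sub_le_of_le (m := 4) (n := 1) (Polynomial.natDegree_X_pow_le 4)
          Polynomial.natDegree_X_le |>.trans (by norm_num)
      omega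
    obtain ⟨c, -, hc⟩ := Finset.mem_image.1 (hroot ⟨x.val, hxK⟩ (Subtype.ext (by
      show x.val ^ 4 = x.val
      rw [← Units.val_pow_eq_pow_val, pow_succ, h3, one_mul])))
    refine mem_scalars_of_smul (c := c) ?_
    rw [← Algebra.algebraMap_eq_smul_one]
    exact (congrArg Subtype.val hc).symm
  -- an element of order eleven
  obtain ⟨x, hxN, hxs⟩ : ∃ x ∈ N, x ∉ scalars (Fin 5) F := by
    by_contra hne
    push Not at hne
    have htop : K = ⊤ := eq_top_iff.2 fun M _ => by
      rw [hKN, Subalgebra.mem_centralizer_iff]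
      rintro _ ⟨g, hg, rfl⟩
      obtain ⟨d, hd⟩ := (mem_scalars_iff g).1 (hne g hg)
      simp [hd]
    have h := hK.finrank_eq
    rw [htop, (Subalgebra.topEquiv.toLinearEquiv).finrank_eq, Module.finrank_matrix, Module.finrank_self,
      Fintype.card_fin] at h
    omega
  set y := x ^ 3 with hy
  have hxS : x ∈ sunit 5 F 2 := hH.1.le (hN hxN)
  have hyH : y ∈ H := pow_mem (hN hxN) 3
  have hyS : y ∈ sunit 5 F 2 := hH.1.le hyH
  have hy11 : y ^ 11 = 1 := by rw [hy, ← pow_mul]; exact h33 x hxS (hNK x hxN)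
  have hy1 : y ≠ 1 := fun e => hxs (hscal x (hNK x hxN) e)
  have hyK : y.val ∈ K := by rw [hy, Units.val_pow_eq_pow_val]; exact pow_mem (hNK x hxN) 3
  set yK : K := ⟨y.val, hyK⟩ with hyKdef
  have hprim : IsPrimitiveRoot yK 11 := by
    have h1 : yK ^ 11 = 1 := Subtype.ext (by
      show y.val ^ 11 = 1
      rw [← Units.val_pow_eq_pow_val, hy11, Units.val_one])
    have h2 := IsPrimitiveRoot.orderOf yK
    rwa [orderOf_eq_prime h1 fun e => hy1 (Units.ext (congrArg Subtype.val e))] at h2
  have hroots : ∀ z : GL (Fin 5) F, z.val ∈ K → z ^ 11 = 1 → z ∈ Subgroup.zpowers y := by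
    intro z hz h11
    obtain ⟨i, -, hi⟩ := hprim.eq_pow_of_pow_eq_one (ξ := ⟨z.val, hz⟩) (Subtype.ext (by
      show z.val ^ 11 = 1
      rw [← Units.val_pow_eq_pow_val, h11, Units.val_one]))
    exact ⟨(i : ℤ), by
      show y ^ (i : ℤ) = z
      rw [zpow_natCast]
      exact Units.ext (by simpa using congrArg Subtype.val hi)⟩
  -- commuting elements are powers
  have hcent : ∀ m ∈ sunit 5 F 2, m * y = y * m → m ∈ Subgroup.zpowers y := by
    intro m hm hmy
    haveI : IsDomain K := inferInstance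
    have hsimp : IsSimpleOrder (Subalgebra F K) :=
      Subalgebra.isSimpleOrder_of_finrank_prime F K (by rw [hK.finrank_eq]; norm_num)
    set L := (Subalgebra.centralizer F ({m.val} : Set (Matrix (Fin 5) (Fin 5) F))).comap K.val with hL
    have hLy : yK ∈ L := by
      rw [hL, Subalgebra.mem_comap, Subalgebra.mem_centralizer_iff]
      rintro _ rfl
      exact congrArg Units.val hmy
    have hLtop : L = ⊤ := (hsimp.eq_bot_or_eq_top L).resolve_left fun e => by
      obtain ⟨c, hc⟩ := Algebra.mem_bot.1 (e ▸ hLy)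
      have h1 : y ∈ scalars (Fin 5) F := mem_scalars_of_smul (c := c) (by
        rw [← Algebra.algebraMap_eq_smul_one]
        exact (congrArg Subtype.val hc).symm)
      obtain ⟨d, hd⟩ := (mem_scalars_iff y).1 h1
      have h2 : y ^ 3 = 1 := Units.ext (by
        rw [scalar_pow hd, Units.val_one]
        have := FiniteField.pow_card_sub_one_eq_one (d : F) d.ne_zero
        rw [hF] at this
        rw [show (3 : ℕ) = 2 ^ 2 - 1 by norm_num, this, one_smul])
      have := pow_gcd_eq_one.2 ⟨h2, hy11⟩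
      rw [show Nat.gcd 3 11 = 1 by norm_num, pow_one] at this
      exact hy1 this
    have hmK : m.val ∈ K := mem_of_comm_field (r := 5) (by norm_num) (Fintype.card_fin 5) hK fun k hk => by
      have h1 : (⟨k, hk⟩ : K) ∈ L := hLtop ▸ Algebra.mem_top
      rw [hL, Subalgebra.mem_comap, Subalgebra.mem_centralizer_iff] at h1
      exact h1 _ rfl
    have hm33 := h33 m hm hmK
    obtain ⟨d, hd⟩ := (mem_scalars_iff _).1 (hscal (m ^ 11) (by
      rw [Units.val_pow_eq_pow_val]; exact pow_mem hmK 11) (by rw [← pow_mul]; exact hm33))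
    obtain ⟨j, hj⟩ : m ^ 12 ∈ Subgroup.zpowers y := hroots (m ^ 12) (by
      rw [Units.val_pow_eq_pow_val]; exact pow_mem hmK 12) (by
        rw [← pow_mul, show 12 * 11 = 33 * 4 by norm_num, pow_mul, hm33, one_pow])
    have hm11 : m ^ 11 = 1 := by
      have hdS : (m ^ 11).val.det = 1 := by
        have := congrArg Units.val (MonoidHom.mem_ker.1 (pow_mem hm.2 11))
        rwa [Units.val_one, Matrix.GeneralLinearGroup.val_det_apply] at this
      rw [hd, Matrix.det_smul, Matrix.det_one, mul_one, Fintype.card_fin] at hdS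
      have h3 : (d : F) ^ 3 = 1 := by
        have := FiniteField.pow_card_sub_one_eq_one (d : F) d.ne_zero
        rwa [hF] at this
      have h4 := pow_gcd_eq_one.2 ⟨hdS, h3⟩
      rw [show Nat.gcd 5 3 = 1 by norm_num, pow_one] at h4
      exact Units.ext (by rw [hd, h4, one_smul, Units.val_one])
    have : m ^ 12 = m := by rw [pow_succ, hm11, one_mul]
    exact this ▸ ⟨j, hj⟩
  have hnorm : ∀ k ∈ H, k * y * k⁻¹ ∈ Subgroup.zpowers y := fun k hk => hroots _
    ((hle hk y.val).1 hyK) (by rw [conj_pow, hy11, mul_one, mul_inv_cancel])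
  obtain ⟨g, M, hgS, hg1, hg11, hMS, hMne, hgM, ⟨t, htM, ht⟩, hnor⟩ := exists_overgroup hF
  -- Sylow conjugation
  have hcard : (Nat.card (sunit 5 F 2)).factorization 11 = 1 := by
    have h3 : Nat.card (Cfsg.GU 5 F 2) = 41057280 := by
      rw [Herm.card_GU hF 5]
      decide
    have hdvd : Nat.card (sunit 5 F 2) ∣ 41057280 := h3 ▸ Subgroup.card_dvd_of_le inf_le_left
    have h11 : 11 ∣ Nat.card (sunit 5 F 2) := by
      have := orderOf_dvd_natCard (⟨y, hyS⟩ : sunit 5 F 2)
      rwa [Subgroup.orderOf_mk, orderOf_eq_prime hy11 hy1] at this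
    refine le_antisymm ?_ ((Nat.Prime.dvd_iff_one_le_factorization (by norm_num) Nat.card_pos.ne').1 h11)
    by_contra hgt
    have : 11 ^ 2 ∣ Nat.card (sunit 5 F 2) :=
      (Nat.Prime.pow_dvd_iff_le_factorization (by norm_num) Nat.card_pos.ne').2 (by omega)
    have := this.trans hdvd
    norm_num at this
  let toSyl : ∀ z : GL (Fin 5) F, (hz : z ∈ sunit 5 F 2) → z ^ 11 = 1 → z ≠ 1 → Sylow 11 (sunit 5 F 2) :=
    fun z hz h11 h1 => Sylow.ofCard (Subgroup.zpowers ⟨z, hz⟩) (by
      rw [Nat.card_zpowers, Subgroup.orderOf_mk, orderOf_eq_prime h11 h1, hcard, pow_one])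
  obtain ⟨a, ha⟩ := MulAction.exists_smul_eq (sunit 5 F 2) (toSyl y hyS hy11 hy1) (toSyl g hgS hg11 hg1)
  have haz : (a : GL (Fin 5) F) * y * (a : GL (Fin 5) F)⁻¹ ∈ Subgroup.zpowers g := by
    have h1 : MulAut.conj a ⟨y, hyS⟩ ∈ (toSyl g hgS hg11 hg1 : Subgroup (sunit 5 F 2)) := by
      rw [← ha]
      exact Set.smul_mem_smul_set (a := MulAut.conj a) (Subgroup.mem_zpowers (⟨y, hyS⟩ : sunit 5 F 2))
    obtain ⟨j, hj⟩ := h1
    exact ⟨j, by simpa using congrArg Subtype.val hj⟩
  set b : GL (Fin 5) F := (a : GL (Fin 5) F) with hb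
  have hzp : Subgroup.zpowers g = (Subgroup.zpowers y).map (MulAut.conj b).toMonoidHom := by
    refine (Subgroup.eq_of_le_of_card_ge ?_ ?_).symm
    · rw [MonoidHom.map_zpowers]
      exact Subgroup.zpowers_le.2 haz
    · rw [Subgroup.card_map_of_injective (MulAut.conj b).injective, Nat.card_zpowers, Nat.card_zpowers,
        orderOf_eq_prime hg11 hg1, orderOf_eq_prime hy11 hy1]
  have hmemy : ∀ z, z ∈ Subgroup.zpowers g ↔ b⁻¹ * z * b ∈ Subgroup.zpowers y := by
    intro z
    rw [hzp, Subgroup.mem_map_equiv, MulAut.conj_symm_apply]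
  set M' := M.comap (MulAut.conj b).toMonoidHom with hM'
  have hbS : b ∈ sunit 5 F 2 := a.2
  have hM'S : M' ≤ sunit 5 F 2 := fun z hz => by
    have : b * z * b⁻¹ ∈ sunit 5 F 2 := hMS hz
    simpa [mul_assoc] using mul_mem (mul_mem (inv_mem hbS) this) hbS
  have hHM : H ≤ M' := by
    intro k hk
    show b * k * b⁻¹ ∈ M
    have hn : b * k * b⁻¹ ∈ sunit 5 F 2 := mul_mem (mul_mem hbS (hH.1.le hk)) (inv_mem hbS)
    have hng : b * k * b⁻¹ * g * (b * k * b⁻¹)⁻¹ ∈ Subgroup.zpowers g := by
      obtain ⟨j, hj⟩ := (hmemy g).1 (Subgroup.mem_zpowers g)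
      have hj' : g = b * y ^ j * b⁻¹ := by rw [show y ^ j = _ from hj]; group
      rw [hmemy]
      have : b⁻¹ * (b * k * b⁻¹ * g * (b * k * b⁻¹)⁻¹) * b = (k * y * k⁻¹) ^ j := by
        rw [hj', conj_zpow]; group
      rw [this]
      exact zpow_mem (hnorm k hk) j
    obtain ⟨m, hm, hmg⟩ := hnor _ hn hng
    have hc : (m⁻¹ * (b * k * b⁻¹)) * g = g * (m⁻¹ * (b * k * b⁻¹)) := by
      calc (m⁻¹ * (b * k * b⁻¹)) * g = m⁻¹ * (b * k * b⁻¹ * g * (b * k * b⁻¹)⁻¹) * (b * k * b⁻¹) := by group
        _ = g * (m⁻¹ * (b * k * b⁻¹)) := by rw [← hmg]; group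
    set c := m⁻¹ * (b * k * b⁻¹) with hcdef
    have hcy : b⁻¹ * c * b * y = y * (b⁻¹ * c * b) := by
      obtain ⟨j, hj⟩ := haz
      have h1 : Commute c (g ^ j) := Commute.zpow_right hc j
      rw [show g ^ j = b * y * b⁻¹ from hj] at h1
      calc b⁻¹ * c * b * y = b⁻¹ * (c * (b * y * b⁻¹)) * b := by group
        _ = y * (b⁻¹ * c * b) := by rw [h1.eq]; group
    have hcS : c ∈ sunit 5 F 2 := mul_mem (inv_mem (hMS hm)) hn
    have hcg : c ∈ Subgroup.zpowers g :=
      (hmemy c).2 (hcent _ (mul_mem (mul_mem (inv_mem hbS) hcS) hbS) hcy)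
    have : m * c ∈ M := mul_mem hm (Subgroup.zpowers_le.2 hgM hcg)
    rwa [hcdef, mul_inv_cancel_left] at this
  rcases hH.2 M' hHM hM'S with e | e
  · have htH : b⁻¹ * t * b ∈ H := by
      rw [← e, hM']
      show b * (b⁻¹ * t * b) * b⁻¹ ∈ M
      simpa [mul_assoc] using htM
    obtain ⟨j, hj⟩ := (hmemy g).1 (Subgroup.mem_zpowers g)
    apply ht
    rw [hmemy]
    have hj' : g = b * y ^ j * b⁻¹ := by rw [show y ^ j = _ from hj]; group
    have : b⁻¹ * (t * g * t⁻¹) * b = ((b⁻¹ * t * b) * y * (b⁻¹ * t * b)⁻¹) ^ j := by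
      rw [hj', conj_zpow]; group
    rw [this]
    exact zpow_mem (hnorm _ htH) j
  · refine hMne (le_antisymm hMS fun z hz => ?_)
    have h1 : b⁻¹ * z * b ∈ M' := e.symm ▸ mul_mem (mul_mem (inv_mem hbS) hz) hbS
    have h2 : b * (b⁻¹ * z * b) * b⁻¹ ∈ M := h1
    simpa [mul_assoc] using h2

end Cfsg.Lib.Linear.Asch.SUFiveTwo
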