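import Cfsg.Agent.Lib.Linear.Aschbacher.UnitaryForms

/-!
# A subgroup of `SU₅(2)` containing the normaliser of a subgroup of order eleven

Concrete computations with matrices over the field with four elements, given by tables.
-/

set_option autoImplicit false
set_option maxRecDepth 20000
set_option maxHeartbeats 4000000

namespace Cfsg.Lib.Linear.Asch.SUFiveTwo

/-- Matrices over the four-element tables. -/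
abbrev Mat4 : Type := Fin 5 → Fin 5 → Fin 4

/-- Vectors over the four-element tables. -/
abbrev Vec4 : Type := Fin 5 → Fin 4

/-- Addition table. -/
def add4 : Fin 4 → Fin 4 → Fin 4 :=
  ![![0, 1, 2, 3], ![1, 0, 3, 2], ![2, 3, 0, 1], ![3, 2, 1, 0]]

/-- Multiplication table. -/
def mul4 : Fin 4 → Fin 4 → Fin 4 :=
  ![![0, 0, 0, 0], ![0, 1, 2, 3], ![0, 2, 3, 1], ![0, 3, 1, 2]]

/-- Conjugation table. -/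
def conj4 : Fin 4 → Fin 4 := ![0, 1, 3, 2]

/-- Inner product of five terms. -/
def dot4 (a b : Vec4) : Fin 4 :=
  add4 (add4 (add4 (add4 (mul4 (a 0) (b 0)) (mul4 (a 1) (b 1))) (mul4 (a 2) (b 2))) (mul4 (a 3) (b 3)))
    (mul4 (a 4) (b 4))

/-- Matrix product. -/
def mm4 (A B : Mat4) : Mat4 := fun i j => dot4 (A i) (fun k => B k j)

/-- Matrix times vector. -/
def mv4 (A : Mat4) (v : Vec4) : Vec4 := fun i => dot4 (A i) v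

/-- Trace. -/
def tr4 (A : Mat4) : Fin 4 := add4 (add4 (add4 (add4 (A 0 0) (A 1 1)) (A 2 2)) (A 3 3)) (A 4 4)

/-- Identity. -/
def one4 : Mat4 := fun i j => if i = j then 1 else 0

/-- The unitary condition. -/
def isU (A : Mat4) : Prop := mm4 (fun i j => A j i) (fun i j => conj4 (A i j)) = one4

/-- The powers of an element of order eleven. -/
def gp : Fin 11 → Mat4 := ![
  ![![1, 0, 0, 0, 0], ![0, 1, 0, 0, 0], ![0, 0, 1, 0, 0], ![0, 0, 0, 1, 0], ![0, 0, 0, 0, 1]],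
  ![![3, 3, 3, 2, 3], ![3, 2, 1, 3, 1], ![2, 3, 3, 3, 3], ![3, 1, 1, 3, 2], ![1, 2, 3, 1, 2]],
  ![![3, 2, 3, 3, 1], ![2, 3, 3, 0, 0], ![3, 0, 1, 2, 0], ![3, 3, 2, 1, 2], ![2, 0, 3, 0, 2]],
  ![![1, 2, 2, 1, 1], ![2, 2, 0, 3, 0], ![1, 3, 3, 3, 2], ![2, 0, 0, 3, 1], ![2, 0, 2, 3, 0]],
  ![![3, 2, 2, 0, 0], ![2, 1, 0, 0, 2], ![0, 0, 0, 2, 0], ![2, 0, 1, 0, 2], ![0, 3, 3, 0, 1]],
  ![![0, 0, 1, 1, 1], ![0, 0, 1, 2, 3], ![1, 2, 2, 1, 3], ![1, 1, 3, 2, 1], ![2, 1, 2, 1, 3]],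
  ![![0, 0, 1, 1, 3], ![0, 0, 3, 1, 1], ![1, 1, 3, 2, 3], ![1, 3, 1, 3, 1], ![1, 2, 2, 1, 2]],
  ![![2, 3, 0, 3, 0], ![3, 1, 0, 0, 2], ![3, 0, 0, 1, 2], ![0, 0, 3, 0, 0], ![0, 3, 0, 3, 1]],
  ![![1, 3, 1, 3, 3], ![3, 3, 2, 0, 0], ![3, 0, 2, 0, 3], ![1, 2, 2, 2, 2], ![1, 0, 3, 1, 0]],
  ![![2, 3, 2, 2, 3], ![3, 2, 0, 2, 0], ![2, 2, 1, 3, 2], ![2, 0, 3, 1, 0], ![1, 0, 0, 3, 3]],
  ![![2, 2, 3, 2, 1], ![2, 3, 2, 1, 3], ![2, 1, 2, 1, 2], ![3, 2, 2, 2, 1], ![2, 1, 2, 3, 3]]]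

/-- An element normalising it. -/
def hh : Mat4 := ![![2, 3, 3, 2, 1], ![2, 1, 1, 1, 2], ![0, 1, 3, 0, 3], ![3, 3, 3, 1, 1], ![0, 1, 2, 0, 1]]

/-- The powers of the second element. -/
def hp : Fin 5 → Mat4 := ![
  ![![1, 0, 0, 0, 0], ![0, 1, 0, 0, 0], ![0, 0, 1, 0, 0], ![0, 0, 0, 1, 0], ![0, 0, 0, 0, 1]],
  ![![2, 3, 3, 2, 1], ![2, 1, 1, 1, 2], ![0, 1, 3, 0, 3], ![3, 3, 3, 1, 1], ![0, 1, 2, 0, 1]],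
  ![![3, 1, 3, 2, 2], ![2, 0, 3, 3, 0], ![2, 1, 2, 1, 3], ![3, 0, 2, 3, 0], ![2, 2, 2, 1, 2]],
  ![![2, 3, 3, 2, 3], ![1, 0, 1, 0, 3], ![2, 2, 3, 3, 3], ![3, 2, 1, 2, 1], ![3, 0, 2, 0, 3]],
  ![![3, 3, 0, 2, 0], ![2, 1, 1, 2, 1], ![2, 1, 2, 2, 3], ![3, 1, 0, 1, 0], ![1, 3, 2, 1, 1]]]

/-- An involution outside the normaliser. -/
def tt : Mat4 := ![![0, 0, 3, 0, 0], ![0, 1, 0, 0, 0], ![2, 0, 0, 0, 0], ![0, 0, 0, 0, 1], ![0, 0, 0, 1, 0]]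

/-- An involution moving the orbit. -/
def uu : Mat4 := ![![1, 0, 0, 0, 0], ![0, 0, 1, 0, 0], ![0, 1, 0, 0, 0], ![0, 0, 0, 0, 1], ![0, 0, 0, 1, 0]]

/-- Representatives of an orbit of lines. -/
def reps : Fin 55 → Vec4 := ![
  ![0, 0, 0, 0, 1],
  ![0, 0, 0, 1, 0],
  ![0, 0, 1, 0, 0],
  ![0, 0, 1, 1, 1],
  ![0, 0, 1, 1, 2],
  ![0, 0, 1, 1, 3],
  ![0, 1, 0, 1, 3],
  ![0, 1, 0, 2, 2],
  ![0, 1, 0, 3, 1],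
  ![0, 1, 1, 0, 3],
  ![0, 1, 2, 0, 2],
  ![0, 1, 3, 0, 1],
  ![1, 0, 0, 0, 0],
  ![1, 0, 0, 1, 2],
  ![1, 0, 0, 2, 2],
  ![1, 0, 0, 3, 2],
  ![1, 0, 1, 0, 1],
  ![1, 0, 1, 3, 0],
  ![1, 0, 2, 0, 1],
  ![1, 0, 2, 1, 0],
  ![1, 0, 3, 0, 1],
  ![1, 0, 3, 2, 0],
  ![1, 1, 0, 2, 0],
  ![1, 1, 1, 2, 1],
  ![1, 1, 1, 3, 3],
  ![1, 1, 2, 1, 3],
  ![1, 1, 2, 2, 3],
  ![1, 1, 2, 3, 1],
  ![1, 1, 2, 3, 2],
  ![1, 1, 2, 3, 3],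
  ![1, 1, 3, 0, 0],
  ![1, 1, 3, 1, 2],
  ![1, 1, 3, 3, 3],
  ![1, 2, 0, 1, 0],
  ![1, 2, 1, 1, 3],
  ![1, 2, 1, 2, 1],
  ![1, 2, 1, 2, 2],
  ![1, 2, 1, 2, 3],
  ![1, 2, 1, 3, 3],
  ![1, 2, 2, 0, 0],
  ![1, 2, 2, 2, 3],
  ![1, 2, 2, 3, 2],
  ![1, 2, 3, 1, 1],
  ![1, 2, 3, 2, 3],
  ![1, 3, 0, 3, 0],
  ![1, 3, 1, 0, 0],
  ![1, 3, 1, 1, 3],
  ![1, 3, 1, 2, 2],
  ![1, 3, 2, 1, 3],
  ![1, 3, 2, 3, 1],
  ![1, 3, 3, 1, 1],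
  ![1, 3, 3, 1, 2],
  ![1, 3, 3, 1, 3],
  ![1, 3, 3, 2, 3],
  ![1, 3, 3, 3, 3]]

/-- Images of the lines. -/
def permg : Fin 55 → Fin 55 := ![38, 40, 35, 39, 3, 42, 52, 32, 25, 17, 45, 16, 31, 7, 19, 28, 30, 20, 15, 6, 48, 54, 13, 12, 10, 47, 11, 18, 51, 22, 29, 46, 53, 8, 23, 27, 44, 9, 14, 50, 21, 49, 24, 26, 4, 41, 36, 5, 0, 33, 34, 1, 37, 43, 2]

/-- Multipliers. -/
def multg : Fin 55 → Fin 4 := ![3, 2, 3, 2, 1, 3, 3, 1, 1, 2, 3, 2, 3, 2, 1, 3, 3, 1, 1, 2, 2, 2, 3, 3, 1, 1, 1, 3, 1, 2, 2, 1, 1, 3, 1, 1, 3, 3, 2, 3, 2, 3, 1, 1, 2, 2, 2, 3, 1, 2, 2, 3, 3, 2, 2]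

/-- Images of the lines. -/
def permh : Fin 55 → Fin 55 := ![42, 44, 34, 7, 30, 54, 49, 14, 21, 33, 2, 0, 22, 20, 25, 36, 6, 5, 23, 24, 45, 31, 52, 11, 1, 27, 9, 3, 39, 38, 17, 53, 37, 28, 32, 46, 13, 10, 41, 26, 50, 40, 18, 19, 43, 15, 16, 51, 8, 35, 29, 12, 47, 48, 4]

/-- Multipliers. -/
def multh : Fin 55 → Fin 4 := ![1, 2, 3, 2, 3, 2, 2, 2, 3, 3, 1, 1, 2, 2, 3, 1, 1, 3, 2, 1, 1, 3, 2, 2, 3, 1, 2, 3, 3, 2, 3, 3, 1, 1, 1, 2, 1, 2, 2, 2, 2, 1, 2, 1, 1, 3, 2, 2, 3, 1, 1, 2, 3, 2, 3]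

/-- Images of the lines. -/
def permt : Fin 55 → Fin 55 := ![1, 0, 12, 14, 15, 13, 8, 7, 6, 33, 22, 44, 2, 5, 3, 4, 21, 20, 19, 18, 17, 16, 10, 43, 42, 27, 28, 25, 26, 29, 45, 46, 47, 9, 51, 53, 54, 52, 50, 39, 41, 40, 24, 23, 11, 30, 31, 32, 49, 48, 38, 34, 37, 35, 36]

/-- Multipliers. -/
def multt : Fin 55 → Fin 4 := ![1, 1, 3, 3, 3, 3, 1, 1, 1, 3, 1, 2, 2, 2, 2, 2, 3, 3, 1, 1, 2, 2, 1, 3, 3, 1, 1, 1, 1, 1, 2, 2, 2, 2, 3, 3, 3, 3, 3, 1, 1, 1, 2, 2, 3, 3, 3, 3, 1, 1, 2, 2, 2, 2, 2]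

theorem gp_zero : gp 0 = one4 := by decide

theorem gp_step : ∀ i : Fin 11, mm4 (gp i) (gp 1) = gp (i + 1) := by decide

theorem hp_zero : hp 0 = one4 := by decide

theorem hp_step : ∀ i : Fin 5, mm4 (hp i) hh = hp (i + 1) := by decide

theorem hh_conj : mm4 hh (gp 1) = mm4 (gp 4) hh := by decide

theorem tt_sq : mm4 tt tt = one4 := by decide

theorem uu_sq : mm4 uu uu = one4 := by decide

theorem tt_conj : ∀ i : Fin 11, mm4 tt (gp 1) ≠ mm4 (gp i) tt := by decide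

theorem gp_one_ne : gp 1 ≠ one4 := by decide

theorem unit_g : isU (gp 1) := by unfold isU; decide

theorem unit_h : isU hh := by unfold isU; decide

theorem unit_t : isU tt := by unfold isU; decide

theorem unit_u : isU uu := by unfold isU; decide

theorem trace_qr : ∀ i : Fin 11, tr4 (gp i) = tr4 (gp 1) → i = 1 ∨ i = 4 ∨ i = 5 ∨ i = 9 ∨ i = 3 := by decide

theorem stable_g : ∀ i, mv4 (gp 1) (reps i) = fun k => mul4 (multg i) (reps (permg i) k) := by decide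

theorem stable_h : ∀ i, mv4 hh (reps i) = fun k => mul4 (multh i) (reps (permh i) k) := by decide

theorem stable_t : ∀ i, mv4 tt (reps i) = fun k => mul4 (multt i) (reps (permt i) k) := by decide

theorem moved : ∀ i (c : Fin 4), mv4 uu (reps 2) ≠ fun k => mul4 c (reps i k) := by decide

end Cfsg.Lib.Linear.Asch.SUFiveTwo
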