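import Cfsg.Agent.Lib.Linear.Aschbacher.Unitary
import Cfsg.Agent.Lib.Linear.Aschbacher.OrthForms

/-!
# Non-maximality through overgroups in `SU₃(q)`
-/

set_option autoImplicit false
set_option linter.unusedSectionVars false
set_option linter.style.haveILetI false

namespace Cfsg.Lib.Linear.Asch

open Cfsg.Geo Cfsg.Lib.Linear
open scoped Matrix MatrixGroups

variable {F : Type*} [Field F] [Fintype F] {q n : ℕ}

theorem conj_mem_sunit {b x : GL (Fin n) F} (hb : b ∈ Cfsg.GU n F q) (hx : x ∈ sunit n F q) :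
    b * x * b⁻¹ ∈ sunit n F q :=
  ⟨(Cfsg.GU n F q).mul_mem ((Cfsg.GU n F q).mul_mem hb hx.1) ((Cfsg.GU n F q).inv_mem hb), by
    have h := hx.2
    show Matrix.GeneralLinearGroup.det (b * x * b⁻¹) = 1
    rw [map_mul, map_mul, map_inv, show Matrix.GeneralLinearGroup.det x = 1 from h, mul_one, mul_inv_cancel]⟩

/-- A group conjugate into a proper overgroup inside `SU` is not maximal. -/
theorem overgroup_false {H M : Subgroup (GL (Fin n) F)} (hH : IsMaximalIn (sunit n F q) H) (hM : M ≤ sunit n F q)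
    {u : GL (Fin n) F} (hu : u ∈ sunit n F q) (huM : u ∉ M) {b : GL (Fin n) F} (hb : b ∈ Cfsg.GU n F q)
    (hconj : ∀ k ∈ H, b⁻¹ * k * b ∈ M) {t : GL (Fin n) F} (ht : t ∈ M) (htH : b * t * b⁻¹ ∉ H) : False := by
  set M' := M.comap (MulAut.conj b⁻¹).toMonoidHom with hM'
  have hmem : ∀ x, x ∈ M' ↔ b⁻¹ * x * b ∈ M := fun x => by
    simp [hM']
  have hM'S : M' ≤ sunit n F q := fun x hx => by
    simpa [mul_assoc] using conj_mem_sunit hb (hM ((hmem x).1 hx))
  rcases hH.2 M' (fun k hk => (hmem k).2 (hconj k hk)) hM'S with e | e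
  · exact htH (e ▸ (hmem _).2 (by simpa [mul_assoc] using ht))
  · refine huM ?_
    have := (hmem _).1 (e.symm ▸ conj_mem_sunit hb hu : b * u * b⁻¹ ∈ M')
    simpa [mul_assoc] using this

/-- In a field of matrices over `F` of dimension three, a cube root of a non-cube scalar has that
scalar as determinant. -/
theorem det_of_cube {u : GL (Fin 3) F} {c : F} (hu : u.val ^ 3 = c • 1) (hc : ∀ d : F, d ^ 3 ≠ c) :
    u.val.det = c := by
  open Polynomial in
  have hirr : Irreducible (X ^ 3 - C c : F[X]) := X_pow_sub_C_irreducible_of_prime (by norm_num) hc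
  have hmon : (Polynomial.X ^ 3 - Polynomial.C c : Polynomial F).Monic := Polynomial.monic_X_pow_sub_C _ (by norm_num)
  have hdeg : (Polynomial.X ^ 3 - Polynomial.C c : Polynomial F).natDegree = 3 := Polynomial.natDegree_X_pow_sub_C
  have hmin := minpoly.eq_of_irreducible_of_monic (x := u.val) hirr
    (by simp [hu, Algebra.algebraMap_eq_smul_one]) hmon
  have hchar : u.val.charpoly = Polynomial.X ^ 3 - Polynomial.C c := by
    refine (Polynomial.eq_of_monic_of_dvd_of_natDegree_le hmon (Matrix.charpoly_monic _)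
      (hmin ▸ Matrix.minpoly_dvd_charpoly u.val) ?_)
    rw [Matrix.charpoly_natDegree_eq_dim, hdeg, Fintype.card_fin]
  rw [Matrix.det_eq_sign_charpoly_coeff, hchar, Polynomial.coeff_sub, Polynomial.coeff_C_zero,
    Polynomial.coeff_X_pow, if_neg (by norm_num), Fintype.card_fin]
  ring

section FieldCase

variable {H N : Subgroup (GL (Fin 3) F)} {K : Subalgebra F (Matrix (Fin 3) (Fin 3) F)}

theorem field_pow_card (hK : IsFieldSubalgebra 3 K) {x : GL (Fin 3) F} (hx : x.val ∈ K) :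
    x ^ (Fintype.card F ^ 3 - 1) = 1 := by
  haveI : Finite (Matrix (Fin 3) (Fin 3) F) := inferInstanceAs (Finite (Fin 3 → Fin 3 → F))
  haveI : FiniteDimensional F K := Module.finite_of_finrank_pos (hK.finrank_eq.symm ▸ by norm_num)
  have hfield : IsField K :=
    { exists_pair_ne := ⟨0, 1, fun h => zero_ne_one (congrArg Subtype.val h)⟩
      mul_comm := fun a b => Subtype.ext (hK.comm a a.2 b b.2)
      mul_inv_cancel := fun {a} ha => by
        obtain ⟨y, hy, hy'⟩ := hK.inv a a.2 (fun h => ha (Subtype.ext h))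
        exact ⟨⟨y, hy⟩, Subtype.ext hy'⟩ }
  letI : Field K := hfield.toField
  haveI : Fintype K := Fintype.ofFinite _
  have h0 : (⟨x.val, hx⟩ : K) ≠ 0 := fun e => x.isUnit.ne_zero (congrArg Subtype.val e)
  have h1 := FiniteField.pow_card_sub_one_eq_one (⟨x.val, hx⟩ : K) h0
  rw [← Nat.card_eq_fintype_card, Module.natCard_eq_pow_finrank (K := F) (V := K), hK.finrank_eq,
    Nat.card_eq_fintype_card] at h1
  exact Units.ext (by simpa using congrArg Subtype.val h1)

theorem field_scalar (hK : IsFieldSubalgebra 3 K) {x : GL (Fin 3) F} (hx : x.val ∈ K)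
    (hx1 : x ^ (Fintype.card F - 1) = 1) : x ∈ scalars (Fin 3) F := by
  classical
  haveI : Nonempty (Fin 3) := ⟨0⟩
  have hfield : IsField K :=
    { exists_pair_ne := ⟨0, 1, fun h => zero_ne_one (congrArg Subtype.val h)⟩
      mul_comm := fun a b => Subtype.ext (hK.comm a a.2 b b.2)
      mul_inv_cancel := fun {a} ha => by
        obtain ⟨y, hy, hy'⟩ := hK.inv a a.2 (fun h => ha (Subtype.ext h))
        exact ⟨⟨y, hy⟩, Subtype.ext hy'⟩ }
  letI : Field K := hfield.toField
  set m := Fintype.card F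
  have hm : 1 < m := Fintype.one_lt_card
  set z : K := ⟨x.val, hx⟩ with hzdef
  have hz : z ^ m = z := Subtype.ext (by
    show x.val ^ m = x.val
    rw [← Units.val_pow_eq_pow_val, show m = m - 1 + 1 by omega, pow_succ, hx1, one_mul])
  by_contra hne
  have hz' : z ∉ (Finset.univ : Finset F).image (algebraMap F K) := fun h => by
    obtain ⟨c, -, hc⟩ := Finset.mem_image.1 h
    refine hne (mem_scalars_of_smul (c := c) ?_)
    rw [← Algebra.algebraMap_eq_smul_one]
    exact (congrArg Subtype.val hc).symm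
  have hp : (Polynomial.X ^ m - Polynomial.X : Polynomial K) ≠ 0 := FiniteField.X_pow_card_sub_X_ne_zero K hm
  have hsub : insert z ((Finset.univ : Finset F).image (algebraMap F K)) ⊆
      (Polynomial.X ^ m - Polynomial.X : Polynomial K).roots.toFinset := by
    intro a ha
    rw [Multiset.mem_toFinset, Polynomial.mem_roots hp, Polynomial.IsRoot, Polynomial.eval_sub,
      Polynomial.eval_pow, Polynomial.eval_X, sub_eq_zero]
    rcases Finset.mem_insert.1 ha with rfl | ha
    · exact hz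
    · obtain ⟨c, -, rfl⟩ := Finset.mem_image.1 ha
      rw [← map_pow]
      congr 1
      exact FiniteField.pow_card c
  have h1 := (Finset.card_le_card hsub).trans ((Multiset.toFinset_card_le _).trans (Polynomial.card_roots' _))
  rw [Finset.card_insert_of_notMem hz', Finset.card_image_of_injective _ (algebraMap F K).injective,
    Finset.card_univ, FiniteField.X_pow_card_sub_X_natDegree_eq K hm] at h1
  omega

/-- The normaliser of a cubic extension field lies in a proper overgroup given a suitable element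
of order seven. -/
theorem field_seven_false (hH : IsMaximalIn (sunit 3 F q) H) (hK : IsFieldSubalgebra 3 K)
    (hle : H ≤ subalgebraNormalizer K) (hN : N ≤ H) (hKN : K = Subalgebra.centralizer F (matrixSet N))
    {k : ℕ} (hk : Nat.Coprime k 7) (hex : ∀ x ∈ sunit 3 F q, x.val ∈ K → x ^ (7 * k) = 1)
    (hsmall : ∀ x ∈ sunit 3 F q, x.val ∈ K → x ^ k = 1 → x ∈ scalars (Fin 3) F)
    (h49 : ¬ 49 ∣ Nat.card (Cfsg.GU 3 F q)) {M : Subgroup (GL (Fin 3) F)} (hM : M ≤ sunit 3 F q)
    (hMs : ∀ x ∈ sunit 3 F q, x ∈ scalars (Fin 3) F → x ∈ M) {g : GL (Fin 3) F} (hgM : g ∈ M) (hg1 : g ≠ 1)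
    (hg7 : g ^ 7 = 1)
    (hnor : ∀ x ∈ sunit 3 F q, x * g * x⁻¹ ∈ Subgroup.zpowers g → ∃ m ∈ M, m * g * m⁻¹ = x * g * x⁻¹)
    {t : GL (Fin 3) F} (htM : t ∈ M) (ht : t * g * t⁻¹ ∉ Subgroup.zpowers g)
    {u : GL (Fin 3) F} (hu : u ∈ sunit 3 F q) (huM : u ∉ M) : False := by
  classical
  haveI : Nonempty (Fin 3) := ⟨0⟩
  haveI : Finite (Matrix (Fin 3) (Fin 3) F) := inferInstanceAs (Finite (Fin 3 → Fin 3 → F))
  haveI := Fact.mk (show Nat.Prime 7 by norm_num)
  haveI : FiniteDimensional F K := Module.finite_of_finrank_pos (hK.finrank_eq.symm ▸ by norm_num)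
  have hfield : IsField K :=
    { exists_pair_ne := ⟨0, 1, fun h => zero_ne_one (congrArg Subtype.val h)⟩
      mul_comm := fun a b => Subtype.ext (hK.comm a a.2 b b.2)
      mul_inv_cancel := fun {a} ha => by
        obtain ⟨y, hy, hy'⟩ := hK.inv a a.2 (fun h => ha (Subtype.ext h))
        exact ⟨⟨y, hy⟩, Subtype.ext hy'⟩ }
  letI : Field K := hfield.toField
  obtain ⟨x, hxN, hxs⟩ : ∃ x ∈ N, x ∉ scalars (Fin 3) F := by
    by_contra hne
    push Not at hne
    have htop : K = ⊤ := eq_top_iff.2 fun M _ => by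
      rw [hKN, Subalgebra.mem_centralizer_iff]
      rintro _ ⟨g, hg, rfl⟩
      obtain ⟨d, hd⟩ := (mem_scalars_iff g).1 (hne g hg)
      simp [hd]
    have h := hK.finrank_eq
    rw [htop, (Subalgebra.topEquiv.toLinearEquiv).finrank_eq, Module.finrank_matrix, Module.finrank_self,
      Fintype.card_fin] at h
    omega
  have hxK : x.val ∈ K := mem_of_comm_field (r := 3) (by norm_num) (Fintype.card_fin 3) hK
    fun a ha => (Subalgebra.mem_centralizer_iff F).1 (hKN ▸ ha) _ (mem_matrixSet hxN)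
  set y := x ^ k with hy
  have hxS : x ∈ sunit 3 F q := hH.1.le (hN hxN)
  have hyS : y ∈ sunit 3 F q := pow_mem hxS k
  have hy7 : y ^ 7 = 1 := by rw [hy, ← pow_mul, mul_comm]; exact hex x hxS hxK
  have hy1 : y ≠ 1 := fun e => hxs (hsmall x hxS hxK e)
  have hyK : y.val ∈ K := by rw [hy, Units.val_pow_eq_pow_val]; exact pow_mem hxK k
  set yK : K := ⟨y.val, hyK⟩ with hyKdef
  have hprim : IsPrimitiveRoot yK 7 := by
    have h1 : yK ^ 7 = 1 := Subtype.ext (by
      show y.val ^ 7 = 1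
      rw [← Units.val_pow_eq_pow_val, hy7, Units.val_one])
    have h2 := IsPrimitiveRoot.orderOf yK
    rwa [orderOf_eq_prime h1 fun e => hy1 (Units.ext (congrArg Subtype.val e))] at h2
  have hroots : ∀ z : GL (Fin 3) F, z.val ∈ K → z ^ 7 = 1 → z ∈ Subgroup.zpowers y := by
    intro z hz h7
    obtain ⟨i, -, hi⟩ := hprim.eq_pow_of_pow_eq_one (ξ := ⟨z.val, hz⟩) (Subtype.ext (by
      show z.val ^ 7 = 1
      rw [← Units.val_pow_eq_pow_val, h7, Units.val_one]))
    exact ⟨(i : ℤ), by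
      show y ^ (i : ℤ) = z
      rw [zpow_natCast]
      exact Units.ext (by simpa using congrArg Subtype.val hi)⟩
  have hyns : y ∉ scalars (Fin 3) F := fun h => by
    obtain ⟨d, hd⟩ := (mem_scalars_iff y).1 h
    have h3 : (d : F) ^ 3 = 1 := Fintype.card_fin 3 ▸ det_scalar hd hyS.2
    have h4 : y ^ 3 = 1 := Units.ext (by rw [scalar_pow hd, h3, one_smul, Units.val_one])
    have := pow_gcd_eq_one.2 ⟨h4, hy7⟩
    rw [show Nat.gcd 3 7 = 1 by norm_num, pow_one] at this
    exact hy1 this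
  have hcent : ∀ m ∈ sunit 3 F q, m * y = y * m → m.val ∈ K := by
    intro m hm hmy
    haveI : IsDomain K := inferInstance
    have hsimp : IsSimpleOrder (Subalgebra F K) :=
      Subalgebra.isSimpleOrder_of_finrank_prime F K (by rw [hK.finrank_eq]; norm_num)
    set L := (Subalgebra.centralizer F ({m.val} : Set (Matrix (Fin 3) (Fin 3) F))).comap K.val with hL
    have hLy : yK ∈ L := by
      rw [hL, Subalgebra.mem_comap, Subalgebra.mem_centralizer_iff]
      rintro _ rfl
      exact congrArg Units.val hmy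
    have hLtop : L = ⊤ := (hsimp.eq_bot_or_eq_top L).resolve_left fun e => by
      obtain ⟨c, hc⟩ := Algebra.mem_bot.1 (e ▸ hLy)
      exact hyns (mem_scalars_of_smul (c := c) (by
        rw [← Algebra.algebraMap_eq_smul_one]
        exact (congrArg Subtype.val hc).symm))
    exact mem_of_comm_field (r := 3) (by norm_num) (Fintype.card_fin 3) hK fun a ha => by
      have h1 : (⟨a, ha⟩ : K) ∈ L := hLtop ▸ Algebra.mem_top
      rw [hL, Subalgebra.mem_comap, Subalgebra.mem_centralizer_iff] at h1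
      exact h1 _ rfl
  have hnorm : ∀ a ∈ H, a * y * a⁻¹ ∈ Subgroup.zpowers y := fun a ha => hroots _
    ((hle ha y.val).1 hyK) (by rw [conj_pow, hy7, mul_one, mul_inv_cancel])
  have hgS := hM hgM
  have hcard : (Nat.card (sunit 3 F q)).factorization 7 = 1 := by
    have h7 : 7 ∣ Nat.card (sunit 3 F q) := by
      have := orderOf_dvd_natCard (⟨y, hyS⟩ : sunit 3 F q)
      rwa [Subgroup.orderOf_mk, orderOf_eq_prime hy7 hy1] at this
    refine le_antisymm ?_ ((Nat.Prime.dvd_iff_one_le_factorization (by norm_num) Nat.card_pos.ne').1 h7)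
    by_contra hgt
    have h2 : 7 ^ 2 ∣ Nat.card (sunit 3 F q) :=
      (Nat.Prime.pow_dvd_iff_le_factorization (by norm_num) Nat.card_pos.ne').2 (by omega)
    exact h49 (h2.trans (Subgroup.card_dvd_of_le inf_le_left))
  let toSyl : ∀ z : GL (Fin 3) F, (hz : z ∈ sunit 3 F q) → z ^ 7 = 1 → z ≠ 1 → Sylow 7 (sunit 3 F q) :=
    fun z hz h7 h1 => Sylow.ofCard (Subgroup.zpowers ⟨z, hz⟩) (by
      rw [Nat.card_zpowers, Subgroup.orderOf_mk, orderOf_eq_prime h7 h1, hcard, pow_one])
  obtain ⟨a, ha⟩ := MulAction.exists_smul_eq (sunit 3 F q) (toSyl y hyS hy7 hy1) (toSyl g hgS hg7 hg1)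
  have haz : (a : GL (Fin 3) F) * y * (a : GL (Fin 3) F)⁻¹ ∈ Subgroup.zpowers g := by
    have h1 : MulAut.conj a ⟨y, hyS⟩ ∈ (toSyl g hgS hg7 hg1 : Subgroup (sunit 3 F q)) := by
      rw [← ha]
      exact Set.smul_mem_smul_set (a := MulAut.conj a) (Subgroup.mem_zpowers (⟨y, hyS⟩ : sunit 3 F q))
    obtain ⟨j, hj⟩ := h1
    exact ⟨j, by simpa using congrArg Subtype.val hj⟩
  set b : GL (Fin 3) F := (a : GL (Fin 3) F) with hb
  have hzp : Subgroup.zpowers g = (Subgroup.zpowers y).map (MulAut.conj b).toMonoidHom := by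
    refine (Subgroup.eq_of_le_of_card_ge ?_ ?_).symm
    · rw [MonoidHom.map_zpowers]
      exact Subgroup.zpowers_le.2 haz
    · rw [Subgroup.card_map_of_injective (MulAut.conj b).injective, Nat.card_zpowers, Nat.card_zpowers,
        orderOf_eq_prime hg7 hg1, orderOf_eq_prime hy7 hy1]
  have hmemy : ∀ z, z ∈ Subgroup.zpowers g ↔ b⁻¹ * z * b ∈ Subgroup.zpowers y := by
    intro z
    rw [hzp, Subgroup.mem_map_equiv, MulAut.conj_symm_apply]
  have hbS : b ∈ sunit 3 F q := a.2
  obtain ⟨j, hj⟩ := (hmemy g).1 (Subgroup.mem_zpowers g)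
  have hj' : g = b * y ^ j * b⁻¹ := by rw [show y ^ j = _ from hj]; group
  refine overgroup_false hH hM hu huM (b := b⁻¹) (inv_mem hbS.1) (fun a' ha' => ?_) htM fun htH => ?_
  · rw [inv_inv]
    have hn : b * a' * b⁻¹ ∈ sunit 3 F q := mul_mem (mul_mem hbS (hH.1.le ha')) (inv_mem hbS)
    have hng : b * a' * b⁻¹ * g * (b * a' * b⁻¹)⁻¹ ∈ Subgroup.zpowers g := by
      rw [hmemy]
      have : b⁻¹ * (b * a' * b⁻¹ * g * (b * a' * b⁻¹)⁻¹) * b = (a' * y * a'⁻¹) ^ j := by
        rw [hj', conj_zpow]; group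
      rw [this]
      exact zpow_mem (hnorm a' ha') j
    obtain ⟨m, hm, hmg⟩ := hnor _ hn hng
    have hc : (m⁻¹ * (b * a' * b⁻¹)) * g = g * (m⁻¹ * (b * a' * b⁻¹)) := by
      calc (m⁻¹ * (b * a' * b⁻¹)) * g = m⁻¹ * (b * a' * b⁻¹ * g * (b * a' * b⁻¹)⁻¹) * (b * a' * b⁻¹) := by group
        _ = g * (m⁻¹ * (b * a' * b⁻¹)) := by rw [← hmg]; group
    set c := m⁻¹ * (b * a' * b⁻¹) with hcdef
    have hcS : c ∈ sunit 3 F q := mul_mem (inv_mem (hM hm)) hn
    set c₀ := b⁻¹ * c * b with hc₀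
    have hc₀S : c₀ ∈ sunit 3 F q := mul_mem (mul_mem (inv_mem hbS) hcS) hbS
    have hc₀y : c₀ * y = y * c₀ := by
      obtain ⟨i, hi⟩ := haz
      have h1 : Commute c (g ^ i) := Commute.zpow_right hc i
      rw [show g ^ i = b * y * b⁻¹ from hi] at h1
      calc c₀ * y = b⁻¹ * (c * (b * y * b⁻¹)) * b := by rw [hc₀]; group
        _ = y * c₀ := by rw [h1.eq, hc₀]; group
    have hc₀K := hcent c₀ hc₀S hc₀y
    have h7' : b * c₀ ^ 7 * b⁻¹ ∈ M := by
      have hs : c₀ ^ 7 ∈ scalars (Fin 3) F := hsmall _ (pow_mem hc₀S 7)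
        (by rw [Units.val_pow_eq_pow_val]; exact pow_mem hc₀K 7)
        (by rw [← pow_mul]; exact hex _ hc₀S hc₀K)
      rw [scalars_comm hs, mul_inv_cancel_right]
      exact hMs _ (pow_mem hc₀S 7) hs
    have hk' : b * c₀ ^ k * b⁻¹ ∈ M := by
      refine Subgroup.zpowers_le.2 hgM ?_
      rw [hmemy, show b⁻¹ * (b * c₀ ^ k * b⁻¹) * b = c₀ ^ k by group]
      exact hroots _ (by rw [Units.val_pow_eq_pow_val]; exact pow_mem hc₀K k)
        (by rw [← pow_mul, mul_comm]; exact hex _ hc₀S hc₀K)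
    have hbz : (1 : ℤ) = (k : ℤ) * k.gcdA 7 + (7 : ℕ) * k.gcdB 7 := by
      rw [← Nat.gcd_eq_gcd_ab, hk]; rfl
    have hcM : c ∈ M := by
      have e : c = (b * c₀ ^ k * b⁻¹) ^ k.gcdA 7 * (b * c₀ ^ 7 * b⁻¹) ^ k.gcdB 7 := by
        rw [conj_zpow, conj_zpow, ← zpow_natCast c₀ k, ← zpow_natCast c₀ 7, ← zpow_mul, ← zpow_mul]
        calc c = b * c₀ ^ (1 : ℤ) * b⁻¹ := by rw [hc₀, zpow_one]; group
          _ = _ := by rw [hbz, zpow_add]; group
      rw [e]
      exact mul_mem (zpow_mem hk' _) (zpow_mem h7' _)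
    have := mul_mem hm hcM
    rwa [hcdef, mul_inv_cancel_left] at this
  · rw [inv_inv] at htH
    refine ht ((hmemy _).2 ?_)
    have : b⁻¹ * (t * g * t⁻¹) * b = ((b⁻¹ * t * b) * y * (b⁻¹ * t * b)⁻¹) ^ j := by
      rw [hj', conj_zpow]; group
    rw [this]
    exact zpow_mem (hnorm _ htH) j

end FieldCase

end Cfsg.Lib.Linear.Asch
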