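import Cfsg.Agent.Lib.Linear.Aschbacher.SUThreeTables

/-!
# Small overgroups in three-dimensional unitary groups over the fields with nine and twenty-five elements
-/

set_option autoImplicit false
set_option maxRecDepth 40000
set_option maxHeartbeats 16000000

namespace Cfsg.Lib.Linear.Asch.SUThreeTab

/-- An element of order seven. -/
def qThree_g : CMat := ![![2, 2, 4], ![2, 8, 1], ![5, 3, 6]]

/-- Its powers. -/
def qThree_gp : Fin 7 → CMat := ![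
  ![![1, 0, 0], ![0, 1, 0], ![0, 0, 1]],
  ![![2, 2, 4], ![2, 8, 1], ![5, 3, 6]],
  ![![0, 7, 5], ![7, 1, 1], ![8, 3, 3]],
  ![![8, 6, 2], ![6, 4, 6], ![6, 1, 7]],
  ![![5, 3, 3], ![3, 7, 1], ![2, 3, 4]],
  ![![0, 4, 5], ![4, 1, 6], ![8, 1, 6]],
  ![![2, 2, 8], ![2, 5, 6], ![7, 1, 3]]]

/-- An element normalising it. -/
def qThree_h : CMat := ![![2, 2, 7], ![1, 1, 7], ![4, 8, 0]]

/-- Its powers. -/
def qThree_hp : Fin 3 → CMat := ![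
  ![![1, 0, 0], ![0, 1, 0], ![0, 0, 1]],
  ![![2, 2, 7], ![1, 1, 7], ![4, 8, 0]],
  ![![2, 1, 7], ![2, 1, 5], ![4, 4, 0]]]

/-- An element outside the normaliser. -/
def qThree_t : CMat := ![![0, 0, 1], ![0, 2, 0], ![1, 0, 0]]

theorem qThree_gp_zero : qThree_gp 0 = oneC := by decide

theorem qThree_gp_one : qThree_gp 1 = qThree_g := by decide

theorem qThree_gp_step : ∀ i : Fin 7, mmC 3 (qThree_gp i) qThree_g = qThree_gp (i + 1) := by decide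

theorem qThree_g_ne : qThree_g ≠ oneC := by decide

theorem qThree_lt : ∀ i j k, qThree_gp i j k < 3 ^ 2 := by decide

theorem qThree_hp_zero : qThree_hp 0 = oneC := by decide

theorem qThree_hp_step : ∀ i : Fin 3, mmC 3 (qThree_hp i) qThree_h = qThree_hp (i + 1) := by decide

theorem qThree_conj_h : mmC 3 qThree_h qThree_g = mmC 3 (qThree_gp 2) qThree_h := by decide

theorem qThree_conj_t : ∀ i : Fin 7, mmC 3 qThree_t qThree_g ≠ mmC 3 (qThree_gp i) qThree_t := by decide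

theorem qThree_trace : ∀ i : Fin 7, trC 3 (qThree_gp i) = trC 3 qThree_g → i = 1 ∨ i = 2 ∨ i = 4 := by decide

theorem qThree_unit_g : isUC 3 qThree_g ∧ detC 3 qThree_g = 1 := by decide

theorem qThree_unit_h : isUC 3 qThree_h ∧ detC 3 qThree_h = 1 := by decide

theorem qThree_unit_t : isUC 3 qThree_t ∧ detC 3 qThree_t = 1 := by decide

/-- Representatives of an orbit of lines. -/
def qThree_reps : Fin 21 → CVec := ![
  ![0, 1, 0], ![1, 0, 1], ![1, 0, 2], ![1, 0, 3], ![1, 0, 6], ![1, 1, 4], ![1, 2, 4], ![1, 3, 8], ![1, 4, 1], ![1, 4, 6], ![1, 4, 7], ![1, 5, 2], ![1, 5, 3], ![1, 5, 5], ![1, 6, 8], ![1, 7, 2], ![1, 7, 3], ![1, 7, 5], ![1, 8, 1], ![1, 8, 6], ![1, 8, 7]]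

/-- Images of the lines. -/
def qThree_perm_g : Fin 21 → Fin 21 := ![9, 3, 19, 7, 17, 10, 8, 16, 14, 20, 2, 4, 18, 15, 1, 0, 6, 5, 13, 11, 12]

/-- Multipliers. -/
def qThree_mult_g : Fin 21 → ℕ := ![2, 3, 7, 4, 6, 7, 6, 2, 2, 5, 6, 5, 2, 7, 8, 2, 6, 5, 7, 1, 5]

theorem qThree_stable_g : ∀ i, mvC 3 qThree_g (qThree_reps i) = fun k => mulC 3 (qThree_mult_g i) (qThree_reps (qThree_perm_g i) k) := by decide

/-- Images of the lines. -/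
def qThree_perm_h : Fin 21 → Fin 21 := ![6, 17, 18, 10, 12, 0, 5, 19, 2, 14, 20, 9, 16, 1, 11, 7, 4, 13, 8, 15, 3]

/-- Multipliers. -/
def qThree_mult_h : Fin 21 → ℕ := ![2, 6, 4, 3, 7, 1, 2, 6, 5, 3, 1, 2, 1, 3, 3, 6, 8, 1, 1, 2, 6]

theorem qThree_stable_h : ∀ i, mvC 3 qThree_h (qThree_reps i) = fun k => mulC 3 (qThree_mult_h i) (qThree_reps (qThree_perm_h i) k) := by decide

/-- Images of the lines. -/
def qThree_perm_t : Fin 21 → Fin 21 := ![0, 1, 2, 4, 3, 17, 13, 20, 18, 16, 14, 11, 19, 6, 10, 15, 9, 5, 8, 12, 7]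

/-- Multipliers. -/
def qThree_mult_t : Fin 21 → ℕ := ![2, 1, 2, 3, 6, 4, 4, 8, 1, 6, 7, 2, 3, 5, 8, 2, 3, 5, 1, 6, 7]

theorem qThree_stable_t : ∀ i, mvC 3 qThree_t (qThree_reps i) = fun k => mulC 3 (qThree_mult_t i) (qThree_reps (qThree_perm_t i) k) := by decide

/-- An element moving the orbit. -/
def qThree_u : CMat := ![![4, 1, 3], ![2, 4, 2], ![3, 1, 4]]

theorem qThree_moved : ∀ i, ∀ c : Fin (3 ^ 2), mvC 3 qThree_u (qThree_reps 5) ≠ fun j => mulC 3 c (qThree_reps i j) := by decide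

/-- The moved line. -/
def qThree_k : Fin 21 := 5

theorem qThree_unit_u : isUC 3 qThree_u ∧ detC 3 qThree_u = 1 := by decide

/-- An element of order seven. -/
def qFive_g : CMat := ![![0, 5, 11], ![5, 9, 6], ![19, 24, 3]]

/-- Its powers. -/
def qFive_gp : Fin 7 → CMat := ![
  ![![1, 0, 0], ![0, 1, 0], ![0, 0, 1]],
  ![![0, 5, 11], ![5, 9, 6], ![19, 24, 3]],
  ![![8, 7, 10], ![7, 7, 23], ![15, 7, 22]],
  ![![4, 13, 6], ![13, 6, 4], ![24, 1, 17]],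
  ![![4, 18, 9], ![18, 21, 1], ![21, 4, 12]],
  ![![23, 22, 10], ![22, 22, 22], ![15, 8, 7]],
  ![![0, 20, 14], ![20, 24, 9], ![16, 21, 3]]]

/-- An element normalising it. -/
def qFive_h : CMat := ![![3, 2, 5], ![3, 2, 20], ![20, 20, 0]]

/-- Its powers. -/
def qFive_hp : Fin 3 → CMat := ![
  ![![1, 0, 0], ![0, 1, 0], ![0, 0, 1]],
  ![![3, 2, 5], ![3, 2, 20], ![20, 20, 0]],
  ![![3, 3, 5], ![2, 2, 5], ![20, 5, 0]]]

/-- An element outside the normaliser. -/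
def qFive_t : CMat := ![![0, 0, 1], ![0, 1, 0], ![4, 0, 0]]

theorem qFive_gp_zero : qFive_gp 0 = oneC := by decide

theorem qFive_gp_one : qFive_gp 1 = qFive_g := by decide

theorem qFive_gp_step : ∀ i : Fin 7, mmC 5 (qFive_gp i) qFive_g = qFive_gp (i + 1) := by decide

theorem qFive_g_ne : qFive_g ≠ oneC := by decide

theorem qFive_lt : ∀ i j k, qFive_gp i j k < 5 ^ 2 := by decide

theorem qFive_hp_zero : qFive_hp 0 = oneC := by decide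

theorem qFive_hp_step : ∀ i : Fin 3, mmC 5 (qFive_hp i) qFive_h = qFive_hp (i + 1) := by decide

theorem qFive_conj_h : mmC 5 qFive_h qFive_g = mmC 5 (qFive_gp 2) qFive_h := by decide

theorem qFive_conj_t : ∀ i : Fin 7, mmC 5 qFive_t qFive_g ≠ mmC 5 (qFive_gp i) qFive_t := by decide

theorem qFive_trace : ∀ i : Fin 7, trC 5 (qFive_gp i) = trC 5 qFive_g → i = 1 ∨ i = 2 ∨ i = 4 := by decide

theorem qFive_unit_g : isUC 5 qFive_g ∧ detC 5 qFive_g = 1 := by decide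

theorem qFive_unit_h : isUC 5 qFive_h ∧ detC 5 qFive_h = 1 := by decide

theorem qFive_unit_t : isUC 5 qFive_t ∧ detC 5 qFive_t = 1 := by decide

/-- A generator. -/
def qFive_dA : CMat := ![![13, 0, 0], ![0, 18, 0], ![0, 0, 1]]

theorem qFive_unit_dA : isUC 5 qFive_dA ∧ detC 5 qFive_dA = 1 := by decide

/-- A generator. -/
def qFive_dB : CMat := ![![1, 0, 0], ![0, 13, 0], ![0, 0, 18]]

theorem qFive_unit_dB : isUC 5 qFive_dB ∧ detC 5 qFive_dB = 1 := by decide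

/-- A generator. -/
def qFive_cy : CMat := ![![0, 0, 1], ![1, 0, 0], ![0, 1, 0]]

theorem qFive_unit_cy : isUC 5 qFive_cy ∧ detC 5 qFive_cy = 1 := by decide

/-- A generator. -/
def qFive_sw : CMat := ![![0, 4, 0], ![4, 0, 0], ![0, 0, 4]]

theorem qFive_unit_sw : isUC 5 qFive_sw ∧ detC 5 qFive_sw = 1 := by decide

/-- A generator. -/
def qFive_rot : CMat := ![![1, 0, 0], ![0, 0, 4], ![0, 1, 0]]

theorem qFive_unit_rot : isUC 5 qFive_rot ∧ detC 5 qFive_rot = 1 := by decide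

/-- A generator. -/
def qFive_ext : CMat := ![![1, 1, 2], ![1, 2, 1], ![2, 1, 1]]

theorem qFive_unit_ext : isUC 5 qFive_ext ∧ detC 5 qFive_ext = 1 := by decide

/-- The root of unity in the diagonal generators. -/
def zeta : ℕ := 13

/-- The permutation matrices with signs. -/
def qFive_perm_words : Fin 6 → List (Fin 2) := ![[], [0], [0, 0], [1], [0, 1], [0, 0, 1]]

/-- Representatives of an orbit of lines. -/
def qFive_reps : Fin 105 → CVec := ![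
  ![0, 0, 1], ![0, 1, 0], ![0, 1, 1], ![0, 1, 4], ![0, 1, 12], ![0, 1, 13], ![0, 1, 17], ![0, 1, 18], ![1, 0, 0], ![1, 0, 1], ![1, 0, 4], ![1, 0, 12], ![1, 0, 13], ![1, 0, 17], ![1, 0, 18], ![1, 1, 0], ![1, 1, 1], ![1, 1, 2], ![1, 1, 3], ![1, 1, 4], ![1, 1, 10], ![1, 1, 15], ![1, 2, 1], ![1, 2, 2], ![1, 2, 3], ![1, 2, 4], ![1, 3, 1], ![1, 3, 2], ![1, 3, 3], ![1, 3, 4], ![1, 4, 0], ![1, 4, 1], ![1, 4, 2], ![1, 4, 3], ![1, 4, 4], ![1, 4, 10], ![1, 4, 15], ![1, 5, 5], ![1, 5, 20], ![1, 6, 9], ![1, 6, 13], ![1, 6, 17], ![1, 6, 21], ![1, 7, 13], ![1, 7, 17], ![1, 8, 12], ![1, 8, 18], ![1, 9, 6], ![1, 9, 12], ![1, 9, 18], ![1, 9, 24], ![1, 10, 1], ![1, 10, 4], ![1, 11, 14], ![1, 11, 16], ![1, 12, 0], ![1, 12, 8], ![1, 12, 9], ![1, 12, 13], ![1, 12, 17], ![1, 12, 21], ![1, 12, 22], ![1, 13, 0], ![1, 13, 6], ![1, 13, 7], ![1, 13, 12], ![1, 13,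 18], ![1, 13, 23], ![1, 13, 24], ![1, 14, 11], ![1, 14, 19], ![1, 15, 1], ![1, 15, 4], ![1, 16, 11], ![1, 16, 19], ![1, 17, 0], ![1, 17, 6], ![1, 17, 7], ![1, 17, 12], ![1, 17, 18], ![1, 17, 23], ![1, 17, 24], ![1, 18, 0], ![1, 18, 8], ![1, 18, 9], ![1, 18, 13], ![1, 18, 17], ![1, 18, 21], ![1, 18, 22], ![1, 19, 14], ![1, 19, 16], ![1, 20, 5], ![1, 20, 20], ![1, 21, 6], ![1, 21, 12], ![1, 21, 18], ![1, 21, 24], ![1, 22, 12], ![1, 22, 18], ![1, 23, 13], ![1, 23, 17], ![1, 24, 9], ![1, 24, 13], ![1, 24, 17], ![1, 24, 21]]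

/-- Images of the lines. -/
def qFive_perm_g : Fin 105 → Fin 105 := ![90, 53, 93, 66, 8, 78, 50, 6, 5, 21, 44, 72, 24, 39, 83, 61, 49, 64, 40, 73, 71, 10, 67, 11, 23, 87, 29, 101, 75, 98, 51, 38, 33, 46, 68, 82, 56, 85, 48, 3, 86, 74, 79, 102, 26, 55, 52, 28, 97, 103, 62, 12, 20, 16, 95, 27, 84, 58, 4, 96, 37, 41, 35, 77, 13, 91, 94, 43, 22, 89, 0, 100, 30, 1, 54, 99, 57, 36, 76, 70, 15, 45, 104, 18, 69, 47, 2, 31, 25, 63, 59, 81, 34, 14, 17, 80, 42, 88, 9, 60, 32, 65, 92, 19, 7]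

/-- Multipliers. -/
def qFive_mult_g : Fin 105 → ℕ := ![11, 5, 16, 24, 10, 21, 19, 13, 5, 11, 19, 5, 16, 14, 20, 5, 16, 2, 13, 24, 18, 22, 21, 7, 18, 4, 1, 12, 23, 9, 20, 6, 17, 3, 14, 8, 12, 6, 23, 7, 23, 16, 14, 3, 21, 22, 12, 12, 2, 17, 7, 10, 18, 6, 7, 14, 21, 7, 9, 23, 16, 2, 19, 9, 15, 24, 14, 18, 4, 18, 8, 12, 15, 10, 12, 11, 1, 12, 16, 6, 10, 21, 16, 3, 14, 7, 6, 23, 9, 23, 24, 7, 24, 23, 13, 3, 18, 18, 8, 9, 2, 16, 14, 7, 8]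

theorem qFive_stable_g : ∀ i, mvC 5 qFive_g (qFive_reps i) = fun k => mulC 5 (qFive_mult_g i) (qFive_reps (qFive_perm_g i) k) := by decide

/-- Images of the lines. -/
def qFive_perm_h : Fin 105 → Fin 105 := ![30, 20, 87, 68, 98, 44, 53, 73, 21, 63, 84, 74, 54, 43, 97, 0, 33, 34, 31, 32, 35, 36, 85, 61, 80, 65, 77, 86, 66, 56, 15, 55, 62, 82, 75, 1, 8, 94, 101, 92, 48, 42, 51, 99, 89, 14, 7, 39, 91, 52, 49, 41, 50, 100, 90, 18, 78, 10, 26, 23, 3, 59, 19, 76, 22, 83, 67, 28, 60, 4, 11, 104, 95, 46, 70, 17, 9, 58, 29, 24, 79, 2, 16, 25, 57, 64, 88, 81, 27, 5, 12, 40, 47, 38, 102, 96, 72, 45, 69, 13, 6, 93, 37, 71, 103]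

/-- Multipliers. -/
def qFive_mult_h : Fin 105 → ℕ := ![5, 2, 7, 22, 11, 16, 13, 18, 3, 8, 23, 12, 17, 14, 19, 15, 5, 10, 15, 20, 4, 1, 7, 12, 17, 22, 9, 14, 19, 24, 1, 6, 11, 16, 21, 2, 2, 10, 11, 7, 4, 21, 18, 1, 23, 23, 23, 18, 20, 2, 9, 3, 18, 19, 1, 22, 14, 19, 11, 8, 19, 5, 24, 1, 6, 8, 10, 12, 17, 17, 17, 13, 3, 14, 1, 7, 14, 19, 16, 23, 20, 14, 9, 21, 1, 23, 15, 12, 17, 12, 12, 15, 16, 22, 4, 6, 13, 1, 8, 8, 8, 13, 5, 2, 24]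

theorem qFive_stable_h : ∀ i, mvC 5 qFive_h (qFive_reps i) = fun k => mulC 5 (qFive_mult_h i) (qFive_reps (qFive_perm_h i) k) := by decide

/-- Images of the lines. -/
def qFive_perm_t : Fin 105 → Fin 105 := ![8, 1, 15, 30, 75, 82, 55, 62, 0, 10, 9, 12, 11, 14, 13, 3, 19, 27, 24, 31, 91, 38, 25, 17, 33, 26, 29, 32, 18, 22, 2, 34, 23, 28, 16, 37, 92, 20, 36, 68, 48, 95, 76, 97, 46, 43, 100, 87, 102, 41, 57, 52, 71, 61, 83, 5, 54, 96, 65, 79, 47, 89, 4, 42, 74, 85, 59, 69, 101, 80, 64, 72, 51, 67, 77, 7, 104, 70, 58, 86, 73, 39, 6, 90, 50, 78, 66, 93, 53, 88, 56, 35, 21, 60, 40, 103, 84, 99, 44, 45, 98, 81, 94, 49, 63]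

/-- Multipliers. -/
def qFive_mult_t : Fin 105 → ℕ := ![1, 1, 1, 4, 12, 13, 17, 18, 4, 1, 4, 12, 13, 17, 18, 1, 1, 2, 3, 4, 10, 15, 1, 2, 3, 4, 1, 2, 3, 4, 4, 1, 2, 3, 4, 10, 15, 5, 20, 9, 13, 17, 21, 13, 17, 12, 18, 6, 12, 18, 24, 1, 4, 14, 16, 12, 8, 9, 13, 17, 21, 22, 13, 6, 7, 12, 18, 23, 24, 11, 19, 1, 4, 11, 19, 17, 6, 7, 12, 18, 23, 24, 18, 8, 9, 13, 17, 21, 22, 14, 16, 5, 20, 6, 12, 18, 24, 12, 18, 13, 17, 9, 13, 17, 21]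

theorem qFive_stable_t : ∀ i, mvC 5 qFive_t (qFive_reps i) = fun k => mulC 5 (qFive_mult_t i) (qFive_reps (qFive_perm_t i) k) := by decide

/-- Images of the lines. -/
def qFive_perm_dA : Fin 105 → Fin 105 := ![0, 1, 5, 6, 3, 4, 7, 2, 8, 14, 11, 12, 9, 10, 13, 75, 79, 76, 81, 78, 77, 80, 49, 47, 50, 48, 95, 93, 96, 94, 62, 66, 63, 68, 65, 64, 67, 54, 53, 28, 26, 29, 27, 71, 72, 43, 44, 101, 102, 103, 104, 98, 97, 70, 69, 15, 20, 18, 16, 19, 17, 21, 82, 84, 88, 85, 86, 83, 87, 38, 37, 46, 45, 92, 91, 55, 57, 61, 58, 59, 56, 60, 30, 35, 33, 31, 34, 32, 36, 74, 73, 90, 89, 39, 40, 41, 42, 99, 100, 51, 52, 24, 22, 25, 23]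

/-- Multipliers. -/
def qFive_mult_dA : Fin 105 → ℕ := ![1, 18, 18, 18, 18, 18, 18, 18, 13, 13, 13, 13, 13, 13, 13, 13, 13, 13, 13, 13, 13, 13, 13, 13, 13, 13, 13, 13, 13, 13, 13, 13, 13, 13, 13, 13, 13, 13, 13, 13, 13, 13, 13, 13, 13, 13, 13, 13, 13, 13, 13, 13, 13, 13, 13, 13, 13, 13, 13, 13, 13, 13, 13, 13, 13, 13, 13, 13, 13, 13, 13, 13, 13, 13, 13, 13, 13, 13, 13, 13, 13, 13, 13, 13, 13, 13, 13, 13, 13, 13, 13, 13, 13, 13, 13, 13, 13, 13, 13, 13, 13, 13, 13, 13, 13]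

theorem qFive_stable_dA : ∀ i, mvC 5 qFive_dA (qFive_reps i) = fun k => mulC 5 (qFive_mult_dA i) (qFive_reps (qFive_perm_dA i) k) := by decide

/-- Images of the lines. -/
def qFive_perm_dB : Fin 105 → Fin 105 := ![0, 1, 6, 5, 2, 7, 4, 3, 8, 14, 11, 12, 9, 10, 13, 62, 66, 63, 68, 65, 64, 67, 95, 93, 96, 94, 49, 47, 50, 48, 75, 79, 76, 81, 78, 77, 80, 90, 89, 24, 22, 25, 23, 51, 52, 99, 100, 39, 40, 41, 42, 46, 45, 74, 73, 30, 35, 33, 31, 34, 32, 36, 55, 57, 61, 58, 59, 56, 60, 92, 91, 98, 97, 38, 37, 82, 84, 88, 85, 86, 83, 87, 15, 20, 18, 16, 19, 17, 21, 70, 69, 54, 53, 101, 102, 103, 104, 43, 44, 71, 72, 28, 26, 29, 27]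

/-- Multipliers. -/
def qFive_mult_dB : Fin 105 → ℕ := ![18, 13, 13, 13, 13, 13, 13, 13, 1, 1, 1, 1, 1, 1, 1, 1, 1, 1, 1, 1, 1, 1, 1, 1, 1, 1, 1, 1, 1, 1, 1, 1, 1, 1, 1, 1, 1, 1, 1, 1, 1, 1, 1, 1, 1, 1, 1, 1, 1, 1, 1, 1, 1, 1, 1, 1, 1, 1, 1, 1, 1, 1, 1, 1, 1, 1, 1, 1, 1, 1, 1, 1, 1, 1, 1, 1, 1, 1, 1, 1, 1, 1, 1, 1, 1, 1, 1, 1, 1, 1, 1, 1, 1, 1, 1, 1, 1, 1, 1, 1, 1, 1, 1, 1, 1]

theorem qFive_stable_dB : ∀ i, mvC 5 qFive_dB (qFive_reps i) = fun k => mulC 5 (qFive_mult_dB i) (qFive_reps (qFive_perm_dB i) k) := by decide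

/-- Images of the lines. -/
def qFive_perm_cy : Fin 105 → Fin 105 := ![8, 0, 9, 10, 13, 14, 11, 12, 1, 15, 30, 75, 82, 55, 62, 2, 16, 28, 23, 34, 92, 37, 17, 26, 25, 33, 18, 29, 22, 32, 3, 19, 27, 24, 31, 91, 38, 71, 52, 40, 84, 60, 103, 88, 56, 77, 67, 49, 81, 63, 94, 20, 36, 45, 98, 4, 69, 42, 85, 59, 101, 74, 5, 47, 54, 79, 65, 89, 96, 44, 99, 21, 35, 43, 100, 6, 50, 53, 78, 66, 90, 93, 7, 70, 39, 86, 58, 104, 73, 46, 97, 72, 51, 48, 76, 68, 95, 80, 64, 83, 61, 41, 87, 57, 102]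

/-- Multipliers. -/
def qFive_mult_cy : Fin 105 → ℕ := ![1, 1, 1, 4, 12, 13, 17, 18, 1, 1, 4, 12, 13, 17, 18, 1, 1, 2, 3, 4, 10, 15, 1, 2, 3, 4, 1, 2, 3, 4, 1, 1, 2, 3, 4, 10, 15, 5, 20, 9, 13, 17, 21, 13, 17, 12, 18, 6, 12, 18, 24, 1, 4, 14, 16, 1, 8, 9, 13, 17, 21, 22, 1, 6, 7, 12, 18, 23, 24, 11, 19, 1, 4, 11, 19, 1, 6, 7, 12, 18, 23, 24, 1, 8, 9, 13, 17, 21, 22, 14, 16, 5, 20, 6, 12, 18, 24, 12, 18, 13, 17, 9, 13, 17, 21]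

theorem qFive_stable_cy : ∀ i, mvC 5 qFive_cy (qFive_reps i) = fun k => mulC 5 (qFive_mult_cy i) (qFive_reps (qFive_perm_cy i) k) := by decide

/-- Images of the lines. -/
def qFive_perm_sw : Fin 105 → Fin 105 := ![0, 8, 9, 10, 11, 12, 13, 14, 1, 2, 3, 4, 5, 6, 7, 15, 16, 17, 18, 19, 20, 21, 28, 26, 29, 27, 23, 25, 22, 24, 30, 34, 33, 32, 31, 36, 35, 71, 72, 49, 47, 50, 48, 54, 53, 69, 70, 40, 42, 39, 41, 92, 91, 44, 43, 75, 77, 81, 79, 78, 76, 80, 82, 84, 88, 85, 86, 83, 87, 45, 46, 37, 38, 98, 97, 55, 60, 56, 59, 58, 61, 57, 62, 67, 63, 65, 66, 68, 64, 99, 100, 52, 51, 103, 101, 104, 102, 74, 73, 89, 90, 94, 96, 93, 95]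

/-- Multipliers. -/
def qFive_mult_sw : Fin 105 → ℕ := ![4, 4, 4, 4, 4, 4, 4, 4, 4, 4, 4, 4, 4, 4, 4, 4, 4, 4, 4, 4, 4, 4, 3, 3, 3, 3, 2, 2, 2, 2, 1, 1, 1, 1, 1, 1, 1, 20, 20, 24, 24, 24, 24, 23, 23, 22, 22, 21, 21, 21, 21, 15, 15, 19, 19, 18, 18, 18, 18, 18, 18, 18, 17, 17, 17, 17, 17, 17, 17, 16, 16, 10, 10, 14, 14, 13, 13, 13, 13, 13, 13, 13, 12, 12, 12, 12, 12, 12, 12, 11, 11, 5, 5, 9, 9, 9, 9, 8, 8, 7, 7, 6, 6, 6, 6]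

theorem qFive_stable_sw : ∀ i, mvC 5 qFive_sw (qFive_reps i) = fun k => mulC 5 (qFive_mult_sw i) (qFive_reps (qFive_perm_sw i) k) := by decide

/-- Images of the lines. -/
def qFive_perm_rot : Fin 105 → Fin 105 := ![1, 0, 3, 2, 5, 4, 7, 6, 8, 30, 15, 82, 75, 62, 55, 9, 31, 26, 22, 16, 71, 51, 32, 27, 23, 17, 33, 28, 24, 18, 10, 34, 29, 25, 19, 72, 52, 91, 37, 93, 76, 63, 47, 77, 64, 83, 56, 101, 84, 57, 39, 35, 20, 73, 69, 11, 97, 94, 78, 65, 48, 45, 12, 102, 99, 85, 58, 43, 40, 89, 53, 36, 21, 90, 54, 13, 103, 100, 86, 59, 44, 41, 14, 98, 95, 79, 66, 49, 46, 74, 70, 92, 38, 104, 87, 60, 42, 88, 61, 80, 67, 96, 81, 68, 50]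

/-- Multipliers. -/
def qFive_mult_rot : Fin 105 → ℕ := ![4, 1, 4, 1, 18, 17, 13, 12, 1, 1, 1, 1, 1, 1, 1, 1, 1, 1, 1, 1, 1, 1, 1, 1, 1, 1, 1, 1, 1, 1, 1, 1, 1, 1, 1, 1, 1, 1, 1, 1, 1, 1, 1, 1, 1, 1, 1, 1, 1, 1, 1, 1, 1, 1, 1, 1, 1, 1, 1, 1, 1, 1, 1, 1, 1, 1, 1, 1, 1, 1, 1, 1, 1, 1, 1, 1, 1, 1, 1, 1, 1, 1, 1, 1, 1, 1, 1, 1, 1, 1, 1, 1, 1, 1, 1, 1, 1, 1, 1, 1, 1, 1, 1, 1, 1]

theorem qFive_stable_rot : ∀ i, mvC 5 qFive_rot (qFive_reps i) = fun k => mulC 5 (qFive_mult_rot i) (qFive_reps (qFive_perm_rot i) k) := by decide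

/-- Images of the lines. -/
def qFive_perm_ext : Fin 105 → Fin 105 := ![28, 22, 19, 30, 83, 60, 67, 76, 17, 31, 10, 46, 94, 99, 41, 34, 16, 8, 23, 2, 37, 92, 1, 18, 24, 33, 26, 29, 0, 27, 3, 9, 32, 25, 15, 85, 66, 20, 79, 53, 77, 14, 57, 43, 47, 84, 11, 44, 48, 69, 82, 71, 65, 39, 64, 70, 63, 42, 91, 78, 5, 95, 101, 56, 54, 52, 36, 6, 100, 49, 55, 51, 86, 88, 96, 89, 7, 40, 59, 38, 87, 93, 50, 4, 45, 35, 72, 80, 73, 75, 102, 58, 21, 81, 12, 61, 74, 104, 98, 13, 68, 62, 90, 103, 97]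

/-- Multipliers. -/
def qFive_mult_ext : Fin 105 → ℕ := ![2, 1, 3, 4, 20, 22, 5, 7, 1, 3, 4, 20, 22, 5, 7, 2, 4, 1, 3, 2, 22, 7, 1, 2, 4, 1, 1, 3, 3, 2, 4, 2, 4, 1, 3, 20, 5, 16, 21, 15, 3, 11, 24, 4, 12, 3, 10, 17, 4, 11, 23, 13, 14, 5, 19, 13, 24, 21, 9, 17, 16, 2, 14, 21, 23, 8, 15, 15, 2, 7, 18, 18, 19, 14, 20, 18, 11, 2, 12, 24, 9, 6, 19, 10, 2, 10, 23, 6, 8, 13, 22, 6, 11, 9, 16, 3, 10, 17, 4, 15, 3, 8, 16, 4, 12]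

theorem qFive_stable_ext : ∀ i, mvC 5 qFive_ext (qFive_reps i) = fun k => mulC 5 (qFive_mult_ext i) (qFive_reps (qFive_perm_ext i) k) := by decide

/-- An element moving the orbit. -/
def qFive_u : CMat := ![![6, 2, 16], ![3, 16, 24], ![19, 21, 6]]

theorem qFive_moved : ∀ i, ∀ c : Fin (5 ^ 2), mvC 5 qFive_u (qFive_reps 2) ≠ fun j => mulC 5 c (qFive_reps i j) := by decide

/-- The moved line. -/
def qFive_k : Fin 105 := 2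

theorem qFive_unit_u : isUC 5 qFive_u ∧ detC 5 qFive_u = 1 := by decide

theorem qFive_g_not_monomial : ∀ i, ∀ c : Fin (5 ^ 2), mvC 5 qFive_g ![1, 0, 0] ≠ fun k => if k = i then (c : ℕ) else 0 := by decide

theorem qFive_g_not_real : ∀ c : Fin (5 ^ 2), ∃ i j, ¬ mulC 5 c (qFive_g i j) < 5 ∨ (c : ℕ) = 0 := by decide

/-- Words sending the first basis vector to a given norm-one vector. -/
def soWord : Fin 125 → List (Fin 3) := ![[], [], [], [], [0, 0, 1, 0, 0], [0], [], [], [], [], [], [], [], [], [], [], [], [], [], [], [1, 0, 0], [], [], [], [], [0, 0], [], [], [], [], [], [], [0, 2], [0, 0, 1, 2], [], [], [2, 0], [], [], [0, 0, 1, 2, 0], [], [1, 2], [], [], [0, 2, 1, 0, 2], [], [], [1, 0, 2], [0, 2, 1, 2, 0], [], [], [], [], [], [], [], [2], [], [], [0, 0, 1, 0, 2], [], [], [], [], [], [], [], [], [], [], [], [1, 2, 0], [], [], [2, 1,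 1, 0, 2], [], [], [], [], [], [], [0, 1, 2], [], [], [2, 1, 2, 0], [], [], [], [], [], [], [], [], [], [], [], [1, 1, 2], [], [], [0, 2, 1, 0, 0], [0, 1, 0, 0], [], [], [], [], [], [], [0, 1, 2, 0], [2, 1, 0, 2], [], [], [0, 1, 0, 2], [], [], [0, 1, 1, 0, 2], [], [1, 1, 2, 0], [], [], [2, 1, 0, 0], [], [], [1, 1, 0, 2], [2, 0, 1, 0, 0], []]

end Cfsg.Lib.Linear.Asch.SUThreeTab
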