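import Cfsg.Agent.Lib.Linear.Aschbacher.SUThreeTables

/-!
# Small overgroups in three-dimensional unitary groups over the fields with nine and twenty-five elements
-/

set_option autoImplicit false
set_option maxRecDepth 40000
set_option maxHeartbeats 16000000

namespace Cfsg.Lib.Linear.Asch.SUThreeTab

/-- The scalar cube root of unity. -/
def omega5 : ℕ := 12

/-- The diagonal generator. -/
def qExtra_x : CMat := ![![1, 0, 0], ![0, 12, 0], ![0, 0, 17]]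

/-- The cyclic generator. -/
def qExtra_y : CMat := ![![0, 0, 1], ![1, 0, 0], ![0, 1, 0]]

/-- The central generator. -/
def qExtra_z : CMat := ![![17, 0, 0], ![0, 17, 0], ![0, 0, 17]]

theorem qExtra_unit_x : isUC 5 qExtra_x ∧ detC 5 qExtra_x = 1 := by decide

theorem qExtra_unit_y : isUC 5 qExtra_y ∧ detC 5 qExtra_y = 1 := by decide

theorem qExtra_unit_z : isUC 5 qExtra_z ∧ detC 5 qExtra_z = 1 := by decide

/-- The elements of the extraspecial group. -/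
def qExtra_el : Fin 3 → Fin 3 → Fin 3 → CMat := ![
  ![
    ![![![1, 0, 0], ![0, 1, 0], ![0, 0, 1]], ![![17, 0, 0], ![0, 17, 0], ![0, 0, 17]], ![![12, 0, 0], ![0, 12, 0], ![0, 0, 12]]],
    ![![![0, 0, 1], ![1, 0, 0], ![0, 1, 0]], ![![0, 0, 17], ![17, 0, 0], ![0, 17, 0]], ![![0, 0, 12], ![12, 0, 0], ![0, 12, 0]]],
    ![![![0, 1, 0], ![0, 0, 1], ![1, 0, 0]], ![![0, 17, 0], ![0, 0, 17], ![17, 0, 0]], ![![0, 12, 0], ![0, 0, 12], ![12, 0, 0]]]],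
  ![
    ![![![1, 0, 0], ![0, 12, 0], ![0, 0, 17]], ![![17, 0, 0], ![0, 1, 0], ![0, 0, 12]], ![![12, 0, 0], ![0, 17, 0], ![0, 0, 1]]],
    ![![![0, 0, 1], ![12, 0, 0], ![0, 17, 0]], ![![0, 0, 17], ![1, 0, 0], ![0, 12, 0]], ![![0, 0, 12], ![17, 0, 0], ![0, 1, 0]]],
    ![![![0, 1, 0], ![0, 0, 12], ![17, 0, 0]], ![![0, 17, 0], ![0, 0, 1], ![12, 0, 0]], ![![0, 12, 0], ![0, 0, 17], ![1, 0, 0]]]],
  ![
    ![![![1, 0, 0], ![0, 17, 0], ![0, 0, 12]], ![![17, 0, 0], ![0, 12, 0], ![0, 0, 1]], ![![12, 0, 0], ![0, 1, 0], ![0, 0, 17]]],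
    ![![![0, 0, 1], ![17, 0, 0], ![0, 12, 0]], ![![0, 0, 17], ![12, 0, 0], ![0, 1, 0]], ![![0, 0, 12], ![1, 0, 0], ![0, 17, 0]]],
    ![![![0, 1, 0], ![0, 0, 17], ![12, 0, 0]], ![![0, 17, 0], ![0, 0, 12], ![1, 0, 0]], ![![0, 12, 0], ![0, 0, 1], ![17, 0, 0]]]]]

theorem qExtra_el_zero : qExtra_el 0 0 0 = oneC := by decide

theorem qExtra_el_x : ∀ a b c, mmC 5 qExtra_x (qExtra_el a b c) = qExtra_el (a + 1) b c := by decide

theorem qExtra_el_y : ∀ a b c, mmC 5 qExtra_y (qExtra_el a b c) = qExtra_el a (b + 1) (c + a) := by decide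

theorem qExtra_el_z : ∀ a b c, mmC 5 qExtra_z (qExtra_el a b c) = qExtra_el a b (c + 1) := by decide

theorem qExtra_el_mul : ∀ a b c a' b' c', mmC 5 (qExtra_el a b c) (qExtra_el a' b' c') = qExtra_el (a + a') (b + b') (c + c' + b * a') := by decide

theorem qExtra_el_lt : ∀ a b c i j, qExtra_el a b c i j < 5 ^ 2 := by decide

theorem qExtra_el_inj : ∀ a b c, qExtra_el a b c = oneC → a = 0 ∧ b = 0 ∧ c = 0 := by decide

/-- Witnesses for the induced automorphisms. -/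
def qExtra_wit : Fin 24 → CMat := ![
  ![![7, 7, 7], ![7, 15, 8], ![7, 8, 15]],
  ![![7, 7, 8], ![7, 15, 15], ![7, 8, 7]],
  ![![7, 7, 15], ![7, 15, 7], ![7, 8, 8]],
  ![![10, 10, 10], ![10, 23, 22], ![10, 22, 23]],
  ![![10, 10, 22], ![10, 23, 23], ![10, 22, 10]],
  ![![10, 10, 23], ![10, 23, 10], ![10, 22, 22]],
  ![![0, 0, 1], ![1, 0, 0], ![0, 1, 0]],
  ![![0, 0, 1], ![1, 0, 0], ![0, 12, 0]],
  ![![0, 0, 1], ![1, 0, 0], ![0, 17, 0]],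
  ![![7, 7, 8], ![7, 15, 15], ![8, 15, 8]],
  ![![7, 7, 15], ![7, 15, 7], ![8, 15, 15]],
  ![![7, 7, 7], ![7, 15, 8], ![8, 15, 7]],
  ![![10, 10, 22], ![10, 23, 23], ![22, 23, 22]],
  ![![10, 10, 10], ![10, 23, 22], ![22, 23, 10]],
  ![![10, 10, 23], ![10, 23, 10], ![22, 23, 23]],
  ![![0, 0, 4], ![0, 4, 0], ![4, 0, 0]],
  ![![0, 0, 4], ![0, 4, 0], ![13, 0, 0]],
  ![![0, 0, 4], ![0, 4, 0], ![18, 0, 0]],
  ![![7, 7, 15], ![7, 15, 7], ![15, 7, 7]],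
  ![![7, 7, 8], ![7, 15, 15], ![15, 7, 15]],
  ![![7, 7, 7], ![7, 15, 8], ![15, 7, 8]],
  ![![10, 10, 23], ![10, 23, 10], ![23, 10, 10]],
  ![![10, 10, 10], ![10, 23, 22], ![23, 10, 22]],
  ![![10, 10, 22], ![10, 23, 23], ![23, 10, 23]]]

/-- Images of the first generator. -/
def qExtra_imX : Fin 24 → Fin 3 × Fin 3 × Fin 3 := ![(0, 1, 0), (0, 1, 0), (0, 1, 0), (0, 2, 0), (0, 2, 0), (0, 2, 0), (1, 0, 1), (1, 0, 1), (1, 0, 1), (1, 1, 1), (1, 1, 1), (1, 1, 1), (1, 2, 0), (1, 2, 0), (1, 2, 0), (2, 0, 1), (2, 0, 1), (2, 0, 1), (2, 1, 2), (2, 1, 2), (2, 1, 2), (2, 2, 0), (2, 2, 0), (2, 2, 0)]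

/-- Images of the second generator. -/
def qExtra_imY : Fin 24 → Fin 3 × Fin 3 × Fin 3 := ![(2, 0, 0), (2, 1, 0), (2, 2, 0), (1, 0, 0), (1, 1, 0), (1, 2, 0), (0, 1, 0), (1, 1, 1), (2, 1, 2), (0, 1, 1), (1, 2, 0), (2, 0, 0), (0, 1, 2), (1, 0, 0), (2, 2, 0), (0, 2, 0), (1, 2, 0), (2, 2, 0), (0, 2, 0), (1, 1, 2), (2, 0, 0), (0, 2, 0), (1, 0, 0), (2, 1, 1)]

/-- The witnesses of determinant one. -/
def qExtra_good : Fin 8 → Fin 24 := ![0, 3, 6, 10, 14, 15, 19, 23]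

/-- The index of an automorphism. -/
def qExtra_idx : Fin 3 → Fin 3 → Fin 3 → Fin 3 → Fin 24 := fun a b c d => (![0, 0, 0, 0, 0, 0, 0, 0, 0, 0, 0, 0, 0, 0, 0, 0, 1, 2, 0, 0, 0, 3, 4, 5, 0, 0, 0, 0, 6, 0, 0, 7, 0, 0, 8, 0, 0, 9, 0, 0, 0, 10, 11, 0, 0, 0, 12, 0, 13, 0, 0, 0, 0, 14, 0, 0, 15, 0, 0, 16, 0, 0, 17, 0, 0, 18, 0, 19, 0, 20, 0, 0, 0, 0, 21, 22, 0, 0, 0, 23, 0] : Fin 81 → Fin 24) ⟨27 * a.val + 9 * b.val + 3 * c.val + d.val, by omega⟩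

theorem qExtra_unit_wit : ∀ A, isUC 5 (qExtra_wit A) := by decide

theorem qExtra_conj_x : ∀ A, mmC 5 (qExtra_wit A) qExtra_x = mmC 5 (qExtra_el (qExtra_imX A).1 (qExtra_imX A).2.1 (qExtra_imX A).2.2) (qExtra_wit A) := by decide

theorem qExtra_conj_y : ∀ A, mmC 5 (qExtra_wit A) qExtra_y = mmC 5 (qExtra_el (qExtra_imY A).1 (qExtra_imY A).2.1 (qExtra_imY A).2.2) (qExtra_wit A) := by decide

theorem qExtra_det : ∀ A, (∃ k, qExtra_good k = A ∧ detC 5 (qExtra_wit A) = 1) ∨ (detC 5 (qExtra_wit A) ≠ 1 ∧ detC 5 (qExtra_wit A) ≠ 4) := by decide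

theorem qExtra_det_lt : ∀ A, detC 5 (qExtra_wit A) < 5 ^ 2 := by decide

theorem qExtra_cover : ∀ a b a' b' : Fin 3, a * b' - b * a' = 1 → ∀ c c' : Fin 3, ∃ k l : Fin 3, ((qExtra_imX (qExtra_idx a b a' b')).1 = a ∧ (qExtra_imX (qExtra_idx a b a' b')).2.1 = b ∧ (qExtra_imX (qExtra_idx a b a' b')).2.2 + l * a - k * b = c) ∧ ((qExtra_imY (qExtra_idx a b a' b')).1 = a' ∧ (qExtra_imY (qExtra_idx a b a' b')).2.1 = b' ∧ (qExtra_imY (qExtra_idx a b a' b')).2.2 + l * a' - k * b' = c') := by decide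

/-- A witness of determinant one. -/
def qExtra_w0 : CMat := ![![7, 7, 7], ![7, 15, 8], ![7, 8, 15]]

/-- A witness of determinant one. -/
def qExtra_w1 : CMat := ![![10, 10, 10], ![10, 23, 22], ![10, 22, 23]]

/-- A witness of determinant one. -/
def qExtra_w2 : CMat := ![![0, 0, 1], ![1, 0, 0], ![0, 1, 0]]

/-- A witness of determinant one. -/
def qExtra_w3 : CMat := ![![7, 7, 15], ![7, 15, 7], ![8, 15, 15]]

/-- A witness of determinant one. -/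
def qExtra_w4 : CMat := ![![10, 10, 23], ![10, 23, 10], ![22, 23, 23]]

/-- A witness of determinant one. -/
def qExtra_w5 : CMat := ![![0, 0, 4], ![0, 4, 0], ![4, 0, 0]]

/-- A witness of determinant one. -/
def qExtra_w6 : CMat := ![![7, 7, 8], ![7, 15, 15], ![15, 7, 15]]

/-- A witness of determinant one. -/
def qExtra_w7 : CMat := ![![10, 10, 22], ![10, 23, 23], ![23, 10, 23]]

theorem qExtra_wit_good : ∀ k, qExtra_wit (qExtra_good k) = (![qExtra_w0, qExtra_w1, qExtra_w2, qExtra_w3, qExtra_w4, qExtra_w5, qExtra_w6, qExtra_w7] : Fin 8 → CMat) k := by decide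

/-- An element outside the normaliser. -/
def qExtra_t : CMat := ![![0, 5, 5], ![16, 24, 6], ![19, 21, 9]]

theorem qExtra_unit_t : isUC 5 qExtra_t ∧ detC 5 qExtra_t = 1 := by decide

theorem qExtra_conj_t : ∀ a b c, mmC 5 qExtra_t qExtra_x ≠ mmC 5 (qExtra_el a b c) qExtra_t := by decide

/-- Representatives of an orbit of lines. -/
def qExtra_reps : Fin 36 → CVec := ![
  ![1, 1, 5], ![1, 1, 14], ![1, 1, 19], ![1, 1, 20], ![1, 5, 1], ![1, 5, 12], ![1, 7, 8], ![1, 7, 15], ![1, 8, 7], ![1, 8, 8], ![1, 10, 10], ![1, 10, 22], ![1, 11, 12], ![1, 11, 17], ![1, 12, 5], ![1, 12, 11], ![1, 12, 16], ![1, 12, 19], ![1, 14, 1], ![1, 14, 17], ![1, 15, 7], ![1, 15, 15], ![1, 16, 12], ![1, 16, 17], ![1, 17, 11], ![1, 17, 14], ![1, 17, 16], ![1, 17, 20], ![1, 19, 1], ![1, 19, 12], ![1, 20, 1], ![1, 20, 17], ![1, 22, 10], ![1, 22, 23], ![1, 23, 22], ![1, 23, 23]]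

/-- Images of the lines. -/
def qExtra_perm_x : Fin 36 → Fin 36 := ![15, 14, 16, 17, 19, 18, 8, 9, 21, 20, 34, 35, 4, 5, 24, 25, 27, 26, 13, 12, 7, 6, 28, 29, 1, 0, 3, 2, 31, 30, 23, 22, 11, 10, 33, 32]

/-- Multipliers. -/
def qExtra_mult_x : Fin 36 → ℕ := ![1, 1, 1, 1, 1, 1, 1, 1, 1, 1, 1, 1, 1, 1, 1, 1, 1, 1, 1, 1, 1, 1, 1, 1, 1, 1, 1, 1, 1, 1, 1, 1, 1, 1, 1, 1]

theorem qExtra_stable_x : ∀ i, mvC 5 qExtra_x (qExtra_reps i) = fun k => mulC 5 (qExtra_mult_x i) (qExtra_reps (qExtra_perm_x i) k) := by decide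

/-- Images of the lines. -/
def qExtra_perm_y : Fin 36 → Fin 36 := ![21, 9, 35, 10, 0, 24, 19, 5, 12, 18, 30, 22, 25, 14, 20, 6, 32, 34, 1, 15, 13, 4, 27, 17, 7, 8, 33, 11, 2, 26, 3, 16, 31, 29, 23, 28]

/-- Multipliers. -/
def qExtra_mult_y : Fin 36 → ℕ := ![5, 14, 19, 20, 1, 12, 8, 15, 7, 8, 10, 22, 12, 17, 5, 11, 16, 19, 1, 17, 7, 15, 12, 17, 11, 14, 16, 20, 1, 12, 1, 17, 10, 23, 22, 23]

theorem qExtra_stable_y : ∀ i, mvC 5 qExtra_y (qExtra_reps i) = fun k => mulC 5 (qExtra_mult_y i) (qExtra_reps (qExtra_perm_y i) k) := by decide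

/-- Images of the lines. -/
def qExtra_perm_z : Fin 36 → Fin 36 := ![0, 1, 2, 3, 4, 5, 6, 7, 8, 9, 10, 11, 12, 13, 14, 15, 16, 17, 18, 19, 20, 21, 22, 23, 24, 25, 26, 27, 28, 29, 30, 31, 32, 33, 34, 35]

/-- Multipliers. -/
def qExtra_mult_z : Fin 36 → ℕ := ![17, 17, 17, 17, 17, 17, 17, 17, 17, 17, 17, 17, 17, 17, 17, 17, 17, 17, 17, 17, 17, 17, 17, 17, 17, 17, 17, 17, 17, 17, 17, 17, 17, 17, 17, 17]

theorem qExtra_stable_z : ∀ i, mvC 5 qExtra_z (qExtra_reps i) = fun k => mulC 5 (qExtra_mult_z i) (qExtra_reps (qExtra_perm_z i) k) := by decide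

/-- Images of the lines. -/
def qExtra_perm_w0 : Fin 36 → Fin 36 := ![32, 34, 6, 20, 11, 26, 28, 3, 2, 10, 9, 0, 27, 29, 23, 31, 19, 13, 33, 22, 30, 35, 25, 5, 17, 16, 14, 15, 8, 24, 7, 12, 4, 1, 18, 21]

/-- Multipliers. -/
def qExtra_mult_w0 : Fin 36 → ℕ := ![21, 1, 13, 2, 21, 22, 1, 9, 1, 8, 20, 3, 11, 23, 22, 11, 23, 14, 1, 14, 9, 19, 23, 5, 23, 14, 5, 10, 13, 14, 2, 10, 3, 13, 13, 15]

theorem qExtra_stable_w0 : ∀ i, mvC 5 qExtra_w0 (qExtra_reps i) = fun k => mulC 5 (qExtra_mult_w0 i) (qExtra_reps (qExtra_perm_w0 i) k) := by decide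

/-- Images of the lines. -/
def qExtra_perm_w1 : Fin 36 → Fin 36 := ![11, 33, 8, 7, 32, 23, 2, 30, 28, 10, 9, 4, 31, 17, 26, 27, 25, 24, 34, 16, 3, 35, 19, 14, 29, 22, 5, 12, 6, 13, 20, 15, 0, 18, 1, 21]

/-- Multipliers. -/
def qExtra_mult_w1 : Fin 36 → ℕ := ![24, 13, 12, 21, 24, 7, 13, 6, 13, 23, 11, 9, 16, 15, 7, 16, 15, 20, 13, 20, 6, 14, 15, 19, 15, 20, 19, 8, 12, 20, 21, 8, 9, 12, 12, 22]

theorem qExtra_stable_w1 : ∀ i, mvC 5 qExtra_w1 (qExtra_reps i) = fun k => mulC 5 (qExtra_mult_w1 i) (qExtra_reps (qExtra_perm_w1 i) k) := by decide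

/-- Images of the lines. -/
def qExtra_perm_w2 : Fin 36 → Fin 36 := ![21, 9, 35, 10, 0, 24, 19, 5, 12, 18, 30, 22, 25, 14, 20, 6, 32, 34, 1, 15, 13, 4, 27, 17, 7, 8, 33, 11, 2, 26, 3, 16, 31, 29, 23, 28]

/-- Multipliers. -/
def qExtra_mult_w2 : Fin 36 → ℕ := ![5, 14, 19, 20, 1, 12, 8, 15, 7, 8, 10, 22, 12, 17, 5, 11, 16, 19, 1, 17, 7, 15, 12, 17, 11, 14, 16, 20, 1, 12, 1, 17, 10, 23, 22, 23]

theorem qExtra_stable_w2 : ∀ i, mvC 5 qExtra_w2 (qExtra_reps i) = fun k => mulC 5 (qExtra_mult_w2 i) (qExtra_reps (qExtra_perm_w2 i) k) := by decide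

/-- Images of the lines. -/
def qExtra_perm_w3 : Fin 36 → Fin 36 := ![8, 33, 11, 7, 19, 10, 6, 29, 12, 3, 1, 22, 21, 26, 30, 4, 28, 18, 23, 25, 34, 0, 35, 24, 17, 15, 14, 16, 31, 9, 13, 27, 32, 5, 20, 2]

/-- Multipliers. -/
def qExtra_mult_w3 : Fin 36 → ℕ := ![10, 21, 22, 13, 9, 21, 24, 1, 11, 1, 3, 5, 10, 11, 11, 2, 3, 23, 14, 2, 19, 11, 22, 23, 14, 9, 10, 21, 21, 13, 10, 3, 6, 3, 15, 5]

theorem qExtra_stable_w3 : ∀ i, mvC 5 qExtra_w3 (qExtra_reps i) = fun k => mulC 5 (qExtra_mult_w3 i) (qExtra_reps (qExtra_perm_w3 i) k) := by decide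

/-- Images of the lines. -/
def qExtra_perm_w4 : Fin 36 → Fin 36 := ![32, 20, 6, 34, 22, 14, 31, 7, 11, 1, 3, 8, 16, 9, 24, 27, 25, 26, 5, 35, 13, 2, 15, 10, 18, 28, 30, 4, 12, 17, 29, 21, 19, 33, 23, 0]

/-- Multipliers. -/
def qExtra_mult_w4 : Fin 36 → ℕ := ![13, 8, 21, 7, 7, 6, 6, 3, 23, 16, 19, 11, 15, 8, 21, 7, 20, 9, 21, 13, 16, 6, 19, 7, 6, 15, 24, 19, 20, 24, 9, 21, 12, 2, 19, 12]

theorem qExtra_stable_w4 : ∀ i, mvC 5 qExtra_w4 (qExtra_reps i) = fun k => mulC 5 (qExtra_mult_w4 i) (qExtra_reps (qExtra_perm_w4 i) k) := by decide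

/-- Images of the lines. -/
def qExtra_perm_w5 : Fin 36 → Fin 36 := ![21, 9, 35, 10, 4, 13, 25, 14, 15, 1, 3, 16, 19, 5, 7, 8, 11, 33, 18, 12, 24, 0, 31, 29, 20, 6, 34, 32, 28, 23, 30, 22, 27, 17, 26, 2]

/-- Multipliers. -/
def qExtra_mult_w5 : Fin 36 → ℕ := ![20, 16, 11, 5, 4, 18, 22, 10, 23, 22, 15, 8, 18, 13, 20, 19, 14, 11, 4, 13, 23, 10, 18, 13, 19, 16, 14, 5, 4, 18, 4, 13, 15, 7, 8, 7]

theorem qExtra_stable_w5 : ∀ i, mvC 5 qExtra_w5 (qExtra_reps i) = fun k => mulC 5 (qExtra_mult_w5 i) (qExtra_reps (qExtra_perm_w5 i) k) := by decide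

/-- Images of the lines. -/
def qExtra_perm_w6 : Fin 36 → Fin 36 := ![35, 9, 21, 10, 27, 18, 2, 7, 11, 13, 23, 8, 28, 20, 5, 22, 12, 29, 24, 32, 1, 31, 4, 34, 14, 16, 17, 15, 25, 30, 26, 6, 0, 33, 3, 19]

/-- Multipliers. -/
def qExtra_mult_w6 : Fin 36 → ℕ := ![1, 10, 2, 22, 22, 9, 9, 24, 8, 11, 5, 20, 23, 10, 2, 22, 14, 3, 2, 1, 11, 9, 5, 22, 9, 23, 21, 5, 14, 21, 3, 2, 13, 6, 5, 13]

theorem qExtra_stable_w6 : ∀ i, mvC 5 qExtra_w6 (qExtra_reps i) = fun k => mulC 5 (qExtra_mult_w6 i) (qExtra_reps (qExtra_perm_w6 i) k) := by decide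

/-- Images of the lines. -/
def qExtra_perm_w7 : Fin 36 → Fin 36 := ![21, 10, 35, 9, 15, 33, 6, 3, 0, 29, 5, 2, 8, 30, 26, 25, 27, 24, 17, 4, 34, 12, 11, 18, 23, 19, 13, 31, 16, 7, 14, 28, 32, 1, 20, 22]

/-- Multipliers. -/
def qExtra_mult_w7 : Fin 36 → ℕ := ![8, 24, 7, 12, 6, 24, 3, 13, 16, 13, 9, 19, 8, 16, 16, 21, 9, 15, 20, 21, 14, 16, 7, 15, 20, 6, 8, 24, 24, 12, 8, 9, 2, 9, 22, 19]

theorem qExtra_stable_w7 : ∀ i, mvC 5 qExtra_w7 (qExtra_reps i) = fun k => mulC 5 (qExtra_mult_w7 i) (qExtra_reps (qExtra_perm_w7 i) k) := by decide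

/-- Images of the lines. -/
def qExtra_perm_t : Fin 36 → Fin 36 := ![18, 14, 31, 2, 24, 15, 8, 25, 21, 32, 6, 3, 7, 30, 19, 9, 12, 1, 13, 27, 4, 34, 0, 11, 26, 28, 35, 17, 16, 5, 22, 23, 29, 33, 10, 20]

/-- Multipliers. -/
def qExtra_mult_t : Fin 36 → ℕ := ![7, 4, 1, 8, 7, 11, 4, 13, 4, 9, 3, 12, 18, 15, 11, 18, 15, 5, 4, 5, 13, 2, 15, 17, 15, 5, 17, 14, 1, 5, 8, 14, 12, 1, 1, 6]

theorem qExtra_stable_t : ∀ i, mvC 5 qExtra_t (qExtra_reps i) = fun k => mulC 5 (qExtra_mult_t i) (qExtra_reps (qExtra_perm_t i) k) := by decide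

/-- An element moving the orbit. -/
def qExtra_u : CMat := ![![21, 12, 13], ![13, 16, 23], ![12, 22, 16]]

theorem qExtra_moved : ∀ i, ∀ c : Fin (5 ^ 2), mvC 5 qExtra_u (qExtra_reps 0) ≠ fun j => mulC 5 c (qExtra_reps i j) := by decide

/-- The moved line. -/
def qExtra_k : Fin 36 := 0

theorem qExtra_unit_u : isUC 5 qExtra_u ∧ detC 5 qExtra_u = 1 := by decide

end Cfsg.Lib.Linear.Asch.SUThreeTab
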