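import Cfsg.Agent.Lib.Linear.Aschbacher.SUThreeFalse
import Cfsg.Agent.Lib.Linear.Aschbacher.SUThreeExtraData

/-!
# The normaliser of an extraspecial group is not maximal in `SU₃(5)`
-/

set_option autoImplicit false
set_option linter.unusedSectionVars false
set_option linter.style.haveILetI false
set_option maxRecDepth 40000
set_option maxHeartbeats 4000000

namespace Cfsg.Lib.Linear.Asch.SUThreeTab

open Cfsg.Geo Cfsg.Lib.Linear
open scoped Matrix MatrixGroups
open Fin.NatCast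

theorem qExtra_el_injective : ∀ a b c a' b' c' : Fin 3,
    qExtra_el a b c = qExtra_el a' b' c' → a = a' ∧ b = b' ∧ c = c' := by decide

theorem qExtra_y_perm : ∀ i k : Fin 3, qExtra_y k i = if k = i + 1 then 1 else 0 := by decide

theorem qExtra_x_diag : ∀ i k : Fin 3, qExtra_x k i = if k = i then qExtra_el 1 0 0 i i else 0 := by decide

theorem omega_root : ∀ k : Fin 3, qExtra_el 1 0 0 k k = if k = 0 then 1 else if k = 1 then omega5 else mulC 5 omega5 omega5 := by
  decide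

theorem omega_cube : mulC 5 (mulC 5 omega5 omega5) omega5 = 1 ∧ omega5 ≠ 1 := by decide

theorem qExtra_z_scalar : ∀ i k : Fin 3, qExtra_z k i = if k = i then mulC 5 omega5 omega5 else 0 := by decide

theorem exponent_comm : ∀ a b a' b' c c' : Fin 3,
    c' + c + b' * a = c + 1 + c' + b * a' → a * b' - b * a' = 1 := by decide

theorem exponent_shift : ∀ u l k p₁ p₂ : Fin 3,
    0 + u + l * p₁ = (u + l * p₁ - k * p₂) + 0 + p₂ * k := by decide

variable {F : Type*} [Field F] [Fintype F]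

/-- The normaliser of an extraspecial group of order 27 is not maximal in `SU₃(5)`. -/
theorem extra_five_false (hF : Fintype.card F = 5 ^ 2) {H R : Subgroup (GL (Fin 3) F)} {c : F} {x y z : GL (Fin 3) F}
    (hH : IsMaximalIn (sunit 3 F 5) H) (hR : Extra 3 R c x y z) (hRU : R ≤ Cfsg.GU 3 F 5)
    (hn : H ≤ subgroupNormalizer R) : False := by
  classical
  haveI : Fact (Nat.Prime 5) := ⟨by norm_num⟩
  haveI : Nonempty (Fin 3) := ⟨0⟩
  haveI : Finite (Matrix (Fin 3) (Fin 3) F) := inferInstanceAs (Finite (Fin 3 → Fin 3 → F))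
  obtain ⟨w, V⟩ := exists_valid (p := 5) hF (Or.inr rfl)
  haveI := V.charP
  have hU := herm_unitary (n := 3) hF
  have hf := isSesq_of_unitary hU
  set om : F := phi 5 w omega5 with hom
  have hom3 : om ^ 3 = 1 := by
    rw [hom, pow_succ, sq, ← phi_mul V.sq, ← phi_mul V.sq, omega_cube.1, V.phi_one]
  have hom1 : om ≠ 1 := fun h => omega_cube.2 (V.inj _ (by decide) _ (by norm_num) (h.trans V.phi_one.symm))
  haveI := Fact.mk Nat.prime_three
  have hprim : IsPrimitiveRoot om 3 := by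
    have h1 := IsPrimitiveRoot.orderOf om
    rwa [orderOf_eq_prime hom3 hom1] at h1
  have hom0 : om ≠ 0 := hprim.ne_zero three_ne_zero
  have hc0 : c ≠ 0 := hR.prim.ne_zero three_ne_zero
  have hzR : z ∈ R := by
    have : z = y * x * y⁻¹ * x⁻¹ := by rw [hR.comm]; group
    rw [this]
    exact mul_mem (mul_mem (mul_mem hR.mem_y hR.mem_x) (inv_mem hR.mem_y)) (inv_mem hR.mem_x)
  -- an eigenvector of `x` for the eigenvalue one
  obtain ⟨v0, d, hv0, hd, hxv0⟩ := exists_eigen_of_pow hR.prim hR.char_ne hR.pow_x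
  have hzv : ∀ u, z.val *ᵥ u = c • u := fun u => by rw [hR.coe_z, Matrix.smul_mulVec, Matrix.one_mulVec]
  have hstep : ∀ (u : Fin 3 → F) (μ : F), x.val *ᵥ u = μ • u → x.val *ᵥ (y.val *ᵥ u) = (μ * c⁻¹) • (y.val *ᵥ u) := by
    intro u μ hu
    have h1 : (y * x).val *ᵥ u = (z * x * y).val *ᵥ u := by rw [hR.comm]
    rw [mul_mulVec, hu, Matrix.mulVec_smul, mul_mulVec, mul_mulVec, hzv] at h1
    rw [mul_comm, mul_smul, h1, smul_smul, inv_mul_cancel₀ hc0, one_smul]
  have hiter : ∀ (u : Fin 3 → F) (μ : F), x.val *ᵥ u = μ • u → ∀ k : ℕ,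
      x.val *ᵥ ((y ^ k).val *ᵥ u) = (μ * c⁻¹ ^ k) • ((y ^ k).val *ᵥ u) := by
    intro u μ hu k
    induction k with
    | zero => simpa using hu
    | succ k ih => rw [pow_succ' y, mul_mulVec, hstep _ _ ih, mul_assoc, ← pow_succ]
  obtain ⟨j, -, hj⟩ := hR.prim.eq_pow_of_pow_eq_one hd
  set v := (y ^ j).val *ᵥ v0 with hvdef
  have hv : v ≠ 0 := move_ne_zero _ hv0
  have hxv : x.val *ᵥ v = v := by
    rw [hvdef, hiter v0 d hxv0 j, ← hj, ← mul_pow, mul_inv_cancel₀ hc0, one_pow, one_smul]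
  let e : Fin 3 → (Fin 3 → F) := fun k => (y ^ (k : ℕ)).val *ᵥ v
  have hxe : ∀ k, x.val *ᵥ e k = c⁻¹ ^ (k : ℕ) • e k := fun k => by
    have := hiter v 1 (by rw [hxv, one_smul]) k
    rwa [one_mul] at this
  have hye : ∀ k : Fin 3, y.val *ᵥ e k = e (k + 1) := by
    intro k
    have h1 : y.val *ᵥ e k = (y ^ ((k : ℕ) + 1)).val *ᵥ v := by rw [pow_succ', mul_mulVec]
    rw [h1]
    show _ = (y ^ (((k + 1 : Fin 3)) : ℕ)).val *ᵥ v
    fin_cases k
    · rfl
    · rfl
    · show (y ^ (2 + 1)).val *ᵥ v = (y ^ 0).val *ᵥ v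
      rw [show 2 + 1 = 3 from rfl, hR.pow_y, pow_zero]
  have hiso : ∀ g ∈ R, ∀ a b, Cfsg.hermForm 3 F 5 (g.val *ᵥ a) (g.val *ᵥ b) = Cfsg.hermForm 3 F 5 a b :=
    fun g hg a b => hRU hg a b
  have hc6 : c ^ 6 = 1 := by
    rw [show 6 = 3 * 2 from rfl, pow_mul, hR.prim.pow_eq_one, one_pow]
  have hinvprim : IsPrimitiveRoot c⁻¹ 3 := hR.prim.inv
  have horth : ∀ a b : Fin 3, a ≠ b → Cfsg.hermForm 3 F 5 (e a) (e b) = 0 := by
    intro a b hab
    have h1 := hiso x hR.mem_x (e a) (e b)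
    rw [hxe, hxe, hf.smul_left, hf.smul_right, sigmaE_apply, ← mul_assoc] at h1
    by_contra hne
    have h2 := (mul_eq_right₀ hne).1 h1
    have h3 : c⁻¹ ^ (a : ℕ) = c⁻¹ ^ (b : ℕ) := by
      have h4 : (c⁻¹ ^ (b : ℕ)) ^ 6 = 1 := by rw [← pow_mul, mul_comm, pow_mul, inv_pow, hc6, inv_one, one_pow]
      linear_combination (c⁻¹ ^ (b : ℕ)) * h2 - (c⁻¹ ^ (a : ℕ)) * h4
    exact hab (Fin.ext (hinvprim.pow_inj a.2 b.2 h3))
  have hsame : ∀ k, Cfsg.hermForm 3 F 5 (e k) (e k) = Cfsg.hermForm 3 F 5 v v := fun k =>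
    hiso _ (pow_mem hR.mem_y _) v v
  set μ := Cfsg.hermForm 3 F 5 v v with hμ
  have hμ0 : μ ≠ 0 := by
    intro h0
    have hall : ∀ a b, Cfsg.hermForm 3 F 5 (e a) (e b) = 0 := fun a b => by
      by_cases h : a = b
      · rw [h, hsame, h0]
      · exact horth a b h
    have hli : LinearIndependent F e := linearIndependent_eigen (μ := fun k : Fin 3 => c⁻¹ ^ (k : ℕ))
      (fun a b h => Fin.ext (hinvprim.pow_inj a.2 b.2 h)) x.val (fun k => move_ne_zero _ hv) hxe
    let B := basisOfLinearIndependentOfCardEqFinrank hli (by simp)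
    obtain ⟨u, hu⟩ := hf.nondeg v hv
    refine hu ?_
    rw [← B.sum_repr u]
    let L : (Fin 3 → F) →ₗ[F] F :=
      { toFun := fun a => Cfsg.hermForm 3 F 5 a v, map_add' := fun a b => hf.add_left a b v,
        map_smul' := fun s a => hf.smul_left s a v }
    show L _ = 0
    rw [map_sum]
    refine Finset.sum_eq_zero fun k _ => ?_
    show Cfsg.hermForm 3 F 5 (B.repr u k • B k) v = 0
    have he0 : v = e 0 := by simp [e]
    rw [hf.smul_left, coe_basisOfLinearIndependentOfCardEqFinrank, he0, hall, mul_zero]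
  have hfix : μ ^ 5 = μ := by rw [← sigmaE_apply hF, hμ, ← hU.herm]
  obtain ⟨s, hs⟩ := Herm.exists_norm_eq hF (inv_ne_zero hμ0) (by rw [inv_pow, hfix])
  obtain ⟨b, hb, hbe⟩ := exists_of_orthonormal hF (fun i => (s : F) • e i) (fun a a' => by
    rw [hf.smul_left, hf.smul_right, sigmaE_apply, ← mul_assoc, ← pow_succ', hs]
    split_ifs with h
    · rw [h, hsame, inv_mul_cancel₀ hμ0]
    · rw [horth a a' h, mul_zero])
  -- the standard extraspecial group
  obtain ⟨X0, hX0M, hX0⟩ := mem_overM V (reps := qExtra_reps) qExtra_unit_x qExtra_stable_x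
  obtain ⟨Y0, hY0M, hY0⟩ := mem_overM V (reps := qExtra_reps) qExtra_unit_y qExtra_stable_y
  obtain ⟨Z0, hZ0M, hZ0⟩ := mem_overM V (reps := qExtra_reps) qExtra_unit_z qExtra_stable_z
  let Std : GL (Fin 3) F → Prop := fun g => ∃ a b c : Fin 3, g.val = V.lift (qExtra_el a b c)
  have hStd1 : Std 1 := ⟨0, 0, 0, by rw [qExtra_el_zero, V.lift_one, Units.val_one]⟩
  have hStdmul : ∀ g h, Std g → Std h → Std (g * h) := by
    rintro g h ⟨a, b, c, hg⟩ ⟨a', b', c', hh⟩
    exact ⟨_, _, _, by rw [Units.val_mul, hg, hh, ← V.lift_mul, qExtra_el_mul]⟩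
  have hStdpow : ∀ g (k : ℕ), Std g → Std (g ^ k) := by
    intro g k hg
    induction k with
    | zero => exact hStd1
    | succ k ih => rw [pow_succ]; exact hStdmul _ _ ih hg
  have hStdX : Std X0 := ⟨1, 0, 0, by
    rw [hX0, show qExtra_el 1 0 0 = mmC 5 qExtra_x (qExtra_el 0 0 0) by rw [qExtra_el_x]; rfl, V.lift_mul,
      qExtra_el_zero, V.lift_one, Matrix.mul_one]⟩
  have hStdY : Std Y0 := ⟨0, 1, 0, by
    rw [hY0, show qExtra_el 0 1 0 = mmC 5 qExtra_y (qExtra_el 0 0 0) by rw [qExtra_el_y]; rfl, V.lift_mul,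
      qExtra_el_zero, V.lift_one, Matrix.mul_one]⟩
  have hStdZ : Std Z0 := ⟨0, 0, 1, by
    rw [hZ0, show qExtra_el 0 0 1 = mmC 5 qExtra_z (qExtra_el 0 0 0) by rw [qExtra_el_z]; rfl, V.lift_mul,
      qExtra_el_zero, V.lift_one, Matrix.mul_one]⟩
  have hact : ∀ (g : GL (Fin 3) F) (k l : Fin 3) (t : F), g.val *ᵥ e k = t • e l →
      (b⁻¹ * g * b).val *ᵥ Pi.single k 1 = t • Pi.single l 1 := by
    intro g k l t h
    rw [mul_mulVec, mul_mulVec, hbe, Matrix.mulVec_smul, h, smul_comm, ← hbe, Matrix.mulVec_smul,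
      inv_mulVec_mulVec]
  have hcols : ∀ g g' : GL (Fin 3) F, (∀ k, g.val *ᵥ Pi.single k 1 = g'.val *ᵥ Pi.single k 1) → g = g' :=
    fun g g' h => Units.ext (Matrix.ext_of_mulVec_single h)
  have hphiel : ∀ k : Fin 3, phi 5 w (qExtra_el 1 0 0 k k) = om ^ (k : ℕ) := by
    intro k
    rw [omega_root]
    fin_cases k <;> simp [V.phi_one, hom, sq, phi_mul V.sq]
  have hX0e : ∀ k, X0.val *ᵥ Pi.single k 1 = om ^ (k : ℕ) • Pi.single k 1 := fun k => by
    funext i
    rw [hX0, Matrix.mulVec_single_one]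
    show phi 5 w (qExtra_x i k) = _
    rw [qExtra_x_diag, Pi.smul_apply, Pi.single_apply, smul_eq_mul, mul_ite, mul_one, mul_zero]
    split_ifs with h
    · exact hphiel k
    · exact V.phi_zero
  have hY0e : ∀ k, Y0.val *ᵥ Pi.single k 1 = (1 : F) • Pi.single (k + 1) 1 := fun k => by
    funext i
    rw [hY0, Matrix.mulVec_single_one]
    show phi 5 w (qExtra_y i k) = _
    rw [qExtra_y_perm, one_smul, Pi.single_apply]
    split_ifs <;> simp [V.phi_one, V.phi_zero]
  have hZ0e : ∀ k, Z0.val *ᵥ Pi.single k 1 = (om * om) • Pi.single k 1 := fun k => by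
    funext i
    rw [hZ0, Matrix.mulVec_single_one]
    show phi 5 w (qExtra_z i k) = _
    rw [qExtra_z_scalar, Pi.smul_apply, Pi.single_apply, smul_eq_mul, mul_ite, mul_one, mul_zero]
    split_ifs
    · rw [phi_mul V.sq]
    · exact V.phi_zero
  obtain ⟨m, hm, hmom⟩ : ∃ m : ℕ, (m = 1 ∨ m = 2) ∧ c⁻¹ = om ^ m := by
    obtain ⟨m, hm, hm'⟩ := hprim.eq_pow_of_pow_eq_one (ξ := c⁻¹) hinvprim.pow_eq_one
    refine ⟨m, ?_, hm'.symm⟩
    rcases m with _ | _ | _ | m
    · exact absurd (hm'.symm.trans (pow_zero _)) (hinvprim.ne_one (by norm_num))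
    · exact Or.inl rfl
    · exact Or.inr rfl
    · omega
  have hgx : b⁻¹ * x * b = X0 ^ m := hcols _ _ fun k => by
    rw [hact x k k _ (hxe k)]
    have hp : ∀ n : ℕ, (X0 ^ n).val *ᵥ Pi.single k 1 = (om ^ (k : ℕ)) ^ n • Pi.single k 1 := fun n => by
      induction n with
      | zero => rw [pow_zero, Units.val_one, Matrix.one_mulVec, pow_zero, one_smul]
      | succ n ih => rw [pow_succ', mul_mulVec, ih, Matrix.mulVec_smul, hX0e, smul_smul, ← pow_succ]
    rw [hp, hmom, ← pow_mul, ← pow_mul, mul_comm]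
  have hgy : b⁻¹ * y * b = Y0 := hcols _ _ fun k => by
    rw [hact y k (k + 1) 1 (by rw [hye, one_smul]), hY0e]
  have hgz : b⁻¹ * z * b = Z0 ^ m := hcols _ _ fun k => by
    rw [hact z k k c (hzv _)]
    have hp : ∀ n : ℕ, (Z0 ^ n).val *ᵥ Pi.single k 1 = (om * om) ^ n • Pi.single k 1 := fun n => by
      induction n with
      | zero => rw [pow_zero, Units.val_one, Matrix.one_mulVec, pow_zero, one_smul]
      | succ n ih => rw [pow_succ', mul_mulVec, ih, Matrix.mulVec_smul, hZ0e, smul_smul, ← pow_succ]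
    rw [hp]
    congr 1
    rw [← inv_inv c, hmom]
    rcases hm with rfl | rfl <;> refine (eq_inv_of_mul_eq_one_left ?_).symm
    · linear_combination hom3
    · linear_combination (om ^ 3 + 1) * hom3
  set R' := R.map (MulAut.conj b⁻¹).toMonoidHom with hR'
  have hR'mem : ∀ g, g ∈ R' ↔ b * g * b⁻¹ ∈ R := fun g => by
    rw [hR', Subgroup.mem_map_equiv, MulAut.conj_symm_apply, inv_inv]
  have hR'std : ∀ g ∈ R', Std g := by
    intro g hg
    obtain ⟨i, k, l, hi⟩ := hR.gen _ ((hR'mem g).1 hg)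
    have : g = (b⁻¹ * x * b) ^ i * (b⁻¹ * y * b) ^ k * (b⁻¹ * z * b) ^ l := by
      rw [show g = b⁻¹ * (b * g * b⁻¹) * b by group, hi]
      have e1 : ∀ (a : GL (Fin 3) F) (n : ℕ), (b⁻¹ * a * b) ^ n = b⁻¹ * a ^ n * b := fun a n => by
        have := conj_pow (a := b⁻¹) (b := a) (i := n)
        rwa [inv_inv] at this
      rw [e1, e1, e1]
      group
    rw [this, hgx, hgy, hgz]
    exact hStdmul _ _ (hStdmul _ _ (hStdpow _ _ (hStdpow _ _ hStdX)) (hStdpow _ _ hStdY))
      (hStdpow _ _ (hStdpow _ _ hStdZ))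
  have hX0' : X0 ∈ R' := by
    have h1 : b⁻¹ * x * b ∈ R' := (hR'mem _).2 (by simpa [mul_assoc] using hR.mem_x)
    have h3 : X0 ^ 3 = 1 := hcols _ _ fun k => by
      rw [pow_succ, sq, mul_mulVec, hX0e, Matrix.mulVec_smul, mul_mulVec, hX0e, Matrix.mulVec_smul, hX0e,
        smul_smul, smul_smul, Units.val_one, Matrix.one_mulVec,
        show om ^ (k : ℕ) * om ^ (k : ℕ) * om ^ (k : ℕ) = (om ^ 3) ^ (k : ℕ) by ring, hom3, one_pow, one_smul]
    rw [hgx] at h1
    rcases hm with rfl | rfl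
    · rwa [pow_one] at h1
    · have : X0 = (X0 ^ 2) ^ 2 := by rw [← pow_mul, show 2 * 2 = 3 + 1 from rfl, pow_succ, h3, one_mul]
      rw [this]
      exact pow_mem h1 2
  have hY0' : Y0 ∈ R' := (hR'mem _).2 (by rw [← hgy]; simpa [mul_assoc] using hR.mem_y)
  obtain ⟨t, htM, htv⟩ := mem_overM V (reps := qExtra_reps) qExtra_unit_t qExtra_stable_t
  obtain ⟨u, hu, huM⟩ := exists_moved V qExtra_k qExtra_unit_u qExtra_moved
  have hnorm : ∀ k ∈ H, ∀ g ∈ R', (b⁻¹ * k * b) * g * (b⁻¹ * k * b)⁻¹ ∈ R' := by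
    intro k hk g hg
    rw [hR'mem]
    have h1 := (Subgroup.mem_normalizer_iff.1 (hn hk) (b * g * b⁻¹)).1 ((hR'mem g).1 hg)
    convert h1 using 1
    group
  refine overgroup_false hH inf_le_right hu huM hb (fun k hk => ?_) htM fun htH => ?_
  · set n := b⁻¹ * k * b with hndef
    have hnS : n ∈ sunit 3 F 5 := by
      have := conj_mem_sunit (inv_mem hb) (hH.1.le hk)
      rwa [inv_inv] at this
    obtain ⟨a, a1, a2, hA⟩ := hR'std _ (hnorm k hk X0 hX0')
    obtain ⟨a', a1', a2', hA'⟩ := hR'std _ (hnorm k hk Y0 hY0')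
    have hcomm : a * a1' - a1 * a' = 1 := by
      have hbase : Y0 * X0 = Z0 * X0 * Y0 := by
        refine hcols _ _ fun i => ?_
        simp only [mul_mulVec, hX0e, hY0e, hZ0e, Matrix.mulVec_smul, smul_smul, one_mul, mul_one]
        congr 1
        fin_cases i
        · show om ^ 0 = om ^ 1 * (om * om)
          linear_combination (-1 : F) * hom3
        · show om ^ 1 = om ^ 2 * (om * om)
          linear_combination (-om) * hom3
        · show om ^ 2 = om ^ 0 * (om * om)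
          ring
      have hZsc : Z0 ∈ scalars (Fin 3) F := mem_scalars_of_smul (c := om * om) (Matrix.ext_of_mulVec_single fun i => by
        rw [hZ0e, Matrix.smul_mulVec, Matrix.one_mulVec])
      have hZn : n * Z0 * n⁻¹ = Z0 := by rw [scalars_comm hZsc, mul_inv_cancel_right]
      have h1 : (n * Y0 * n⁻¹) * (n * X0 * n⁻¹) = Z0 * (n * X0 * n⁻¹) * (n * Y0 * n⁻¹) := by
        conv_rhs => rw [← hZn]
        calc (n * Y0 * n⁻¹) * (n * X0 * n⁻¹) = n * (Y0 * X0) * n⁻¹ := by group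
          _ = _ := by rw [hbase]; group
      have h2 := congrArg Units.val h1
      rw [Units.val_mul, Units.val_mul (Z0 * (n * X0 * n⁻¹)), Units.val_mul Z0, hA, hA', hZ0, ← V.lift_mul,
        qExtra_el_mul, ← V.lift_mul, qExtra_el_z, ← V.lift_mul, qExtra_el_mul] at h2
      obtain ⟨-, -, h3⟩ := qExtra_el_injective _ _ _ _ _ _ (V.lift_inj (qExtra_el_lt _ _ _) (qExtra_el_lt _ _ _) h2)
      exact exponent_comm a a1 a' a1' a2 a2' h3
    obtain ⟨k₁, l₁, ⟨e1, e2, e3⟩, f1, f2, f3⟩ := qExtra_cover a a1 a' a1' hcomm a2 a2'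
    set A := qExtra_idx a a1 a' a1' with hAdef
    obtain ⟨W, hW⟩ := V.exists_unit (qExtra_unit_wit A)
    obtain ⟨r, hrv⟩ : ∃ r : GL (Fin 3) F, r.val = V.lift (qExtra_el k₁ l₁ 0) ∧ r ∈ overM V qExtra_reps := by
      have hel : ∀ i j : Fin 3, (X0 ^ (i : ℕ) * Y0 ^ (j : ℕ)).val = V.lift (qExtra_el i j 0) := by
        have hy : ∀ j : ℕ, (Y0 ^ j).val = V.lift (qExtra_el 0 (j : Fin 3) 0) := by
          intro j
          induction j with
          | zero => rw [pow_zero, Units.val_one, Nat.cast_zero, qExtra_el_zero, V.lift_one]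
          | succ j ih =>
            rw [pow_succ', Units.val_mul, ih, hY0, ← V.lift_mul, qExtra_el_y, Nat.cast_succ, add_zero]
        have hx : ∀ i j : ℕ, (X0 ^ i * Y0 ^ j).val = V.lift (qExtra_el (i : Fin 3) (j : Fin 3) 0) := by
          intro i j
          induction i with
          | zero => rw [pow_zero, one_mul, hy, Nat.cast_zero]
          | succ i ih => rw [pow_succ', mul_assoc, Units.val_mul, ih, hX0, ← V.lift_mul, qExtra_el_x, Nat.cast_succ]
        intro i j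
        rw [hx, Fin.cast_val_eq_self, Fin.cast_val_eq_self]
      exact ⟨_, hel k₁ l₁, mul_mem (pow_mem hX0M _) (pow_mem hY0M _)⟩
    obtain ⟨hrv, hrM⟩ := hrv
    set n₁ := r * W with hn₁
    have key : ∀ (g : GL (Fin 3) F) (C : CMat) (i : Fin 3 × Fin 3 × Fin 3) (p₁ p₂ p₃ : Fin 3), g.val = V.lift C →
        mmC 5 (qExtra_wit A) C = mmC 5 (qExtra_el i.1 i.2.1 i.2.2) (qExtra_wit A) →
        i.1 = p₁ → i.2.1 = p₂ → i.2.2 + l₁ * p₁ - k₁ * p₂ = p₃ →
        (n₁ * g).val = V.lift (qExtra_el p₁ p₂ p₃) * n₁.val := by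
      intro g C i p₁ p₂ p₃ hg hc h1 h2 h3
      rw [hn₁, Units.val_mul, Units.val_mul, hrv, hW, hg, Matrix.mul_assoc, ← V.lift_mul, hc, V.lift_mul,
        ← Matrix.mul_assoc, ← Matrix.mul_assoc, ← V.lift_mul (qExtra_el k₁ l₁ 0),
        ← V.lift_mul (qExtra_el p₁ p₂ p₃), qExtra_el_mul, qExtra_el_mul, h1, h2]
      congr 3
      · exact add_comm _ _
      · exact add_comm _ _
      · rw [← h3]; exact exponent_shift _ _ _ _ _
    have hnx : (n₁ * X0).val = (n * X0 * n⁻¹).val * n₁.val := by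
      rw [hA]
      exact key X0 qExtra_x (qExtra_imX A) a a1 a2 hX0 (qExtra_conj_x A) e1 e2 e3
    have hny : (n₁ * Y0).val = (n * Y0 * n⁻¹).val * n₁.val := by
      rw [hA']
      exact key Y0 qExtra_y (qExtra_imY A) a' a1' a2' hY0 (qExtra_conj_y A) f1 f2 f3
    have hx1 : n₁ * X0 = n * X0 * n⁻¹ * n₁ := Units.ext hnx
    have hy1 : n₁ * Y0 = n * Y0 * n⁻¹ * n₁ := Units.ext hny
    set q := n⁻¹ * n₁ with hq
    have hqX : q * X0 = X0 * q := by rw [hq, mul_assoc, hx1]; group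
    have hqY : q * Y0 = Y0 * q := by rw [hq, mul_assoc, hy1]; group
    have hqs : q ∈ scalars (Fin 3) F := by
      have hb' : b * q * b⁻¹ ∈ scalars (Fin 3) F := by
        refine absIrr_center hR.absIrr fun g hg => ?_
        have hconj : ∀ (a₀ a₁ : GL (Fin 3) F), b⁻¹ * a₀ * b = a₁ → Commute q a₁ → Commute (b * q * b⁻¹) a₀ := by
          intro a₀ a₁ h h'
          have : a₀ = b * a₁ * b⁻¹ := by rw [← h]; group
          rw [this]
          show b * q * b⁻¹ * (b * a₁ * b⁻¹) = b * a₁ * b⁻¹ * (b * q * b⁻¹)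
          calc b * q * b⁻¹ * (b * a₁ * b⁻¹) = b * (q * a₁) * b⁻¹ := by group
            _ = _ := by rw [h'.eq]; group
        obtain ⟨i, j, l, rfl⟩ := hR.gen g hg
        refine ((Commute.pow_right ?_ i).mul_right (Commute.pow_right ?_ j)).mul_right (Commute.pow_right ?_ l)
        · exact hconj x _ hgx ((show Commute q X0 from hqX).pow_right m)
        · exact hconj y _ hgy hqY
        · exact (scalars_comm (mem_scalars_of_smul hR.coe_z) : (b * q * b⁻¹) * z = z * (b * q * b⁻¹))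
      have := (scalars_normal).conj_mem _ hb' b⁻¹
      simpa [mul_assoc] using this
    obtain ⟨s', hs'⟩ := (mem_scalars_iff q).1 hqs
    have hWU : W ∈ Cfsg.GU 3 F 5 := V.mem_GU hW (qExtra_unit_wit A)
    have hqU : q ∈ Cfsg.GU 3 F 5 := mul_mem (inv_mem hnS.1) (mul_mem hrM.2.1 hWU)
    have hs6 : (s' : F) ^ 6 = 1 := by
      have h1 := hqU (Pi.single 0 1) (Pi.single 0 1)
      rw [Units.coeHom_apply, hs', Matrix.smul_mulVec, Matrix.one_mulVec, hf.smul_left, hf.smul_right, sigmaE_apply,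
        show Cfsg.hermForm 3 F 5 (Pi.single 0 1) (Pi.single 0 1) = 1 by simp [Cfsg.hermForm, Pi.single_apply]] at h1
      linear_combination h1
    have hdetq : (s' : F) ^ 3 = phi 5 w (detC 5 (qExtra_wit A)) := by
      have hdet1 : ∀ g ∈ sunit 3 F 5, g.val.det = 1 := fun g hg => by
        have := congrArg Units.val (MonoidHom.mem_ker.1 hg.2)
        rwa [Units.val_one, Matrix.GeneralLinearGroup.val_det_apply] at this
      have h1 : q.val.det = W.val.det := by
        rw [hq, hn₁, Units.val_mul, Units.val_mul, Matrix.det_mul, Matrix.det_mul, hdet1 _ (inv_mem hnS),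
          hdet1 _ hrM.2, one_mul, one_mul]
      rw [hs', hW, V.lift_det, Matrix.det_smul, Matrix.det_one, mul_one, Fintype.card_fin] at h1
      exact h1
    rcases qExtra_det A with ⟨i, hi, hdet⟩ | ⟨h1, h4⟩
    swap
    · exfalso
      rcases sq_eq_one_iff.1 (show ((s' : F) ^ 3) ^ 2 = 1 by rw [← pow_mul]; exact hs6) with h | h
      · exact h1 (V.inj _ (qExtra_det_lt A) _ (by norm_num) (hdetq.symm.trans (h.trans V.phi_one.symm)))
      · refine h4 (V.inj _ (qExtra_det_lt A) _ (by norm_num) (hdetq.symm.trans (h.trans ?_)))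
        rw [phi_natCast (by norm_num)]
        have := CharP.cast_eq_zero F 5
        push_cast at this ⊢
        linear_combination (-1 : F) * this
    obtain ⟨W', hW'M, hW'⟩ : ∃ x ∈ overM V qExtra_reps, x.val = V.lift (qExtra_wit A) := by
      rw [← hi, qExtra_wit_good]
      fin_cases i
      · exact mem_overM V ⟨by rw [qExtra_w0]; decide, by rw [qExtra_w0]; decide⟩ qExtra_stable_w0
      · exact mem_overM V ⟨by rw [qExtra_w1]; decide, by rw [qExtra_w1]; decide⟩ qExtra_stable_w1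
      · exact mem_overM V ⟨by rw [qExtra_w2]; decide, by rw [qExtra_w2]; decide⟩ qExtra_stable_w2
      · exact mem_overM V ⟨by rw [qExtra_w3]; decide, by rw [qExtra_w3]; decide⟩ qExtra_stable_w3
      · exact mem_overM V ⟨by rw [qExtra_w4]; decide, by rw [qExtra_w4]; decide⟩ qExtra_stable_w4
      · exact mem_overM V ⟨by rw [qExtra_w5]; decide, by rw [qExtra_w5]; decide⟩ qExtra_stable_w5
      · exact mem_overM V ⟨by rw [qExtra_w6]; decide, by rw [qExtra_w6]; decide⟩ qExtra_stable_w6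
      · exact mem_overM V ⟨by rw [qExtra_w7]; decide, by rw [qExtra_w7]; decide⟩ qExtra_stable_w7
    have hWW : W = W' := Units.ext (hW.trans hW'.symm)
    have hqS : q ∈ sunit 3 F 5 := mul_mem (inv_mem hnS) (mul_mem hrM.2 (hWW ▸ hW'M.2))
    have : n = r * W * q⁻¹ := by rw [hq, hn₁]; group
    rw [this, hWW]
    exact mul_mem (mul_mem hrM hW'M) (inv_mem (scalar_mem_overM V hqS hqs))
  · obtain ⟨a, a1, a2, hA⟩ := hR'std _ (hnorm _ htH X0 hX0')
    rw [show b⁻¹ * (b * t * b⁻¹) * b = t by group] at hA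
    refine qExtra_conj_t a a1 a2 (V.lift_inj (mmC_lt _ _) (mmC_lt _ _) ?_)
    rw [V.lift_mul, V.lift_mul, ← htv, ← hX0, ← hA, ← Units.val_mul, ← Units.val_mul, inv_mul_cancel_right]

end Cfsg.Lib.Linear.Asch.SUThreeTab
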