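import Cfsg.Agent.Lib.Linear.Aschbacher.SUThreeCommon
import Cfsg.Agent.Lib.Linear.Aschbacher.SUThreeData
import Cfsg.Agent.Lib.Linear.HermStandard

/-!
# Exceptional non-maximal subgroups of `SU₃(3)` and `SU₃(5)`
-/

set_option autoImplicit false
set_option linter.unusedSectionVars false
set_option linter.style.haveILetI false

namespace Cfsg.Lib.Linear.Asch.SUThreeTab

open Cfsg.Geo Cfsg.Lib.Linear
open scoped Matrix MatrixGroups
open Fin.NatCast

variable {F : Type*} [Field F] [Fintype F]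

/-- The overgroup stabilising a set of lines. -/
def overM {p n : ℕ} [Fact p.Prime] {w : F} (V : Valid p w) (reps : Fin n → CVec) : Subgroup (GL (Fin 3) F) :=
  stabilizing (glToMat (Fin 3) F) (lineSet V reps) ⊓ sunit 3 F p

section general

variable {p n : ℕ} [Fact p.Prime] {w : F} (V : Valid p w) {reps : Fin n → CVec}

theorem mem_overM {A : CMat} {π : Fin n → Fin n} {c : Fin n → ℕ} (hu : isUC p A ∧ detC p A = 1)
    (hA : ∀ i, mvC p A (reps i) = fun k => mulC p (c i) (reps (π i) k)) :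
    ∃ x ∈ overM V reps, x.val = V.lift A := by
  obtain ⟨x, hx⟩ := V.exists_unit hu.1
  exact ⟨x, ⟨mem_stab V hx hA, V.mem_sunit hx hu.1 hu.2⟩, hx⟩

theorem scalar_mem_overM {x : GL (Fin 3) F} (hx : x ∈ sunit 3 F p) (hs : x ∈ scalars (Fin 3) F) :
    x ∈ overM V reps := ⟨smul_mem_lineSet V hs, hx⟩

theorem exists_moved {A : CMat} (k : Fin n) (hu : isUC p A ∧ detC p A = 1)
    (hA : ∀ i, ∀ c : Fin (p ^ 2), mvC p A (reps k) ≠ fun j => mulC p c (reps i j)) :
    ∃ u ∈ sunit 3 F p, u ∉ overM V reps := by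
  obtain ⟨x, hx⟩ := V.exists_unit hu.1
  exact ⟨x, V.mem_sunit hx hu.1 hu.2, fun h => not_mem_stab V k hx (mvC_lt _ _) hA mulC_lt h.1⟩

/-- The coded data of an element of order seven with its normaliser. -/
theorem exists_seven {gC hC tC : CMat} {gp : Fin 7 → CMat} (e0 : gp 0 = oneC) (e1 : gp 1 = gC)
    (estep : ∀ i : Fin 7, mmC p (gp i) gC = gp (i + 1)) (ene : gC ≠ oneC) (elt : ∀ i j k, gp i j k < p ^ 2)
    (econj : mmC p hC gC = mmC p (gp 2) hC) (et : ∀ i : Fin 7, mmC p tC gC ≠ mmC p (gp i) tC)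
    (etr : ∀ i : Fin 7, trC p (gp i) = trC p gC → i = 1 ∨ i = 2 ∨ i = 4)
    (hg : ∃ x ∈ overM V reps, x.val = V.lift gC) (hh : ∃ x ∈ overM V reps, x.val = V.lift hC)
    (ht : ∃ x ∈ overM V reps, x.val = V.lift tC) :
    ∃ g t : GL (Fin 3) F, g ∈ overM V reps ∧ g ≠ 1 ∧ g ^ 7 = 1 ∧ g.val = V.lift gC ∧
      (∀ x ∈ sunit 3 F p, x * g * x⁻¹ ∈ Subgroup.zpowers g →
        ∃ m ∈ overM V reps, m * g * m⁻¹ = x * g * x⁻¹) ∧
      t ∈ overM V reps ∧ t * g * t⁻¹ ∉ Subgroup.zpowers g := by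
  classical
  haveI := V.charP
  obtain ⟨g, hgM, hg⟩ := hg
  obtain ⟨h, hhM, hh⟩ := hh
  obtain ⟨t, htM, ht⟩ := ht
  have hpow : ∀ i : ℕ, (g ^ i).val = V.lift (gp (i : Fin 7)) := by
    intro i
    induction i with
    | zero => rw [pow_zero, Units.val_one, Nat.cast_zero, e0, V.lift_one]
    | succ i ih => rw [pow_succ, Units.val_mul, ih, hg, ← V.lift_mul, estep, Nat.cast_succ]
  have hg7 : g ^ 7 = 1 := Units.ext (by
    rw [hpow, show ((7 : ℕ) : Fin 7) = 0 from Fin.natCast_self 7, e0, V.lift_one, Units.val_one])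
  have hpowers : ∀ x ∈ Subgroup.zpowers g, ∃ i : ℕ, x = g ^ i := by
    intro x hx
    have hfin : IsOfFinOrder g := isOfFinOrder_iff_pow_eq_one.2 ⟨7, by norm_num, hg7⟩
    rw [← IsOfFinOrder.mem_powers_iff_mem_zpowers hfin] at hx
    obtain ⟨i, rfl⟩ := hx
    exact ⟨i, rfl⟩
  have hone : ∀ i j, oneC i j < p ^ 2 := fun i j => by
    have := Nat.one_lt_pow two_ne_zero (Fact.out : p.Prime).one_lt
    unfold oneC
    split_ifs <;> omega
  refine ⟨g, t, hgM, fun e => ene ?_, hg7, hg, fun x hx hxg => ?_, htM, fun e => ?_⟩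
  · rw [← e1]
    refine V.lift_inj (elt 1) hone ?_
    rw [e1, ← hg, e, Units.val_one, V.lift_one]
  · obtain ⟨i, hi⟩ := hpowers _ hxg
    have htr : trC p (gp (i : Fin 7)) = trC p gC := by
      refine V.inj (trC p _) (addC_lt _ _) (trC p _) (addC_lt _ _) ?_
      rw [← V.lift_trace, ← V.lift_trace, ← hpow, ← hg, ← hi, Units.val_mul, Units.val_mul,
        Matrix.trace_units_conj]
    have hstep : h * g * h⁻¹ = g ^ 2 := by
      rw [mul_inv_eq_iff_eq_mul]
      refine Units.ext ?_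
      rw [Units.val_mul, Units.val_mul, hh, hg, hpow, ← V.lift_mul, econj, V.lift_mul]
      rfl
    have hk : ∀ k : ℕ, h ^ k * g * (h ^ k)⁻¹ = g ^ (2 ^ k) := by
      intro k
      induction k with
      | zero => simp
      | succ k ih =>
        calc h ^ (k + 1) * g * (h ^ (k + 1))⁻¹ = h * (h ^ k * g * (h ^ k)⁻¹) * h⁻¹ := by rw [pow_succ']; group
          _ = (h * g * h⁻¹) ^ (2 ^ k) := by rw [ih, conj_pow]
          _ = g ^ (2 ^ (k + 1)) := by rw [hstep, ← pow_mul, pow_succ']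
    have hfin : ∀ k : ℕ, ((2 ^ k : ℕ) : Fin 7) = (i : Fin 7) →
        ∃ m ∈ overM V reps, m * g * m⁻¹ = x * g * x⁻¹ := by
      intro k e
      refine ⟨h ^ k, pow_mem hhM k, ?_⟩
      rw [hk, hi]
      exact Units.ext (by rw [hpow, hpow, e])
    rcases etr _ htr with e | e | e
    · exact hfin 0 (by rw [e]; decide)
    · exact hfin 1 (by rw [e]; decide)
    · exact hfin 2 (by rw [e]; decide)
  · obtain ⟨i, hi⟩ := hpowers _ e
    refine et (i : Fin 7) (V.lift_inj (mmC_lt _ _) (mmC_lt _ _) ?_)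
    rw [V.lift_mul, V.lift_mul, ← hpow, ← ht, ← hg, ← Units.val_mul, ← Units.val_mul, ← hi, inv_mul_cancel_right]

end general

/-- A unitary matrix from an orthonormal family. -/
theorem exists_of_orthonormal {q : ℕ} (hF : Fintype.card F = q ^ 2) (v : Fin 3 → Fin 3 → F)
    (hv : ∀ i j, Cfsg.hermForm 3 F q (v i) (v j) = if i = j then 1 else 0) :
    ∃ b ∈ Cfsg.GU 3 F q, ∀ i, b.val *ᵥ Pi.single i 1 = v i := by
  let A : Matrix (Fin 3) (Fin 3) F := Matrix.of fun k i => v i k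
  have hA : Aᵀ * A.map (sigmaE hF) = 1 := by
    ext i j
    rw [Matrix.mul_apply, Matrix.one_apply, ← hv i j]
    simp [A, Cfsg.hermForm, sigmaE_apply]
  let b : GL (Fin 3) F := ⟨A, (A.map (sigmaE hF))ᵀ,
    mul_eq_one_comm.1 (by rw [← Matrix.transpose_one, ← hA, Matrix.transpose_mul, Matrix.transpose_transpose]),
    by rw [← Matrix.transpose_one, ← hA, Matrix.transpose_mul, Matrix.transpose_transpose]⟩
  refine ⟨b, fun x y => ?_, fun i => ?_⟩
  · show Cfsg.hermForm 3 F q (A *ᵥ x) (A *ᵥ y) = _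
    have hf := isSesq_of_unitary (herm_unitary (n := 3) hF)
    rw [sesq_act hf, gram_herm hF, Matrix.mul_one, hA, sesq_gram hf x y, gram_herm hF]
  · rw [Matrix.mulVec_single_one]
    rfl

/-- The normaliser of a cubic extension field is not maximal in `SU₃(3)`. -/
theorem field_three_false (hF : Fintype.card F = 3 ^ 2) {H N : Subgroup (GL (Fin 3) F)}
    {K : Subalgebra F (Matrix (Fin 3) (Fin 3) F)} (hH : IsMaximalIn (sunit 3 F 3) H)
    (hK : IsFieldSubalgebra 3 K) (hle : H ≤ subalgebraNormalizer K) (hN : N ≤ H)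
    (hKN : K = Subalgebra.centralizer F (matrixSet N)) : False := by
  classical
  haveI : Fact (Nat.Prime 3) := ⟨by norm_num⟩
  haveI : Finite (Matrix (Fin 3) (Fin 3) F) := inferInstanceAs (Finite (Fin 3 → Fin 3 → F))
  obtain ⟨w, V⟩ := exists_valid (p := 3) hF (Or.inl rfl)
  obtain ⟨g, t, hgM, hg1, hg7, -, hnor, htM, ht⟩ := exists_seven V (reps := qThree_reps) qThree_gp_zero
    qThree_gp_one qThree_gp_step qThree_g_ne qThree_lt qThree_conj_h qThree_conj_t qThree_trace
    (mem_overM V qThree_unit_g qThree_stable_g) (mem_overM V qThree_unit_h qThree_stable_h)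
    (mem_overM V qThree_unit_t qThree_stable_t)
  obtain ⟨u, hu, huM⟩ := exists_moved V qThree_k qThree_unit_u qThree_moved
  have hGU : Nat.card (Cfsg.GU 3 F 3) = 24192 := by
    rw [Herm.card_GU hF 3]
    decide
  refine field_seven_false hH hK hle hN hKN (k := 8) (by norm_num) (fun x hx hxK => ?_) (fun x _ hxK h8 =>
    field_scalar hK hxK (by rw [hF]; exact h8)) (by rw [hGU]; norm_num) (M := overM V qThree_reps) inf_le_right
    (fun x hx hs => scalar_mem_overM V hx hs) hgM hg1 hg7 hnor htM ht hu huM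
  have h1 := field_pow_card hK hxK
  rw [hF] at h1
  have h2 : x ^ 24192 = 1 := by
    have h4 := pow_card_eq_one' (x := (⟨x, hx.1⟩ : Cfsg.GU 3 F 3))
    rw [hGU] at h4
    exact congrArg Subtype.val h4
  have h3 := pow_gcd_eq_one.2 ⟨h1, h2⟩
  rwa [show Nat.gcd ((3 ^ 2) ^ 3 - 1) 24192 = 7 * 8 by norm_num] at h3

/-- The normaliser of a cubic extension field is not maximal in `SU₃(5)`. -/
theorem field_five_false (hF : Fintype.card F = 5 ^ 2) {H N : Subgroup (GL (Fin 3) F)}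
    {K : Subalgebra F (Matrix (Fin 3) (Fin 3) F)} (hH : IsMaximalIn (sunit 3 F 5) H)
    (hK : IsFieldSubalgebra 3 K) (hle : H ≤ subalgebraNormalizer K) (hN : N ≤ H)
    (hKN : K = Subalgebra.centralizer F (matrixSet N)) : False := by
  classical
  haveI : Fact (Nat.Prime 5) := ⟨by norm_num⟩
  haveI : Finite (Matrix (Fin 3) (Fin 3) F) := inferInstanceAs (Finite (Fin 3 → Fin 3 → F))
  haveI : Nonempty (Fin 3) := ⟨0⟩
  obtain ⟨w, V⟩ := exists_valid (p := 5) hF (Or.inr rfl)
  obtain ⟨g, t, hgM, hg1, hg7, -, hnor, htM, ht⟩ := exists_seven V (reps := qFive_reps) qFive_gp_zero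
    qFive_gp_one qFive_gp_step qFive_g_ne qFive_lt qFive_conj_h qFive_conj_t qFive_trace
    (mem_overM V qFive_unit_g qFive_stable_g) (mem_overM V qFive_unit_h qFive_stable_h)
    (mem_overM V qFive_unit_t qFive_stable_t)
  obtain ⟨u, hu, huM⟩ := exists_moved V qFive_k qFive_unit_u qFive_moved
  have hGU : Nat.card (Cfsg.GU 3 F 5) = 2268000 := by
    rw [Herm.card_GU hF 3]
    decide
  refine field_seven_false hH hK hle hN hKN (k := 72) (by norm_num) (fun x hx hxK => ?_) (fun x hxS hxK h72 => ?_)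
    (by rw [hGU]; norm_num) (M := overM V qFive_reps) inf_le_right
    (fun x hx hs => scalar_mem_overM V hx hs) hgM hg1 hg7 hnor htM ht hu huM
  · have h1 := field_pow_card hK hxK
    rw [hF] at h1
    have h2 : x ^ 2268000 = 1 := by
      have h4 := pow_card_eq_one' (x := (⟨x, hx.1⟩ : Cfsg.GU 3 F 5))
      rw [hGU] at h4
      exact congrArg Subtype.val h4
    have h3 := pow_gcd_eq_one.2 ⟨h1, h2⟩
    rwa [show Nat.gcd ((5 ^ 2) ^ 3 - 1) 2268000 = 7 * 72 by norm_num] at h3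
  · have h24 : x ^ 24 ∈ scalars (Fin 3) F := field_scalar hK (by rw [Units.val_pow_eq_pow_val]; exact pow_mem hxK 24) (by
      rw [hF, ← pow_mul, show 24 * (5 ^ 2 - 1) = 72 * 8 by norm_num, pow_mul, h72, one_pow])
    obtain ⟨c, hc⟩ := (mem_scalars_iff _).1 h24
    by_cases hc1 : (c : F) = 1
    · exact field_scalar hK hxK (by
        rw [hF]
        exact Units.ext (by rw [show (5 ^ 2 - 1) = 24 by norm_num, hc, hc1, one_smul, Units.val_one]))
    exfalso
    have hc3 : (c : F) ^ 3 = 1 := by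
      have h := scalar_pow hc 3
      rw [← pow_mul, show 24 * 3 = 72 by norm_num, h72, Units.val_one] at h
      have := congrFun (congrFun h 0) 0
      simpa using this.symm
    have hno : ∀ d : F, d ^ 3 ≠ (c : F) := by
      intro d hd
      rcases eq_or_ne d 0 with rfl | hd0
      · rw [zero_pow three_ne_zero] at hd
        exact c.ne_zero hd.symm
      have h1 := FiniteField.pow_card_sub_one_eq_one d hd0
      rw [hF, show (5 ^ 2 - 1) = 3 * 8 by norm_num, pow_mul, hd,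
        show 8 = 3 * 2 + 2 by norm_num, pow_add, pow_mul, hc3, one_pow, one_mul] at h1
      exact hc1 (by linear_combination (-(c : F)) * h1 + hc3)
    have hdet := det_of_cube (u := x ^ 8) (c := (c : F))
      (by rw [← Units.val_pow_eq_pow_val, ← pow_mul]; exact hc) hno
    have h1 : (x ^ 8).val.det = 1 := by
      have := congrArg Units.val (MonoidHom.mem_ker.1 (pow_mem hxS.2 8))
      rwa [Units.val_one, Matrix.GeneralLinearGroup.val_det_apply] at this
    exact hc1 (hdet.symm.trans h1)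

/-- A monomial element of `SU₃(5)` lies in the overgroup. -/
theorem monomial_mem (hF : Fintype.card F = 5 ^ 2) [Fact (Nat.Prime 5)] {w : F} (V : Valid 5 w)
    {x : GL (Fin 3) F} (hx : x ∈ sunit 3 F 5)
    (hmon : ∀ i, ∃ (j : Fin 3) (ε : F), x.val *ᵥ Pi.single i 1 = ε • Pi.single j 1) :
    x ∈ overM V qFive_reps := by
  classical
  haveI := V.charP
  set M := overM V qFive_reps with hM
  obtain ⟨d1, hd1M, hd1⟩ := mem_overM V (reps := qFive_reps) qFive_unit_dA qFive_stable_dA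
  obtain ⟨d2, hd2M, hd2⟩ := mem_overM V (reps := qFive_reps) qFive_unit_dB qFive_stable_dB
  obtain ⟨cy, hcyM, hcy⟩ := mem_overM V (reps := qFive_reps) qFive_unit_cy qFive_stable_cy
  obtain ⟨sw, hswM, hsw⟩ := mem_overM V (reps := qFive_reps) qFive_unit_sw qFive_stable_sw
  let P : Equiv.Perm (Fin 3) → Prop := fun π =>
    ∃ y ∈ M, ∀ i, ∃ ε : F, y.val *ᵥ Pi.single i 1 = ε • Pi.single (π i) 1
  have hPmul : ∀ π π', P π → P π' → P (π * π') := by
    rintro π π' ⟨y, hy, hy'⟩ ⟨z, hz, hz'⟩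
    refine ⟨y * z, mul_mem hy hz, fun i => ?_⟩
    obtain ⟨ε, hε⟩ := hz' i
    obtain ⟨ε', hε'⟩ := hy' (π' i)
    exact ⟨ε * ε', by rw [mul_mulVec, hε, Matrix.mulVec_smul, hε', smul_smul, Equiv.Perm.mul_apply]⟩
  have hcode : ∀ (y : GL (Fin 3) F) (A : CMat) (π : Equiv.Perm (Fin 3)), y.val = V.lift A →
      (∀ i k, k ≠ π i → A k i = 0) → ∀ i, ∃ ε : F, y.val *ᵥ Pi.single i 1 = ε • Pi.single (π i) 1 := by
    intro y A π hy hA i
    refine ⟨phi 5 w (A (π i) i), funext fun k => ?_⟩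
    rw [hy, Matrix.mulVec_single_one, Pi.smul_apply, Pi.single_apply, smul_eq_mul, mul_ite, mul_one, mul_zero]
    by_cases hk : k = π i
    · rw [if_pos hk, hk]; rfl
    · rw [if_neg hk, show (V.lift A).col i k = phi 5 w (A k i) from rfl, hA i k hk, V.phi_zero]
  have hall : ∀ π : Equiv.Perm (Fin 3), P π := by
    have h1 : P 1 := ⟨1, one_mem _, fun i => ⟨1, by rw [Units.val_one, Matrix.one_mulVec, one_smul]; rfl⟩⟩
    have hs : P (finRotate 3) := ⟨cy, hcyM, hcode cy _ _ hcy (by decide)⟩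
    have ht : P (Equiv.swap 0 1) := ⟨sw, hswM, hcode sw _ _ hsw (by decide)⟩
    have hcases : ∀ π : Equiv.Perm (Fin 3), π = 1 ∨ π = finRotate 3 ∨ π = finRotate 3 * finRotate 3 ∨
        π = Equiv.swap 0 1 ∨ π = finRotate 3 * Equiv.swap 0 1 ∨
        π = finRotate 3 * finRotate 3 * Equiv.swap 0 1 := by decide
    intro π
    rcases hcases π with rfl | rfl | rfl | rfl | rfl | rfl
    exacts [h1, hs, hPmul _ _ hs hs, ht, hPmul _ _ hs ht, hPmul _ _ (hPmul _ _ hs hs) ht]
  choose j ε hε using hmon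
  have hjinj : Function.Injective j := by
    intro a b hab
    by_contra hne
    have h1 : x.val *ᵥ (ε b • Pi.single a (1 : F) - ε a • Pi.single b 1) = 0 := by
      rw [Matrix.mulVec_sub, Matrix.mulVec_smul, Matrix.mulVec_smul, hε, hε, hab, smul_smul, smul_smul, mul_comm,
        sub_self]
    have h3 : (ε b • Pi.single a (1 : F) - ε a • Pi.single b (1 : F) : Fin 3 → F) = 0 := by
      have h5 := congrArg (fun v => (x⁻¹).val *ᵥ v) h1
      simpa only [inv_mulVec_mulVec, Matrix.mulVec_zero] using h5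
    have h4 := congrFun h3 b
    simp [Ne.symm hne] at h4
    exact move_ne_zero x (show (Pi.single a (1 : F) : Fin 3 → F) ≠ 0 by simp) (by rw [hε, h4, zero_smul])
  obtain ⟨y, hyM, hy⟩ := hall (Equiv.ofBijective j (Finite.injective_iff_bijective.1 hjinj))
  set d := y⁻¹ * x with hd
  have hdS : d ∈ sunit 3 F 5 := mul_mem (inv_mem hyM.2) hx
  have hdiag : ∀ i, ∃ η : F, d.val *ᵥ Pi.single i 1 = η • Pi.single i 1 := by
    intro i
    obtain ⟨δ, hδ⟩ := hy i
    have hδ0 : δ ≠ 0 := fun h => move_ne_zero y (show (Pi.single i (1 : F) : Fin 3 → F) ≠ 0 by simp)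
      (by rw [hδ, h, zero_smul])
    refine ⟨ε i * δ⁻¹, ?_⟩
    rw [hd, mul_mulVec, hε, Matrix.mulVec_smul]
    have h2 := inv_mulVec_mulVec y (Pi.single i (1 : F))
    rw [hδ, Matrix.mulVec_smul] at h2
    rw [show j i = Equiv.ofBijective j (Finite.injective_iff_bijective.1 hjinj) i from rfl,
      ← smul_smul, ← h2, smul_smul δ⁻¹, inv_mul_cancel₀ hδ0, one_smul]
  choose η hη using hdiag
  have hdval : d.val = Matrix.diagonal η := Matrix.ext fun a b => by
    have h1 := congrFun (hη b) a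
    rw [Matrix.mulVec_single_one] at h1
    change d.val a b = _ at h1
    rw [h1, Pi.smul_apply, Pi.single_apply, smul_eq_mul, mul_ite, mul_one, mul_zero, Matrix.diagonal_apply]
    split_ifs with h <;> simp_all
  have hη6 : ∀ i, η i ^ 6 = 1 := by
    intro i
    have h1 := mem_sunit hdS (Pi.single i 1) (Pi.single i 1)
    rw [hη] at h1
    have hf := isSesq_of_unitary (herm_unitary (n := 3) hF)
    rw [hf.smul_left, hf.smul_right, sigmaE_apply, show Cfsg.hermForm 3 F 5 (Pi.single i 1) (Pi.single i 1) = 1 by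
      simp [Cfsg.hermForm, Pi.single_apply]] at h1
    linear_combination h1
  set z : F := phi 5 w zeta with hz
  have hzp : ∀ (k : ℕ), ∃ c, c < 25 ∧ phi 5 w c = z ^ k ∧
      c = Nat.rec (motive := fun _ => ℕ) 1 (fun _ a => mulC 5 a zeta) k := by
    intro k
    induction k with
    | zero => exact ⟨1, by norm_num, by rw [V.phi_one, pow_zero], rfl⟩
    | succ k ih =>
      obtain ⟨c, -, hc, hc'⟩ := ih
      exact ⟨mulC 5 c zeta, mulC_lt _ _, by rw [phi_mul V.sq, hc, pow_succ], by rw [hc']⟩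
  have hz6 : z ^ 6 = 1 := by
    obtain ⟨c, -, hc, hc'⟩ := hzp 6
    rw [← hc, hc', ← V.phi_one]
    congr 1
  have hprim : IsPrimitiveRoot z 6 := by
    refine (IsPrimitiveRoot.iff (by norm_num)).2 ⟨hz6, fun l hl0 hl h => ?_⟩
    obtain ⟨c, hc25, hc, hc'⟩ := hzp l
    have := V.inj c hc25 1 (by norm_num) (by rw [hc, h, V.phi_one])
    interval_cases l <;> rw [hc'] at this <;> revert this <;> decide
  obtain ⟨a, -, ha⟩ := hprim.eq_pow_of_pow_eq_one (hη6 0)
  obtain ⟨b, -, hb⟩ := hprim.eq_pow_of_pow_eq_one (hη6 1)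
  have hdet : η 0 * η 1 * η 2 = 1 := by
    have h1 := congrArg Units.val (MonoidHom.mem_ker.1 hdS.2)
    rwa [Units.val_one, Matrix.GeneralLinearGroup.val_det_apply, hdval, Matrix.det_diagonal,
      Fin.prod_univ_three] at h1
  have hzi : phi 5 w 18 = z⁻¹ := by
    refine eq_inv_of_mul_eq_one_right ?_
    rw [hz, ← phi_mul V.sq, ← V.phi_one]
    congr 1
  have hval1 : d1.val = Matrix.diagonal ![z, z⁻¹, 1] := by
    rw [hd1, ← hzi, ← V.phi_one]
    ext i k
    fin_cases i <;> fin_cases k <;> simp [Valid.lift, qFive_dA, hz, zeta, V.phi_zero, Matrix.diagonal]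
  have hval2 : d2.val = Matrix.diagonal ![1, z, z⁻¹] := by
    rw [hd2, ← hzi, ← V.phi_one]
    ext i k
    fin_cases i <;> fin_cases k <;> simp [Valid.lift, qFive_dB, hz, zeta, V.phi_zero, Matrix.diagonal]
  have he : d = d1 ^ a * d2 ^ (a + b) := by
    refine Units.ext ?_
    rw [hdval, Units.val_mul, Units.val_pow_eq_pow_val, Units.val_pow_eq_pow_val, hval1, hval2,
      Matrix.diagonal_pow, Matrix.diagonal_pow, Matrix.diagonal_mul_diagonal]
    congr 1
    have hz0 : z ≠ 0 := hprim.ne_zero (by norm_num)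
    have hη00 : η 0 ≠ 0 := left_ne_zero_of_mul (left_ne_zero_of_mul_eq_one hdet)
    have hη2 : η 2 = (η 0 * η 1)⁻¹ := eq_inv_of_mul_eq_one_right hdet
    funext i
    fin_cases i <;> simp [ha, hb, hη2, pow_add, mul_inv_rev, hη00, mul_comm]
  have : x = y * d := by rw [hd, mul_inv_cancel_left]
  rw [this, he]
  exact mul_mem hyM (mul_mem (pow_mem hd1M a) (pow_mem hd2M _))

/-- The stabiliser of an orthogonal frame is not maximal in `SU₃(5)`. -/
theorem decomposition_five_false (hF : Fintype.card F = 5 ^ 2) {H : Subgroup (GL (Fin 3) F)}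
    {D : Fin 3 → Submodule F (Fin 3 → F)} (hH : IsMaximalIn (sunit 3 F 5) H)
    (hD : IsNondegenerateMDecomposition (Cfsg.hermForm 3 F 5) 1 D) (hle : H ≤ decompositionStabilizer D) :
    False := by
  classical
  haveI : Fact (Nat.Prime 5) := ⟨by norm_num⟩
  obtain ⟨w, V⟩ := exists_valid (p := 5) hF (Or.inr rfl)
  have hU := herm_unitary (n := 3) hF
  have hf := isSesq_of_unitary hU
  obtain ⟨v, hv⟩ := decomp_gen hD.decomp
  have hmem : ∀ i, v i ∈ D i := fun i => by rw [hv]; exact Submodule.mem_span_singleton_self _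
  have hscale : ∀ i, ∃ s : F, s ≠ 0 ∧ Cfsg.hermForm 3 F 5 (s • v i) (s • v i) = 1 := by
    intro i
    set μ := Cfsg.hermForm 3 F 5 (v i) (v i) with hμ
    have hμ0 : μ ≠ 0 := by
      obtain ⟨⟨x, hx, hne⟩, -⟩ := hD.nondegenerate i (v i) (hmem i) (v.ne_zero i)
      obtain ⟨c, rfl⟩ := Submodule.mem_span_singleton.1 (hv i ▸ hx)
      rw [hf.smul_left] at hne
      exact right_ne_zero_of_mul hne
    have hfix : μ ^ 5 = μ := by rw [← sigmaE_apply hF, hμ, ← hU.herm]
    obtain ⟨s, hs⟩ := Herm.exists_norm_eq hF (inv_ne_zero hμ0) (by rw [inv_pow, hfix])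
    refine ⟨s, s.ne_zero, ?_⟩
    rw [hf.smul_left, hf.smul_right, sigmaE_apply, ← hμ, ← mul_assoc, ← pow_succ', hs, inv_mul_cancel₀ hμ0]
  choose s hs0 hs using hscale
  obtain ⟨b, hb, hbe⟩ := exists_of_orthonormal hF (fun i => s i • v i) (fun i j => by
    by_cases hij : i = j
    · subst hij; rw [if_pos rfl]; exact hs i
    · rw [if_neg hij]
      exact hD.orthogonal i j hij _ ((D i).smul_mem _ (hmem i)) _ ((D j).smul_mem _ (hmem j)))
  have hmon : ∀ k ∈ H, ∀ i, ∃ (j : Fin 3) (ε : F), (b⁻¹ * k * b).val *ᵥ Pi.single i 1 = ε • Pi.single j 1 := by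
    intro k hk i
    obtain ⟨π, ε, -, hπ⟩ := decomp_act hv (hle hk)
    refine ⟨π i, s i * ε i * (s (π i))⁻¹, ?_⟩
    rw [mul_mulVec, mul_mulVec, hbe, Matrix.mulVec_smul, hπ, smul_smul]
    have h2 : (s i * ε i) • v (π i) = (s i * ε i * (s (π i))⁻¹) • (b.val *ᵥ Pi.single (π i) 1) := by
      rw [hbe, smul_smul, inv_mul_cancel_right₀ (hs0 _)]
    rw [h2, Matrix.mulVec_smul, inv_mulVec_mulVec]
  obtain ⟨g, hgM, hg⟩ := mem_overM V (reps := qFive_reps) qFive_unit_g qFive_stable_g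
  obtain ⟨u, hu, huM⟩ := exists_moved V qFive_k qFive_unit_u qFive_moved
  refine overgroup_false hH inf_le_right hu huM hb (fun k hk => ?_) hgM fun hgH => ?_
  · refine monomial_mem hF V ?_ (hmon k hk)
    have := conj_mem_sunit (inv_mem hb) (hH.1.le hk)
    rwa [inv_inv] at this
  · haveI := V.charP
    obtain ⟨j, ε, hε⟩ := hmon _ hgH 0
    rw [show b⁻¹ * (b * g * b⁻¹) * b = g by group, hg] at hε
    obtain ⟨c, hc, rfl⟩ := V.surj ε
    refine qFive_g_not_monomial j ⟨c, hc⟩ (funext fun k => ?_)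
    refine V.inj _ (mvC_lt _ _ _) _ (by split_ifs <;> [exact hc; norm_num]) ?_
    have h1 := congrFun hε k
    have he0 : V.liftV ![1, 0, 0] = (Pi.single 0 1 : Fin 3 → F) := by
      funext i
      fin_cases i <;> simp [Valid.liftV, V.phi_one, V.phi_zero]
    rw [← he0, V.lift_vec, Pi.smul_apply, Pi.single_apply, smul_eq_mul, mul_ite, mul_one, mul_zero] at h1
    show phi 5 w (mvC 5 qFive_g ![1, 0, 0] k) = _
    rw [show phi 5 w (mvC 5 qFive_g ![1, 0, 0] k) = V.liftV (mvC 5 qFive_g ![1, 0, 0]) k from rfl, h1]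
    split_ifs <;> simp [V.phi_zero]

end Cfsg.Lib.Linear.Asch.SUThreeTab
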