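import Cfsg.Agent.Lib.Linear.Aschbacher.SUThreeFalse

/-!
# Subfield subgroups of index two in `SU₃(3)` and `SU₃(5)`
-/

set_option autoImplicit false
set_option linter.unusedSectionVars false
set_option linter.style.haveILetI false
set_option maxRecDepth 20000
set_option maxHeartbeats 4000000

namespace Cfsg.Lib.Linear.Asch.SUThreeTab

open Cfsg.Geo Cfsg.Lib.Linear
open scoped Matrix MatrixGroups

theorem sq_class_three : ∀ a : ZMod 3, a ≠ 0 → ∃ s : ZMod 3, s ≠ 0 ∧ (s * s * a = 1 ∨ s * s * a = 2) := by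
  decide

theorem sq_class_five : ∀ a : ZMod 5, a ≠ 0 → ∃ s : ZMod 5, s ≠ 0 ∧ (s * s * a = 1 ∨ s * s * a = 2) := by
  decide

theorem two_ne_three : (2 : ZMod 3) ≠ 0 := by decide

theorem two_ne_five : (2 : ZMod 5) ≠ 0 := by decide

theorem scale_five : ∀ a d : ZMod 5, a ≠ 0 → a ^ 3 = d ^ 2 → ∃ c : ZMod 5, c ≠ 0 ∧ c ^ 2 * a = 1 ∧ c ^ 3 * d = 1 := by
  decide

theorem scale_three : ∀ a d : ZMod 3, a ≠ 0 → d * d = a ^ 3 → a = 1 := by decide

theorem norm_one_three : ∀ a b c : ZMod 3, a * a + b * b + c * c = 1 →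
    (a ≠ 0 ∧ b = 0 ∧ c = 0) ∨ (a = 0 ∧ b ≠ 0 ∧ c = 0) ∨ (a = 0 ∧ b = 0 ∧ c ≠ 0) := by decide

variable {F : Type*} [Field F] [Fintype F]

theorem diag_normal {p : ℕ} [Fact p.Prime] (hp : p = 3 ∨ p = 5) (d : Fin 3 → ZMod p) (hd : ∀ i, d i ≠ 0) :
    ∃ (Q : Matrix (Fin 3) (Fin 3) (ZMod p)) (δ : ZMod p), δ ≠ 0 ∧ Qᵀ * Matrix.diagonal d * Q = δ • 1 := by
  have hsq : ∀ a : ZMod p, a ≠ 0 → ∃ s : ZMod p, s ≠ 0 ∧ (s * s * a = 1 ∨ s * s * a = 2) := by
    rcases hp with rfl | rfl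
    · exact sq_class_three
    · exact sq_class_five
  choose! s hs0 hs using hsq
  have h2 : (2 : ZMod p) ≠ 0 := by rcases hp with rfl | rfl <;> [exact two_ne_three; exact two_ne_five]
  have hh : ∃ h : ZMod p, 2 * h = 1 := ⟨2⁻¹, mul_inv_cancel₀ h2⟩
  obtain ⟨h, hh⟩ := hh
  have hu : ∀ e : Fin 3 → ZMod p, (∀ i, e i = 1 ∨ e i = 2) →
      ∃ (Q : Matrix (Fin 3) (Fin 3) (ZMod p)) (δ : ZMod p), δ ≠ 0 ∧ Qᵀ * Matrix.diagonal e * Q = δ • 1 := by
    intro e he
    have he' : e = ![e 0, e 1, e 2] := by funext i; fin_cases i <;> rfl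
    rcases he 0 with a | a <;> rcases he 1 with b | b <;> rcases he 2 with c | c <;> rw [a, b, c] at he' <;>
      subst he'
    on_goal 1 => refine ⟨1, 1, one_ne_zero, ?_⟩
    on_goal 2 => refine ⟨!![1, 1, 0; 1, -1, 0; 0, 0, 1], 2, h2, ?_⟩
    on_goal 3 => refine ⟨!![1, 0, 1; 0, 1, 0; 1, 0, -1], 2, h2, ?_⟩
    on_goal 4 => refine ⟨!![1, 0, 0; 0, h, h; 0, h, -h], 1, one_ne_zero, ?_⟩
    on_goal 5 => refine ⟨!![1, 0, 0; 0, 1, 1; 0, 1, -1], 2, h2, ?_⟩
    on_goal 6 => refine ⟨!![h, 0, h; 0, 1, 0; h, 0, -h], 1, one_ne_zero, ?_⟩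
    on_goal 7 => refine ⟨!![h, h, 0; h, -h, 0; 0, 0, 1], 1, one_ne_zero, ?_⟩
    on_goal 8 => refine ⟨1, 2, h2, ?_⟩
    all_goals
      ext i j
      fin_cases i <;> fin_cases j <;> simp [Matrix.mul_apply, Fin.sum_univ_three, Matrix.diagonal, Matrix.one_apply]
    all_goals
      first
        | ring1
        | linear_combination hh
        | linear_combination (2 * h + 1) * hh
  obtain ⟨Q, δ, hδ, hQ⟩ := hu (fun i => s (d i) * s (d i) * d i) fun i => hs (d i) (hd i)
  refine ⟨Matrix.diagonal (fun i => s (d i)) * Q, δ, hδ, ?_⟩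
  rw [← hQ, Matrix.transpose_mul, Matrix.diagonal_transpose]
  calc Qᵀ * Matrix.diagonal (fun i => s (d i)) * Matrix.diagonal d * (Matrix.diagonal (fun i => s (d i)) * Q)
      = Qᵀ * (Matrix.diagonal (fun i => s (d i)) * Matrix.diagonal d * Matrix.diagonal (fun i => s (d i))) * Q := by
        simp only [Matrix.mul_assoc]
    _ = _ := by
        rw [Matrix.diagonal_mul_diagonal, Matrix.diagonal_mul_diagonal]
        congr 3
        funext i
        ring

/-- A symmetric matrix over the prime field is congruent to a scalar. -/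
theorem symm_normal {p : ℕ} [Fact p.Prime] (hp : p = 3 ∨ p = 5) (J : Matrix (Fin 3) (Fin 3) (ZMod p))
    (hJ : Jᵀ = J) (hdet : J.det ≠ 0) :
    ∃ (Q : Matrix (Fin 3) (Fin 3) (ZMod p)) (δ : ZMod p), δ ≠ 0 ∧ Qᵀ * J * Q = δ • 1 := by
  classical
  have h2 : (2 : ZMod p) ≠ 0 := by rcases hp with rfl | rfl <;> [exact two_ne_three; exact two_ne_five]
  haveI : Invertible (2 : ZMod p) := invertibleOfNonzero h2
  obtain ⟨v, hv⟩ := LinearMap.BilinForm.exists_orthogonal_basis (B := Matrix.toBilin' J) ⟨fun x y => by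
    simp only [Matrix.toBilin'_apply, RingHom.id_apply]
    rw [Finset.sum_comm]
    refine Finset.sum_congr rfl fun a _ => Finset.sum_congr rfl fun b _ => ?_
    rw [show J b a = J a b from congrFun (congrFun hJ a) b]
    ring⟩
  let b := v.reindex (finCongr (Module.finrank_fin_fun (n := 3) (R := ZMod p)))
  let T : Matrix (Fin 3) (Fin 3) (ZMod p) := Matrix.of fun k i => b i k
  have hT : ∀ i j, (Tᵀ * J * T) i j = Matrix.toBilin' J (b i) (b j) := fun i j => by
    simp only [Matrix.toBilin'_apply, Matrix.mul_apply, Matrix.transpose_apply, T, Matrix.of_apply, Finset.sum_mul]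
    exact Finset.sum_comm
  have hdiag : Tᵀ * J * T = Matrix.diagonal fun i => Matrix.toBilin' J (b i) (b i) := by
    ext i j
    rw [hT, Matrix.diagonal_apply]
    split_ifs with h
    · rw [h]
    · simp only [b, Module.Basis.reindex_apply]
      exact hv (fun e => h ((finCongr _).symm.injective e))
  have hTd : T.det ≠ 0 := by
    have : T = (Pi.basisFun (ZMod p) (Fin 3)).toMatrix b := by
      ext i j; simp [T, Module.Basis.toMatrix_apply]
    rw [this]
    have hu := Matrix.isUnit_det_of_right_inverse (Module.Basis.toMatrix_mul_toMatrix_flip (Pi.basisFun (ZMod p) (Fin 3)) b)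
    exact hu.ne_zero
  obtain ⟨Q, δ, hδ, hQ⟩ := diag_normal hp (fun i => Matrix.toBilin' J (b i) (b i)) fun i h0 => by
    have h1 : (Tᵀ * J * T).det = 0 := by
      rw [hdiag, Matrix.det_diagonal]
      exact Finset.prod_eq_zero (Finset.mem_univ i) h0
    rw [Matrix.det_mul, Matrix.det_mul, Matrix.det_transpose] at h1
    exact mul_ne_zero (mul_ne_zero hTd hdet) hTd h1
  refine ⟨T * Q, δ, hδ, ?_⟩
  rw [← hQ, ← hdiag, Matrix.transpose_mul]
  simp only [Matrix.mul_assoc]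

/-- An index-two subfield subgroup is conjugate to a group of real matrices up to scalars. -/
theorem subfield_normal {p : ℕ} [Fact p.Prime] (hp : p = 3 ∨ p = 5) (hF : Fintype.card F = p ^ 2)
    {F₀ : Subfield F} (hF₀ : Fintype.card F = Nat.card F₀ ^ 2) {P : GL (Fin 3) F}
    (hP : IsFormRationalStructure (Cfsg.hermForm 3 F p) F₀ 1 P) [CharP F p] :
    ∃ b ∈ Cfsg.GU 3 F p, ∀ k ∈ subfieldSubgroup F₀ P ⊓ sunit 3 F p,
      ∃ (s : F) (R : Matrix (Fin 3) (Fin 3) (ZMod p)) (ν : ZMod p),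
        (b⁻¹ * k * b).val = s • R.map (ZMod.castHom (dvd_refl p) F) ∧ Rᵀ * R = ν • 1 ∧ ν ≠ 0 := by
  classical
  set ι := ZMod.castHom (dvd_refl p) F with hι
  have hιi : Function.Injective ι := ι.injective
  have hF₀c : Nat.card F₀ = p := Nat.pow_left_injective two_ne_zero (hF₀.symm.trans hF)
  have hrange : ∀ x ∈ F₀, ∃ a : ZMod p, ι a = x := by
    have hsub : ∀ a : ZMod p, ι a ∈ F₀ := fun a => by
      rw [← ZMod.natCast_zmod_val a, map_natCast]
      exact natCast_mem F₀ _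
    have hb : Function.Bijective fun a : ZMod p => (⟨ι a, hsub a⟩ : F₀) := by
      haveI : Fintype F₀ := Fintype.ofFinite _
      exact (Fintype.bijective_iff_injective_and_card _).2 ⟨fun a c e => hιi (congrArg Subtype.val e), by
        rw [ZMod.card, ← Nat.card_eq_fintype_card, hF₀c]⟩
    intro x hx
    obtain ⟨a, ha⟩ := hb.2 ⟨x, hx⟩
    exact ⟨a, congrArg Subtype.val ha⟩
  have hσι : ∀ a : ZMod p, sigmaE hF (ι a) = ι a := fun a => by rw [sigmaE_apply, ← map_pow, ZMod.pow_card]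
  set J := P.valᵀ * P.val.map (sigmaE hF) with hJ
  have hJmem : ∀ i j, J i j ∈ F₀ := fun i j => by
    have h := hP (Pi.single i 1) (Pi.single j 1)
      (fun k => by rcases eq_or_ne k i with rfl | h <;> simp [*, F₀.one_mem, F₀.zero_mem])
      (fun k => by rcases eq_or_ne k j with rfl | h <;> simp [*, F₀.one_mem, F₀.zero_mem])
    rw [one_mul, sesq_act (isSesq_of_unitary (herm_unitary hF)), gram_herm hF, Matrix.mul_one, ← hJ] at h
    have e : sigmaE hF ∘ (Pi.single j (1 : F) : Fin 3 → F) = Pi.single j 1 := funext fun k => by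
      rcases eq_or_ne k j with rfl | h <;> simp [*]
    rwa [e, Matrix.mulVec_single_one, single_dotProduct, one_mul] at h
  choose J₀ hJ₀ using fun i j => hrange _ (hJmem i j)
  let J' : Matrix (Fin 3) (Fin 3) (ZMod p) := Matrix.of J₀
  have hJ' : J'.map ι = J := Matrix.ext fun i j => hJ₀ i j
  have hsymm : J'ᵀ = J' := by
    ext i j
    refine hιi ?_
    show ι (J₀ j i) = ι (J₀ i j)
    rw [← hσι (J₀ i j), hJ₀, hJ₀, hJ, Matrix.mul_apply, Matrix.mul_apply, map_sum]
    exact Finset.sum_congr rfl fun k _ => by simp [sigmaE_sigmaE, mul_comm]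
  have hJdet : J'.det ≠ 0 := by
    intro h0
    have h1 : J.det = 0 := by rw [← hJ', ← RingHom.mapMatrix_apply, ← RingHom.map_det, h0, map_zero]
    rw [hJ, Matrix.det_mul, Matrix.det_transpose] at h1
    rcases mul_eq_zero.1 h1 with h | h
    · exact Matrix.GeneralLinearGroup.det_ne_zero P h
    · rw [show (P.val.map (sigmaE hF)).det = sigmaE hF P.val.det from
        (RingHom.map_det (sigmaE hF).toRingHom P.val).symm] at h
      exact Matrix.GeneralLinearGroup.det_ne_zero P (by simpa using h)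
  obtain ⟨Q, δ, hδ, hQ⟩ := symm_normal hp J' hsymm hJdet
  have hιδ : ι δ ≠ 0 := by simpa using hδ
  obtain ⟨c, hc⟩ := Herm.exists_norm_eq hF (inv_ne_zero hιδ) (by rw [inv_pow, ← map_pow, ZMod.pow_card])
  have hQu : IsUnit Q.det := by
    rw [isUnit_iff_ne_zero]
    intro h0
    have h1 := congrArg Matrix.det hQ
    rw [Matrix.det_mul, Matrix.det_mul, h0, mul_zero, Matrix.det_smul, Matrix.det_one, mul_one] at h1
    exact pow_ne_zero _ hδ h1.symm
  have hQQ : Q.map ι * (Q⁻¹).map ι = 1 := by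
    rw [← Matrix.map_mul, Matrix.mul_nonsing_inv _ hQu, Matrix.map_one ι (map_zero _) (map_one _)]
  set A : Matrix (Fin 3) (Fin 3) F := (c : F) • (P.val * Q.map ι) with hA
  have hAσ : Aᵀ * A.map (sigmaE hF) = 1 := by
    have e1 : A.map (sigmaE hF) = sigmaE hF c • (P.val.map (sigmaE hF) * Q.map ι) := by
      rw [hA, Matrix.map_smul' (sigmaE hF), Matrix.map_mul]
      · congr 2
        exact Matrix.ext fun i j => hσι (Q i j)
      · exact map_mul _
    rw [e1, hA, Matrix.transpose_smul, Matrix.smul_mul, Matrix.mul_smul, smul_smul, Matrix.transpose_mul,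
      Matrix.mul_assoc, ← Matrix.mul_assoc P.valᵀ, ← hJ, ← hJ', ← Matrix.transpose_map, ← Matrix.map_mul,
      ← Matrix.map_mul, ← Matrix.mul_assoc, hQ, sigmaE_apply, ← pow_succ', hc, Matrix.map_smul' ι δ _ (map_mul _),
      Matrix.map_one ι (map_zero _) (map_one _), smul_smul, inv_mul_cancel₀ hιδ, one_smul]
  obtain ⟨b, hb, hbv⟩ : ∃ b ∈ Cfsg.GU 3 F p, b.val = A := by
    obtain ⟨b, hb, hbe⟩ := exists_of_orthonormal hF (fun i k => A k i) fun i j => by
      rw [← Matrix.one_apply, ← hAσ, Matrix.mul_apply]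
      simp [Cfsg.hermForm, sigmaE_apply]
    refine ⟨b, hb, Matrix.ext fun k i => ?_⟩
    have := congrFun (hbe i) k
    rwa [Matrix.mulVec_single_one] at this
  refine ⟨b, hb, fun k hk => ?_⟩
  obtain ⟨d, hd0, hd⟩ := (mem_subfieldSubgroup_iff F₀ P k).1 hk.1
  choose N₀ hN₀ using fun i j => hrange _ (hd i j)
  let R : Matrix (Fin 3) (Fin 3) (ZMod p) := Q⁻¹ * Matrix.of N₀ * Q
  have hN : (Matrix.of N₀).map ι = d • (P⁻¹ * k * P).val := Matrix.ext fun i j => hN₀ i j
  have hR : (b⁻¹ * k * b).val = d⁻¹ • R.map ι := by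
    have h1 : b.val * (R.map ι) = d • (k.val * b.val) := by
      rw [hbv, hA, Matrix.smul_mul, Matrix.mul_smul, smul_comm d]
      congr 1
      rw [Matrix.map_mul, Matrix.map_mul, hN]
      calc P.val * Q.map ι * ((Q⁻¹).map ι * (d • (P⁻¹ * k * P).val) * Q.map ι)
          = P.val * (Q.map ι * (Q⁻¹).map ι) * (d • (P⁻¹ * k * P).val) * Q.map ι := by
            simp only [Matrix.mul_assoc]
        _ = d • (k.val * (P.val * Q.map ι)) := by
            rw [hQQ, Matrix.mul_one, Matrix.mul_smul, Matrix.smul_mul, ← Units.val_mul,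
              show P * (P⁻¹ * k * P) = k * P by group, Units.val_mul, Matrix.mul_assoc]
    calc (b⁻¹ * k * b).val = d⁻¹ • (b⁻¹.val * (b.val * R.map ι)) := by
          rw [h1, Matrix.mul_smul, smul_smul, inv_mul_cancel₀ hd0, one_smul, Units.val_mul, Units.val_mul,
            Matrix.mul_assoc]
      _ = d⁻¹ • R.map ι := by rw [← Matrix.mul_assoc, Units.inv_mul, Matrix.one_mul]
  have hbk : b⁻¹ * k * b ∈ Cfsg.GU 3 F p := mul_mem (mul_mem (inv_mem hb) hk.2.1) hb
  have hg := gu_gram hF hbk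
  have hcoef : d⁻¹ * sigmaE hF d⁻¹ ≠ 0 :=
    mul_ne_zero (inv_ne_zero hd0) fun h => inv_ne_zero hd0 (by simpa using h)
  rw [hR, Matrix.transpose_smul, Matrix.map_smul' (sigmaE hF) _ _ (map_mul _),
    show (R.map ι).map (sigmaE hF) = R.map ι from Matrix.ext fun i j => hσι (R i j), Matrix.smul_mul,
    Matrix.mul_smul, smul_smul, ← Matrix.transpose_map, ← Matrix.map_mul] at hg
  have hRR : ∀ i j, (d⁻¹ * sigmaE hF d⁻¹) * ι ((Rᵀ * R) i j) = if i = j then 1 else 0 := fun i j => by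
    have := congrFun (congrFun hg i) j
    rw [Matrix.smul_apply, Matrix.map_apply, smul_eq_mul, Matrix.one_apply] at this
    exact this
  refine ⟨d⁻¹, R, (Rᵀ * R) 0 0, hR, Matrix.ext fun i j => hιi (mul_left_cancel₀ hcoef ?_), fun h => ?_⟩
  · rw [hRR, Matrix.smul_apply, Matrix.one_apply, smul_eq_mul, mul_ite, mul_one, mul_zero]
    split_ifs with h
    · rw [hRR 0 0, if_pos rfl]
    · rw [map_zero, mul_zero]
  · have := hRR 0 0
    rw [if_pos rfl, h, map_zero, mul_zero] at this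
    exact zero_ne_one this

/-- The real special orthogonal generators. -/
def soGen : Fin 3 → Matrix (Fin 3) (Fin 3) (ZMod 5) :=
  ![!![0, 0, 1; 1, 0, 0; 0, 1, 0], !![1, 0, 0; 0, 0, 4; 0, 1, 0], !![1, 1, 2; 1, 2, 1; 2, 1, 1]]

/-- Product of three terms with a vector, written out. -/
def soStep (i : Fin 3) (v : Fin 3 → ZMod 5) : Fin 3 → ZMod 5 := fun k =>
  soGen i k 0 * v 0 + soGen i k 1 * v 1 + soGen i k 2 * v 2

theorem soGen_orth : ∀ i, (soGen i)ᵀ * soGen i = 1 ∧ (soGen i).det = 1 := by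
  intro i
  fin_cases i <;> refine ⟨by decide, ?_⟩ <;> rw [Matrix.det_fin_three] <;> decide

theorem so_column : ∀ a b c : ZMod 5, a * a + b * b + c * c = 1 →
    ∀ j : Fin 3, ((soWord ⟨(a.val + 5 * b.val + 25 * c.val) % 125, Nat.mod_lt _ (by norm_num)⟩).foldr soStep
      ![1, 0, 0]) j = ![a, b, c] j := by decide

theorem so_block : ∀ a b c d : ZMod 5, a * a + c * c = 1 → b * b + d * d = 1 → a * b + c * d = 0 →
    a * d - b * c = 1 →
    (a = 1 ∧ b = 0 ∧ c = 0 ∧ d = 1) ∨ (a = 0 ∧ b = 4 ∧ c = 1 ∧ d = 0) ∨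
    (a = 4 ∧ b = 0 ∧ c = 0 ∧ d = 4) ∨ (a = 0 ∧ b = 1 ∧ c = 4 ∧ d = 0) := by decide

theorem rot_sq : (soGen 1 * soGen 1) 0 0 = 1 ∧ (soGen 1 * soGen 1) 0 1 = 0 ∧ (soGen 1 * soGen 1) 0 2 = 0 ∧ (soGen 1 * soGen 1) 1 0 = 0 ∧ (soGen 1 * soGen 1) 2 0 = 0 ∧ (soGen 1 * soGen 1) 1 1 = 4 ∧ (soGen 1 * soGen 1) 1 2 = 0 ∧ (soGen 1 * soGen 1) 2 1 = 0 ∧ (soGen 1 * soGen 1) 2 2 = 4 := by
  decide

theorem rot_cube : (soGen 1 * soGen 1 * soGen 1) 0 0 = 1 ∧ (soGen 1 * soGen 1 * soGen 1) 0 1 = 0 ∧ (soGen 1 * soGen 1 * soGen 1) 0 2 = 0 ∧ (soGen 1 * soGen 1 * soGen 1) 1 0 = 0 ∧ (soGen 1 * soGen 1 * soGen 1) 2 0 = 0 ∧ (soGen 1 * soGen 1 * soGen 1) 1 1 = 0 ∧ (soGen 1 * soGen 1 * soGen 1) 1 2 = 1 ∧ (soGen 1 * soGen 1 * soGen 1) 2 1 = 4 ∧ (soGen 1 * soGen 1 * soGen 1) 2 2 = 0 := by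
  decide

/-- A matrix of `SO₃(5)` lies in the overgroup. -/
theorem so_mem [Fact (Nat.Prime 5)] [CharP F 5] {w : F} (V : Valid 5 w) (R : Matrix (Fin 3) (Fin 3) (ZMod 5))
    (hR : Rᵀ * R = 1) (hdet : R.det = 1) :
    ∃ x ∈ overM V qFive_reps, x.val = R.map (ZMod.castHom (dvd_refl 5) F) := by
  set ι := ZMod.castHom (dvd_refl 5) F with hι
  let InM : Matrix (Fin 3) (Fin 3) (ZMod 5) → Prop := fun A => ∃ x ∈ overM V qFive_reps, x.val = A.map ι
  have hmul : ∀ A B, InM A → InM B → InM (A * B) := by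
    rintro A B ⟨x, hx, hx'⟩ ⟨y, hy, hy'⟩
    exact ⟨x * y, mul_mem hx hy, by rw [Units.val_mul, hx', hy', Matrix.map_mul]⟩
  have hcode : ∀ (A : Matrix (Fin 3) (Fin 3) (ZMod 5)) (C : CMat), (∀ i j, C i j = (A i j).val) →
      V.lift C = A.map ι := fun A C hC => Matrix.ext fun i j => by
    show phi 5 w (C i j) = ι (A i j)
    rw [hC, phi_natCast (ZMod.val_lt _), ← map_natCast ι, ZMod.natCast_zmod_val]
  have hgen : ∀ i, InM (soGen i) := by
    intro i
    fin_cases i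
    · obtain ⟨x, hx, hx'⟩ := mem_overM V (reps := qFive_reps) qFive_unit_cy qFive_stable_cy
      exact ⟨x, hx, hx'.trans (hcode _ _ (by decide))⟩
    · obtain ⟨x, hx, hx'⟩ := mem_overM V (reps := qFive_reps) qFive_unit_rot qFive_stable_rot
      exact ⟨x, hx, hx'.trans (hcode _ _ (by decide))⟩
    · obtain ⟨x, hx, hx'⟩ := mem_overM V (reps := qFive_reps) qFive_unit_ext qFive_stable_ext
      exact ⟨x, hx, hx'.trans (hcode _ _ (by decide))⟩
  have hone : InM 1 := ⟨1, one_mem _, by rw [Units.val_one, Matrix.map_one ι (map_zero _) (map_one _)]⟩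
  have hword : ∀ l : List (Fin 3), ∃ W : Matrix (Fin 3) (Fin 3) (ZMod 5), InM W ∧ Wᵀ * W = 1 ∧ W.det = 1 ∧
      W *ᵥ ![1, 0, 0] = l.foldr soStep ![1, 0, 0] := by
    intro l
    induction l with
    | nil => exact ⟨1, hone, by simp, by simp, by simp⟩
    | cons i l ih =>
      obtain ⟨W, hW, hWo, hWd, hWv⟩ := ih
      refine ⟨soGen i * W, hmul _ _ (hgen i) hW, ?_, ?_, ?_⟩
      · rw [Matrix.transpose_mul, Matrix.mul_assoc, ← Matrix.mul_assoc (soGen i)ᵀ, (soGen_orth i).1,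
          Matrix.one_mul, hWo]
      · rw [Matrix.det_mul, (soGen_orth i).2, hWd, one_mul]
      · rw [← Matrix.mulVec_mulVec, hWv, List.foldr_cons]
        funext k
        simp [soStep, Matrix.mulVec, dotProduct, Fin.sum_univ_three]
  have hcol : ∀ (A : Matrix (Fin 3) (Fin 3) (ZMod 5)), Aᵀ * A = 1 → ∀ i j,
      A 0 i * A 0 j + A 1 i * A 1 j + A 2 i * A 2 j = if i = j then 1 else 0 := fun A hA i j => by
    have := congrFun (congrFun hA i) j
    rwa [Matrix.mul_apply, Matrix.one_apply, Fin.sum_univ_three] at this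
  obtain ⟨W, hW, hWo, hWd, hWv⟩ := hword (soWord ⟨((R 0 0).val + 5 * (R 1 0).val + 25 * (R 2 0).val) % 125,
    Nat.mod_lt _ (by norm_num)⟩)
  have hWv' : ∀ j, W j 0 = R j 0 := fun j => by
    have h1 := so_column (R 0 0) (R 1 0) (R 2 0) (by simpa using hcol R hR 0 0) j
    rw [← hWv] at h1
    have h2 : W *ᵥ ![1, 0, 0] = W.col 0 := by
      funext k; simp [Matrix.mulVec, dotProduct, Fin.sum_univ_three, Matrix.col]
    rw [h2] at h1
    rw [show W j 0 = W.col 0 j from rfl, h1]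
    fin_cases j <;> rfl
  set m := Wᵀ * R with hm
  have hmo : mᵀ * m = 1 := by
    rw [hm, Matrix.transpose_mul, Matrix.transpose_transpose, Matrix.mul_assoc, ← Matrix.mul_assoc W,
      mul_eq_one_comm.1 hWo, Matrix.one_mul, hR]
  have hmd : m.det = 1 := by rw [hm, Matrix.det_mul, Matrix.det_transpose, hWd, hdet, one_mul]
  have hm0 : ∀ j, m j 0 = (1 : Matrix (Fin 3) (Fin 3) (ZMod 5)) j 0 := fun j => by
    rw [← hWo, hm]
    simp [Matrix.mul_apply, hWv']
  have hrow : ∀ j, m 0 j = (1 : Matrix (Fin 3) (Fin 3) (ZMod 5)) 0 j := fun j => by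
    have h := hcol m hmo 0 j
    rw [hm0 0, hm0 1, hm0 2] at h
    simpa [Matrix.one_apply] using h
  have e10 : m 1 0 = 0 := by simpa using hm0 1
  have e20 : m 2 0 = 0 := by simpa using hm0 2
  have e00 : m 0 0 = 1 := by simpa using hm0 0
  have e01 : m 0 1 = 0 := by simpa using hrow 1
  have e02 : m 0 2 = 0 := by simpa using hrow 2
  have hmM : InM m := by
    have h11 := hcol m hmo 1 1
    have h22 := hcol m hmo 2 2
    have h12 := hcol m hmo 1 2
    rw [Matrix.det_fin_three, e00, e01, e02, e10, e20] at hmd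
    rw [e01, if_pos rfl] at h11
    rw [e02, if_pos rfl] at h22
    rw [e01, e02, if_neg (by decide)] at h12
    simp only [mul_zero, zero_mul, zero_add, add_zero, sub_zero, one_mul] at h11 h22 h12 hmd
    have hG := hgen 1
    have heq : ∀ A : Matrix (Fin 3) (Fin 3) (ZMod 5), A 0 0 = 1 → A 0 1 = 0 → A 0 2 = 0 → A 1 0 = 0 →
        A 2 0 = 0 → A 1 1 = m 1 1 → A 1 2 = m 1 2 → A 2 1 = m 2 1 → A 2 2 = m 2 2 → m = A := by
      intro A a0 a1 a2 a3 a4 a5 a6 a7 a8
      ext i j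
      fin_cases i <;> fin_cases j <;> simp [a0, a1, a2, a3, a4, a5, a6, a7, a8, e00, e01, e02, e10, e20]
    rcases so_block (m 1 1) (m 1 2) (m 2 1) (m 2 2) h11 h22 h12 (by linear_combination hmd) with
      ⟨a, b, c, d⟩ | ⟨a, b, c, d⟩ | ⟨a, b, c, d⟩ | ⟨a, b, c, d⟩
    · rw [heq 1 rfl rfl rfl rfl rfl (by rw [a]; rfl) (by rw [b]; rfl) (by rw [c]; rfl) (by rw [d]; rfl)]
      exact hone
    · rw [heq (soGen 1) rfl rfl rfl rfl rfl (by rw [a]; rfl) (by rw [b]; rfl) (by rw [c]; rfl) (by rw [d]; rfl)]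
      exact hG
    · obtain ⟨f0, f1, f2, f3, f4, f5, f6, f7, f8⟩ := rot_sq
      rw [heq (soGen 1 * soGen 1) f0 f1 f2 f3 f4 (f5.trans a.symm) (f6.trans b.symm) (f7.trans c.symm) (f8.trans d.symm)]
      exact hmul _ _ hG hG
    · obtain ⟨f0, f1, f2, f3, f4, f5, f6, f7, f8⟩ := rot_cube
      rw [heq (soGen 1 * soGen 1 * soGen 1) f0 f1 f2 f3 f4 (f5.trans a.symm) (f6.trans b.symm) (f7.trans c.symm) (f8.trans d.symm)]
      exact hmul _ _ (hmul _ _ hG hG) hG
  have hRW : R = W * m := by rw [hm, ← Matrix.mul_assoc, mul_eq_one_comm.1 hWo, Matrix.one_mul]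
  rw [hRW]
  exact hmul _ _ hW hmM

/-- The index-two subfield subgroup is not maximal in `SU₃(5)`. -/
theorem subfield_five_false (hF : Fintype.card F = 5 ^ 2) {H : Subgroup (GL (Fin 3) F)} {F₀ : Subfield F}
    {P : GL (Fin 3) F} (hH : IsMaximalIn (sunit 3 F 5) H) (hF₀ : Fintype.card F = Nat.card F₀ ^ 2)
    (hP : IsFormRationalStructure (Cfsg.hermForm 3 F 5) F₀ 1 P) (hle : H ≤ subfieldSubgroup F₀ P) : False := by
  classical
  haveI : Fact (Nat.Prime 5) := ⟨by norm_num⟩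
  haveI : Nonempty (Fin 3) := ⟨0⟩
  obtain ⟨w, V⟩ := exists_valid (p := 5) hF (Or.inr rfl)
  haveI := V.charP
  set ι := ZMod.castHom (dvd_refl 5) F with hι
  obtain ⟨b, hb, hnorm⟩ := subfield_normal (Or.inr rfl) hF hF₀ hP
  obtain ⟨g, hgM, hg⟩ := mem_overM V (reps := qFive_reps) qFive_unit_g qFive_stable_g
  obtain ⟨u, hu, huM⟩ := exists_moved V qFive_k qFive_unit_u qFive_moved
  refine overgroup_false hH inf_le_right hu huM hb (fun k hk => ?_) hgM fun hgH => ?_
  · obtain ⟨s, R, ν, hR, hRR, hν⟩ := hnorm k ⟨hle hk, hH.1.le hk⟩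
    have hS : b⁻¹ * k * b ∈ sunit 3 F 5 := by
      have := conj_mem_sunit (inv_mem hb) (hH.1.le hk)
      rwa [inv_inv] at this
    have hd : ν ^ 3 = R.det ^ 2 := by
      have h1 := congrArg Matrix.det hRR
      rw [Matrix.det_mul, Matrix.det_transpose, Matrix.det_smul, Matrix.det_one, mul_one, Fintype.card_fin] at h1
      rw [sq, h1]
    obtain ⟨c, hc0, hcν, hcd⟩ : ∃ c : ZMod 5, c ≠ 0 ∧ c ^ 2 * ν = 1 ∧ c ^ 3 * R.det = 1 := by
      exact scale_five ν R.det hν hd
    obtain ⟨x, hxM, hx⟩ := so_mem V (c • R) (by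
      rw [Matrix.transpose_smul, Matrix.smul_mul, Matrix.mul_smul, smul_smul, hRR, smul_smul, ← sq, hcν, one_smul])
      (by rw [Matrix.det_smul, Fintype.card_fin, hcd])
    set n := b⁻¹ * k * b with hn
    have hιc : ι c ≠ 0 := by simpa using hc0
    have hdiff : n * x⁻¹ ∈ scalars (Fin 3) F := by
      refine mem_scalars_of_smul (c := s * (ι c)⁻¹) ?_
      have h1 : n.val = (s * (ι c)⁻¹) • x.val := by
        rw [hR, hx, Matrix.map_smul' ι _ _ (map_mul _), smul_smul, mul_assoc, inv_mul_cancel₀ hιc, mul_one]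
      rw [Units.val_mul, h1, Matrix.smul_mul, Units.mul_inv]
    have : n = (n * x⁻¹) * x := by rw [inv_mul_cancel_right]
    rw [this]
    exact mul_mem (scalar_mem_overM V (mul_mem hS (inv_mem hxM.2)) hdiff) hxM
  · obtain ⟨s, R, ν, hR, hRR, hν⟩ := hnorm _ ⟨hle hgH, hH.1.le hgH⟩
    rw [show b⁻¹ * (b * g * b⁻¹) * b = g by group, hg] at hR
    have hs0 : s ≠ 0 := fun h => by
      rw [h, zero_smul, ← hg] at hR
      exact g.isUnit.ne_zero hR
    obtain ⟨c, hc, hcs⟩ := V.surj s⁻¹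
    obtain ⟨i, j, hij⟩ := qFive_g_not_real ⟨c, hc⟩
    rcases hij with hij | hij
    · refine hij ?_
      have h1 : phi 5 w (mulC 5 c (qFive_g i j)) = phi 5 w (R i j).val := by
        rw [phi_mul V.sq, hcs, phi_natCast (ZMod.val_lt _), ← map_natCast ι, ZMod.natCast_zmod_val]
        have := congrFun (congrFun hR i) j
        rw [show phi 5 w (qFive_g i j) = V.lift qFive_g i j from rfl, this]
        rw [Matrix.smul_apply, Matrix.map_apply, smul_eq_mul, ← mul_assoc, inv_mul_cancel₀ hs0, one_mul]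
      show mulC 5 c (qFive_g i j) < 5
      rw [V.inj _ (mulC_lt _ _) _ (lt_trans (ZMod.val_lt _) (by norm_num)) h1]
      exact ZMod.val_lt _
    · rw [show c = 0 from hij, V.phi_zero] at hcs
      exact inv_ne_zero hs0 hcs.symm

/-- The index-two subfield subgroup of `SU₃(3)` stabilises an orthogonal frame. -/
theorem subfield_three_frame (hF : Fintype.card F = 3 ^ 2) {H : Subgroup (GL (Fin 3) F)} {F₀ : Subfield F}
    {P : GL (Fin 3) F} (hHS : H ≤ sunit 3 F 3) (hF₀ : Fintype.card F = Nat.card F₀ ^ 2)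
    (hP : IsFormRationalStructure (Cfsg.hermForm 3 F 3) F₀ 1 P) (hle : H ≤ subfieldSubgroup F₀ P) :
    ∃ D : Fin 3 → Submodule F (Fin 3 → F), IsNondegenerateMDecomposition (Cfsg.hermForm 3 F 3) 1 D ∧
      H ≤ decompositionStabilizer D := by
  classical
  haveI : Fact (Nat.Prime 3) := ⟨by norm_num⟩
  haveI := charP_of_card (p := 3) hF
  set ι := ZMod.castHom (dvd_refl 3) F with hι
  obtain ⟨b, hb, hnorm⟩ := subfield_normal (Or.inl rfl) hF hF₀ hP
  have hf := isSesq_of_unitary (herm_unitary (n := 3) hF)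
  let v : Fin 3 → (Fin 3 → F) := fun i => b.val *ᵥ Pi.single i 1
  have horth : ∀ i j, Cfsg.hermForm 3 F 3 (v i) (v j) = if i = j then 1 else 0 := fun i j => by
    rw [show Cfsg.hermForm 3 F 3 (v i) (v j) = Cfsg.hermForm 3 F 3 (Pi.single i 1) (Pi.single j 1) from hb _ _]
    by_cases h : i = j
    · subst h; simp [Cfsg.hermForm, Pi.single_apply]
    · simp [Cfsg.hermForm, Pi.single_apply, h, Ne.symm h]
  let e : (Fin 3 → F) ≃ₗ[F] (Fin 3 → F) :=
    LinearEquiv.ofBijective (Matrix.toLin' b.val) ⟨fun x y h => by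
      rw [Matrix.toLin'_apply, Matrix.toLin'_apply] at h
      simpa [inv_mulVec_mulVec] using congrArg ((b⁻¹).val *ᵥ ·) h,
      fun y => ⟨(b⁻¹).val *ᵥ y, by rw [Matrix.toLin'_apply, mulVec_inv_mulVec]⟩⟩
  let B := (Pi.basisFun F (Fin 3)).map e
  have hB : ∀ i, B i = v i := fun i => by rw [Module.Basis.map_apply, Pi.basisFun_apply]; exact Matrix.toLin'_apply _ _
  refine ⟨fun i => Submodule.span F {v i}, ⟨⟨by norm_num, one_pos, fun i => ?_, ?_, ?_⟩, fun i x hx hx0 => ?_,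
    fun i j hij x hx y hy => ?_⟩, fun k hk => ?_⟩
  · rw [← hB]; exact finrank_span_singleton (B.ne_zero i)
  · simp only [← hB]
    exact B.linearIndependent.iSupIndep_span_singleton
  · simp only [← hB]
    rw [← Submodule.span_range_eq_iSup, B.span_eq]
  · obtain ⟨a, rfl⟩ := Submodule.mem_span_singleton.1 hx
    have ha : a ≠ 0 := fun h => hx0 (by rw [h, zero_smul])
    refine ⟨⟨v i, Submodule.mem_span_singleton_self _, ?_⟩, ⟨v i, Submodule.mem_span_singleton_self _, ?_⟩⟩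
    · rw [hf.smul_right, horth, if_pos rfl, mul_one]; simpa using ha
    · rw [hf.smul_left, horth, if_pos rfl, mul_one]; exact ha
  · obtain ⟨a, rfl⟩ := Submodule.mem_span_singleton.1 hx
    obtain ⟨c, rfl⟩ := Submodule.mem_span_singleton.1 hy
    rw [hf.smul_left, hf.smul_right, horth, if_neg hij, mul_zero, mul_zero]
  obtain ⟨s, R, ν, hR, hRR, hν⟩ := hnorm k ⟨hle hk, hHS hk⟩
  have hν1 : ν = 1 := by
    have h1 := congrArg Matrix.det hRR
    rw [Matrix.det_mul, Matrix.det_transpose, Matrix.det_smul, Matrix.det_one, mul_one, Fintype.card_fin] at h1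
    exact scale_three ν R.det hν h1
  subst hν1
  have hs0 : s ≠ 0 := fun h => by
    rw [h, zero_smul] at hR
    exact (b⁻¹ * k * b).isUnit.ne_zero hR
  have hcol : ∀ i, ∃ j, R j i ≠ 0 ∧ ∀ l, l ≠ j → R l i = 0 := fun i => by
    have h1 := congrFun (congrFun hRR i) i
    simp [Matrix.mul_apply, Fin.sum_univ_three] at h1
    rcases norm_one_three _ _ _ h1 with ⟨a, b, c⟩ | ⟨a, b, c⟩ | ⟨a, b, c⟩
    · exact ⟨0, a, fun l hl => by fin_cases l <;> first | exact absurd rfl hl | assumption⟩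
    · exact ⟨1, b, fun l hl => by fin_cases l <;> first | exact absurd rfl hl | assumption⟩
    · exact ⟨2, c, fun l hl => by fin_cases l <;> first | exact absurd rfl hl | assumption⟩
  choose j hj0 hj using hcol
  have hact : ∀ i, k.val *ᵥ v i = (s * ι (R (j i) i)) • v (j i) := by
    intro i
    have h1 : (b⁻¹ * k * b).val *ᵥ Pi.single i 1 = (s * ι (R (j i) i)) • Pi.single (j i) 1 := by
      rw [hR, Matrix.smul_mulVec, Matrix.mulVec_single_one, mul_smul]
      congr 1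
      funext l
      rw [Pi.smul_apply, Pi.single_apply, smul_eq_mul, mul_ite, mul_one, mul_zero]
      show ι (R l i) = _
      by_cases hl : l = j i
      · rw [if_pos hl, hl]
      · rw [if_neg hl, hj i l hl, map_zero]
    have h2 := congrArg (b.val *ᵥ ·) h1
    simp only [← mul_mulVec, Matrix.mulVec_smul] at h2
    rw [show b * (b⁻¹ * k * b) = k * b by group, mul_mulVec] at h2
    exact h2
  have hjinj : Function.Injective j := by
    intro x y hxy
    by_contra hne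
    have h1 := congrFun (congrFun hRR x) y
    rw [Matrix.mul_apply, Matrix.smul_apply, Matrix.one_apply_ne hne, smul_zero,
      Finset.sum_eq_single (j x) (fun l _ hl => by rw [Matrix.transpose_apply, hj x l hl, zero_mul]) (by simp),
      Matrix.transpose_apply] at h1
    exact mul_ne_zero (hj0 x) (hxy ▸ hj0 y) h1
  refine ⟨Equiv.ofBijective j (Finite.injective_iff_bijective.1 hjinj), fun i => ?_⟩
  rw [Submodule.map_span, Set.image_singleton, Matrix.toLin'_apply, hact, Equiv.ofBijective_apply]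
  exact Submodule.span_singleton_smul_eq (IsUnit.mk0 _ (mul_ne_zero hs0 (by simpa using hj0 i))) _

end Cfsg.Lib.Linear.Asch.SUThreeTab
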