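import Cfsg.Agent.Lib.Linear.Aschbacher.UnitaryForms

/-!
# Computing with three-dimensional matrices over a field with `p²` elements

The field is `ZMod p [w]` with `w² = 2`; the element `a + b w` is coded by the number `a + p b`.
-/

set_option autoImplicit false
set_option linter.unusedSectionVars false
set_option linter.style.haveILetI false

namespace Cfsg.Lib.Linear.Asch.SUThreeTab

open Cfsg.Geo Cfsg.Lib.Linear
open scoped Matrix MatrixGroups

/-- Sum of two codes. -/
def addC (p i j : ℕ) : ℕ := (i % p + j % p) % p + p * ((i / p + j / p) % p)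

/-- Product of two codes. -/
def mulC (p i j : ℕ) : ℕ :=
  ((i % p) * (j % p) + 2 * ((i / p) * (j / p))) % p + p * (((i % p) * (j / p) + (i / p) * (j % p)) % p)

/-- Conjugate of a code. -/
def conjC (p i : ℕ) : ℕ := i % p + p * (((p - 1) * (i / p)) % p)

/-- Negative of a code. -/
def negC (p i : ℕ) : ℕ := mulC p (p - 1) i

/-- A coded matrix. -/
abbrev CMat : Type := Fin 3 → Fin 3 → ℕ

/-- A coded vector. -/
abbrev CVec : Type := Fin 3 → ℕ

/-- Inner product. -/
def dotC (p : ℕ) (a b : CVec) : ℕ :=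
  addC p (addC p (mulC p (a 0) (b 0)) (mulC p (a 1) (b 1))) (mulC p (a 2) (b 2))

/-- Matrix product. -/
def mmC (p : ℕ) (A B : CMat) : CMat := fun i j => dotC p (A i) fun k => B k j

/-- Matrix times vector. -/
def mvC (p : ℕ) (A : CMat) (v : CVec) : CVec := fun i => dotC p (A i) v

/-- Identity. -/
def oneC : CMat := fun i j => if i = j then 1 else 0

/-- Trace. -/
def trC (p : ℕ) (A : CMat) : ℕ := addC p (addC p (A 0 0) (A 1 1)) (A 2 2)

/-- Determinant. -/
def detC (p : ℕ) (A : CMat) : ℕ :=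
  let e (i j k : Fin 3) : ℕ := mulC p (mulC p (A 0 i) (A 1 j)) (A 2 k)
  addC p (addC p (addC p (addC p (addC p (e 0 1 2) (e 1 2 0)) (e 2 0 1)) (negC p (e 0 2 1))) (negC p (e 2 1 0)))
    (negC p (e 1 0 2))

/-- The unitary condition. -/
def isUC (p : ℕ) (A : CMat) : Prop := mmC p (fun i j => A j i) (fun i j => conjC p (A i j)) = oneC

instance (p : ℕ) (A : CMat) : Decidable (isUC p A) := inferInstanceAs (Decidable (_ = _))

variable {F : Type*} [Field F] {p : ℕ} [hp : Fact p.Prime]

/-- The field element of a code. -/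
def phi (p : ℕ) (w : F) (i : ℕ) : F := ((i % p : ℕ) : F) + ((i / p : ℕ) : F) * w

theorem phi_pair [CharP F p] {w : F} (a b : ℕ) : phi p w (a % p + p * (b % p)) = (a : F) + (b : F) * w := by
  have h : a % p < p := Nat.mod_lt _ hp.out.pos
  rw [phi, Nat.add_mul_mod_self_left, Nat.add_mul_div_left _ _ hp.out.pos, Nat.mod_mod, Nat.div_eq_of_lt h, zero_add,
    CharP.cast_eq_mod F p a, CharP.cast_eq_mod F p b]

theorem phi_natCast {w : F} {i : ℕ} (hi : i < p) : phi p w i = (i : F) := by
  rw [phi, Nat.mod_eq_of_lt hi, Nat.div_eq_of_lt hi, Nat.cast_zero, zero_mul, add_zero]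

theorem phi_add [CharP F p] {w : F} (i j : ℕ) : phi p w (addC p i j) = phi p w i + phi p w j := by
  rw [addC, phi_pair]
  push_cast [phi]
  ring

theorem phi_mul [CharP F p] {w : F} (hw : w ^ 2 = 2) (i j : ℕ) :
    phi p w (mulC p i j) = phi p w i * phi p w j := by
  rw [mulC, phi_pair]
  push_cast [phi]
  linear_combination (-((i / p : ℕ) : F) * ((j / p : ℕ) : F)) * hw

theorem phi_neg [CharP F p] {w : F} (hw : w ^ 2 = 2) (i : ℕ) : phi p w (negC p i) = -phi p w i := by
  rw [negC, phi_mul hw, phi_natCast (Nat.sub_lt hp.out.pos one_pos), Nat.cast_sub hp.out.one_le, CharP.cast_eq_zero F p]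
  ring

variable [Fintype F]

theorem charP_of_card (hF : Fintype.card F = p ^ 2) : CharP F p := by
  obtain ⟨r, hr⟩ := CharP.exists F
  obtain ⟨n, hrp, hn⟩ := FiniteField.card F r
  have h1 : r ∣ p ^ 2 := by rw [← hF, hn]; exact dvd_pow_self r n.ne_zero
  have h2 := (Nat.prime_dvd_prime_iff_eq hrp hp.out).1 (hrp.dvd_of_dvd_pow h1)
  exact h2 ▸ hr

/-- The parameters of the coding are valid. -/
structure Valid (p : ℕ) (w : F) : Prop where
  card : Fintype.card F = p ^ 2
  sq : w ^ 2 = 2
  conj : w ^ p = -w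
  inj : ∀ i < p ^ 2, ∀ j < p ^ 2, phi p w i = phi p w j → i = j

theorem exists_valid (hF : Fintype.card F = p ^ 2) (hp35 : p = 3 ∨ p = 5) : ∃ w : F, Valid p w := by
  haveI := charP_of_card (p := p) hF
  have hr : ringChar F = p := ringChar.eq F p
  obtain ⟨w, hw⟩ : IsSquare (2 : F) := by
    have h2 : (2 : F) ≠ 0 := Ring.two_ne_zero (by rw [hr]; omega)
    rw [FiniteField.isSquare_iff (by rw [hr]; omega) h2, hF]
    have : (((2 ^ (p ^ 2 / 2) : ℕ)) : F) = ((1 : ℕ) : F) := by
      rw [CharP.natCast_eq_natCast F p]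
      rcases hp35 with rfl | rfl <;> decide
    simpa using this
  have hw2 : w ^ 2 = 2 := by rw [sq]; exact hw.symm
  have hcast : ∀ a : ℕ, (a : F) ^ p = a := fun a => by
    have h1 := congrArg (ZMod.castHom (dvd_refl p) F) (ZMod.pow_card (a : ZMod p))
    simpa only [map_pow, map_natCast] using h1
  have hnot : ∀ a : ℕ, w ≠ (a : F) := by
    intro a ha
    have h1 : ((a % p) ^ 2 : ℕ) ≡ 2 [MOD p] := by
      rw [← CharP.natCast_eq_natCast F p]
      push_cast
      rw [← CharP.cast_eq_mod F p a, ← ha, hw2]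
    have h2 : a % p < p := Nat.mod_lt _ hp.out.pos
    generalize a % p = r at h1 h2
    rcases hp35 with rfl | rfl <;> interval_cases r <;> revert h1 <;> decide
  have hconj : w ^ p = -w := by
    have h1 : w ^ (p - 1) = -1 := by
      have h2 : (((2 ^ ((p - 1) / 2) : ℕ)) : F) = ((p - 1 : ℕ) : F) := by
        rw [CharP.natCast_eq_natCast F p]
        rcases hp35 with rfl | rfl <;> decide
      rw [Nat.cast_sub hp.out.one_le, CharP.cast_eq_zero F p] at h2
      push_cast at h2
      rw [show p - 1 = 2 * ((p - 1) / 2) by omega, pow_mul, hw2, h2]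
      ring
    calc w ^ p = w ^ (p - 1) * w := by rw [← pow_succ, Nat.sub_add_cancel hp.out.one_le]
      _ = -w := by rw [h1, neg_one_mul]
  refine ⟨w, hF, hw2, hconj, fun i hi j hj h => ?_⟩
  have hd : ∀ k : ℕ, k < p ^ 2 → k / p < p := fun k hk =>
    Nat.div_lt_of_lt_mul (by rwa [← sq])
  have hb : ((i / p : ℕ) : F) = ((j / p : ℕ) : F) := by
    by_contra hne
    set e : F := ((i / p : ℕ) : F) - ((j / p : ℕ) : F) with he
    have he0 : e ≠ 0 := sub_ne_zero.2 hne
    have h1 : w = (((j % p : ℕ) : F) - ((i % p : ℕ) : F)) * e⁻¹ := by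
      rw [phi, phi] at h
      rw [eq_mul_inv_iff_mul_eq₀ he0, he]
      linear_combination h
    have h2 : w ^ p = w := by
      rw [h1, mul_pow, inv_pow, he]
      simp only [sub_pow_char, hcast]
    rw [hconj] at h2
    have h20 : (2 : F) ≠ 0 := Ring.two_ne_zero (by rw [hr]; omega)
    have hw0 : w = 0 := mul_left_cancel₀ h20 (by rw [mul_zero]; linear_combination -h2)
    exact h20 (by rw [← hw2, hw0]; ring)
  have ha : ((i % p : ℕ) : F) = ((j % p : ℕ) : F) := by
    rw [phi, phi, hb] at h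
    exact add_right_cancel h
  have h1 := CharP.natCast_injOn_Iio F p (hd i hi) (hd j hj) hb
  have h2 := CharP.natCast_injOn_Iio F p (Nat.mod_lt i hp.out.pos) (Nat.mod_lt j hp.out.pos) ha
  rw [← Nat.mod_add_div i p, ← Nat.mod_add_div j p, h1, h2]

namespace Valid

variable {w : F} (V : Valid p w)
include V

theorem charP : CharP F p := charP_of_card V.card

theorem surj (c : F) : ∃ i < p ^ 2, phi p w i = c := by
  have h : Function.Bijective fun i : Fin (p ^ 2) => phi p w i :=
    (Fintype.bijective_iff_injective_and_card _).2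
      ⟨fun a b e => Fin.ext (V.inj a a.2 b b.2 e), by rw [Fintype.card_fin, V.card]⟩
  obtain ⟨i, hi⟩ := h.2 c
  exact ⟨i, i.2, hi⟩

theorem phi_conj (i : ℕ) : phi p w (conjC p i) = phi p w i ^ p := by
  haveI := V.charP
  have hcast : ∀ a : ℕ, (a : F) ^ p = a := fun a => by
    have h1 := congrArg (ZMod.castHom (dvd_refl p) F) (ZMod.pow_card (a : ZMod p))
    simpa only [map_pow, map_natCast] using h1
  rw [conjC, phi_pair, phi, add_pow_char, mul_pow, hcast, hcast, V.conj, Nat.cast_mul,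
    Nat.cast_sub hp.out.one_le, CharP.cast_eq_zero F p, CharP.cast_eq_mod F p i]
  push_cast
  ring

/-- The matrix of a code. -/
def lift (_ : Valid p w) (A : CMat) : Matrix (Fin 3) (Fin 3) F := Matrix.of fun i j => phi p w (A i j)

/-- The vector of a code. -/
def liftV (_ : Valid p w) (v : CVec) : Fin 3 → F := fun i => phi p w (v i)

theorem lift_dot (a b : CVec) : phi p w (dotC p a b) = ∑ k, phi p w (a k) * phi p w (b k) := by
  haveI := V.charP
  simp only [dotC, phi_add, phi_mul V.sq, Fin.sum_univ_three]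

theorem lift_mul (A B : CMat) : V.lift (mmC p A B) = V.lift A * V.lift B :=
  Matrix.ext fun i j => V.lift_dot (A i) fun k => B k j

theorem lift_vec (A : CMat) (v : CVec) : V.lift A *ᵥ V.liftV v = V.liftV (mvC p A v) :=
  funext fun i => (V.lift_dot (A i) v).symm

theorem phi_one : phi p w 1 = 1 := by rw [phi_natCast hp.out.one_lt, Nat.cast_one]

theorem phi_zero : phi p w 0 = 0 := by rw [phi_natCast hp.out.pos, Nat.cast_zero]

theorem lift_one : V.lift oneC = 1 := by
  ext i j
  by_cases h : i = j <;> simp [Valid.lift, oneC, h, Matrix.one_apply, V.phi_one, V.phi_zero]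

theorem lift_trace (A : CMat) : (V.lift A).trace = phi p w (trC p A) := by
  haveI := V.charP
  simp only [trC, phi_add, Matrix.trace, Matrix.diag_apply, Fin.sum_univ_three, Valid.lift, Matrix.of_apply]

theorem lift_det (A : CMat) : (V.lift A).det = phi p w (detC p A) := by
  haveI := V.charP
  rw [Matrix.det_fin_three]
  simp only [detC, phi_add, phi_neg V.sq, phi_mul V.sq, Valid.lift, Matrix.of_apply]
  ring

theorem lift_inj {A B : CMat} (hA : ∀ i j, A i j < p ^ 2) (hB : ∀ i j, B i j < p ^ 2)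
    (h : V.lift A = V.lift B) : A = B :=
  funext fun i => funext fun j => V.inj _ (hA i j) _ (hB i j) (congrFun (congrFun h i) j)

theorem gram_of_isUC {A : CMat} (hA : isUC p A) :
    (V.lift A)ᵀ * (V.lift A).map (sigmaE V.card) = 1 := by
  rw [← V.lift_one, ← show mmC p (fun i j => A j i) (fun i j => conjC p (A i j)) = oneC from hA, V.lift_mul]
  congr 1
  ext i j
  simp [Valid.lift, sigmaE_apply, V.phi_conj]

theorem exists_unit {A : CMat} (hA : isUC p A) : ∃ g : GL (Fin 3) F, g.val = V.lift A :=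
  ⟨⟨V.lift A, ((V.lift A).map (sigmaE V.card))ᵀ,
    mul_eq_one_comm.1 (by
      rw [← Matrix.transpose_one, ← V.gram_of_isUC hA, Matrix.transpose_mul, Matrix.transpose_transpose]),
    by rw [← Matrix.transpose_one, ← V.gram_of_isUC hA, Matrix.transpose_mul, Matrix.transpose_transpose]⟩, rfl⟩

theorem mem_GU {g : GL (Fin 3) F} {A : CMat} (hg : g.val = V.lift A) (hA : isUC p A) :
    g ∈ Cfsg.GU 3 F p := by
  intro u v
  show Cfsg.hermForm 3 F p (g.val *ᵥ u) (g.val *ᵥ v) = _
  have hf := isSesq_of_unitary (herm_unitary (n := 3) V.card)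
  rw [sesq_act hf, gram_herm V.card, Matrix.mul_one, hg, V.gram_of_isUC hA, sesq_gram hf u v, gram_herm V.card]

theorem mem_sunit {g : GL (Fin 3) F} {A : CMat} (hg : g.val = V.lift A) (hA : isUC p A)
    (hd : detC p A = 1) : g ∈ sunit 3 F p := by
  refine ⟨V.mem_GU hg hA, ?_⟩
  show Matrix.GeneralLinearGroup.det g = 1
  refine Units.ext ?_
  rw [Matrix.GeneralLinearGroup.val_det_apply, hg, V.lift_det, hd, V.phi_one, Units.val_one]

end Valid

/-- A set of lines, given by representatives. -/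
def lineSet {n : ℕ} {w : F} (V : Valid p w) (reps : Fin n → CVec) : Set (Fin 3 → F) :=
  {v | ∃ (i : Fin n) (c : F), v = c • V.liftV (reps i)}

theorem mem_stab {n : ℕ} {w : F} (V : Valid p w) {reps : Fin n → CVec} {x : GL (Fin 3) F} {A : CMat}
    {π : Fin n → Fin n} {c : Fin n → ℕ} (hx : x.val = V.lift A)
    (hA : ∀ i, mvC p A (reps i) = fun k => mulC p (c i) (reps (π i) k)) :
    x ∈ stabilizing (glToMat (Fin 3) F) (lineSet V reps) := by
  haveI := V.charP
  have hmem : ∀ v ∈ lineSet V reps, x.val *ᵥ v ∈ lineSet V reps := by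
    rintro _ ⟨i, d, rfl⟩
    refine ⟨π i, d * phi p w (c i), ?_⟩
    rw [Matrix.mulVec_smul, hx, V.lift_vec, hA, mul_smul]
    congr 1
    funext k
    simp [Valid.liftV, phi_mul V.sq]
  haveI : Finite (lineSet V reps) := Subtype.finite
  intro v
  refine ⟨hmem v, fun hv => ?_⟩
  obtain ⟨⟨z, hz⟩, he⟩ := (Finite.injective_iff_surjective
    (f := fun z : lineSet V reps => (⟨x.val *ᵥ z.1, hmem _ z.2⟩ : lineSet V reps))).1
    (fun a b e => Subtype.ext (by
      have e' := congrArg (fun z : lineSet V reps => (x⁻¹).val *ᵥ z.1) e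
      simpa only [inv_mulVec_mulVec] using e')) ⟨_, hv⟩
  have h1 := congrArg (fun z : lineSet V reps => (x⁻¹).val *ᵥ z.1) he
  simp only [inv_mulVec_mulVec] at h1
  rw [show glToMat (Fin 3) F x = x.val from rfl, inv_mulVec_mulVec] at h1
  exact h1 ▸ hz

theorem smul_mem_lineSet {n : ℕ} {w : F} (V : Valid p w) {reps : Fin n → CVec} {x : GL (Fin 3) F}
    (hx : x ∈ scalars (Fin 3) F) : x ∈ stabilizing (glToMat (Fin 3) F) (lineSet V reps) := by
  obtain ⟨d, hd⟩ := (mem_scalars_iff x).1 hx
  intro v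
  rw [show glToMat (Fin 3) F x = x.val from rfl, hd, Matrix.smul_mulVec, Matrix.one_mulVec]
  constructor
  · rintro ⟨i, c, rfl⟩
    exact ⟨i, (d : F) * c, (mul_smul _ _ _).symm⟩
  · rintro ⟨i, c, hc⟩
    refine ⟨i, (d : F)⁻¹ * c, ?_⟩
    rw [mul_smul, ← hc, smul_smul, inv_mul_cancel₀ d.ne_zero, one_smul]

/-- A vector off the lines witnesses that a group of determinant-one isometries moves the set. -/
theorem not_mem_stab {n : ℕ} {w : F} (V : Valid p w) {reps : Fin n → CVec} {x : GL (Fin 3) F} {A : CMat}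
    (k : Fin n) (hx : x.val = V.lift A) (hb : ∀ j, mvC p A (reps k) j < p ^ 2)
    (hA : ∀ i, ∀ c : Fin (p ^ 2), mvC p A (reps k) ≠ fun j => mulC p c (reps i j))
    (hb' : ∀ (c i : ℕ), mulC p c i < p ^ 2) :
    x ∉ stabilizing (glToMat (Fin 3) F) (lineSet V reps) := by
  haveI := V.charP
  intro h
  obtain ⟨i, c, hc⟩ := (h _).1 (show V.liftV (reps k) ∈ lineSet V reps from ⟨k, 1, (one_smul _ _).symm⟩)
  obtain ⟨m, hm, rfl⟩ := V.surj c
  refine hA i ⟨m, hm⟩ (funext fun j => V.inj _ (hb j) _ (hb' _ _) ?_)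
  have h1 := congrFun hc j
  rw [show glToMat (Fin 3) F x = V.lift A from hx, V.lift_vec] at h1
  simpa [Valid.liftV, phi_mul V.sq] using h1

theorem mulC_lt (c i : ℕ) : mulC p c i < p ^ 2 := by
  rw [mulC]
  have h1 := Nat.mod_lt ((c % p) * (i % p) + 2 * ((c / p) * (i / p))) hp.out.pos
  have h2 := Nat.mod_lt ((c % p) * (i / p) + (c / p) * (i % p)) hp.out.pos
  calc _ < p + p * (((c % p) * (i / p) + (c / p) * (i % p)) % p) := Nat.add_lt_add_right h1 _
    _ = p * (((c % p) * (i / p) + (c / p) * (i % p)) % p + 1) := by ring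
    _ ≤ p * p := Nat.mul_le_mul_left _ h2
    _ = p ^ 2 := (sq p).symm

theorem addC_lt (c i : ℕ) : addC p c i < p ^ 2 := by
  rw [addC]
  have h1 := Nat.mod_lt (c % p + i % p) hp.out.pos
  have h2 := Nat.mod_lt (c / p + i / p) hp.out.pos
  calc _ < p + p * ((c / p + i / p) % p) := Nat.add_lt_add_right h1 _
    _ = p * ((c / p + i / p) % p + 1) := by ring
    _ ≤ p * p := Nat.mul_le_mul_left _ h2
    _ = p ^ 2 := (sq p).symm

theorem mvC_lt (A : CMat) (v : CVec) (j : Fin 3) : mvC p A v j < p ^ 2 := addC_lt _ _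

theorem mmC_lt (A B : CMat) (i j : Fin 3) : mmC p A B i j < p ^ 2 := addC_lt _ _

end Cfsg.Lib.Linear.Asch.SUThreeTab
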