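import Cfsg.Agent.Lib.Linear.Aschbacher.UnitaryForms
import Cfsg.Agent.Lib.Linear.Aschbacher.Bounds
import Cfsg.Agent.Lib.Linear.UnitaryMax

/-!
# The maximal subgroups of the special unitary group in prime dimension
-/

set_option autoImplicit false
set_option linter.unusedSectionVars false
set_option linter.style.haveILetI false

namespace Cfsg.Lib.Linear.Asch

open Cfsg.Geo Cfsg.Lib.Linear Cfsg.Lib.Linear.Herm
open scoped Matrix MatrixGroups

variable {F : Type*} [Field F] [Fintype F] {r q : ℕ}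

/-- A monomial irreducible group of isometries in odd dimension has orthogonal lines. -/
theorem nondegenerate_decomposition (hF : Fintype.card F = q ^ 2) (hodd : Odd r)
    {H N : Subgroup (GL (Fin r) F)} (hHU : H ≤ Cfsg.GU r F q) (hirr : ActsIrreducibly (matrixSet H))
    {D : Fin r → Submodule F (Fin r → F)} (hD : IsMDecomposition 1 D) (hle : H ≤ decompositionStabilizer D)
    (hN : N ≤ H) (hsep : Separated N D) :
    IsNondegenerateMDecomposition (Cfsg.hermForm r F q) 1 D := by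
  classical
  obtain ⟨b, hb⟩ := decomp_gen hD
  have hU := herm_unitary (n := r) hF
  have hf := isSesq_of_unitary hU
  set f := Cfsg.hermForm r F q
  set σ := sigmaE hF
  have hbmem : ∀ i, b i ∈ D i := fun i => by rw [hb]; exact Submodule.mem_span_singleton_self _
  have huniq : ∀ i j k, f (b i) (b j) ≠ 0 → f (b i) (b k) ≠ 0 → j = k := by
    intro i j k hj hk
    by_contra hne
    obtain ⟨x, hx, a, c, hac, ha, hc⟩ := hsep.2 j k hne
    obtain ⟨e, he⟩ := hsep.1 i x hx
    have h1 : f (x.val *ᵥ b i) (x.val *ᵥ b j) = f (b i) (b j) := hHU (hN hx) _ _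
    have h2 : f (x.val *ᵥ b i) (x.val *ᵥ b k) = f (b i) (b k) := hHU (hN hx) _ _
    rw [he _ (hbmem i), ha _ (hbmem j), hf.smul_left, hf.smul_right, ← mul_assoc] at h1
    rw [he _ (hbmem i), hc _ (hbmem k), hf.smul_left, hf.smul_right, ← mul_assoc] at h2
    have e1 := (mul_eq_right₀ hj).1 h1
    have e2 := (mul_eq_right₀ hk).1 h2
    have he0 : e ≠ 0 := left_ne_zero_of_mul_eq_one e1
    exact hac (σ.injective (mul_left_cancel₀ he0 (e1.trans e2.symm)))
  have hex : ∀ i, ∃ j, f (b i) (b j) ≠ 0 := by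
    intro i
    by_contra hne
    push Not at hne
    obtain ⟨x, hx⟩ := (hU.nondegenerate (b i) (b.ne_zero i)).2
    refine hx ?_
    let L : (Fin r → F) →+ F := AddMonoidHom.mk' (fun v => f (b i) v) (fun u v => hf.add_right _ u v)
    show L x = 0
    rw [← b.sum_repr x, map_sum]
    refine Finset.sum_eq_zero fun j _ => ?_
    show f (b i) (_ • b j) = 0
    rw [hf.smul_right, hne j, mul_zero]
  choose τ hτ using hex
  have hinv : ∀ i, τ (τ i) = i := fun i => huniq (τ i) _ _ (hτ (τ i)) (by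
    rw [hU.herm]
    exact fun h => hτ i (by simpa using h))
  obtain ⟨i0, hi0⟩ : ∃ i, τ i = i := by
    let t : Equiv.Perm (Fin r) := Function.Involutive.toPerm τ hinv
    haveI : Fact (Nat.Prime 2) := ⟨Nat.prime_two⟩
    exact Equiv.Perm.exists_fixed_point_of_prime (α := Fin r) (p := 2) (n := 1)
      (by rw [Fintype.card_fin]; exact fun h => (Nat.not_even_iff_odd.2 hodd) (even_iff_two_dvd.2 h))
      (σ := t) (Equiv.ext fun i => by rw [pow_one, sq, Equiv.Perm.mul_apply, Equiv.Perm.one_apply]; exact hinv i)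
  have hfixed : ∀ i, τ i = i := by
    have hWinv : InvSub H (Submodule.span F (b '' {i | τ i = i})) := by
      intro g hg w hw
      induction hw using Submodule.span_induction with
      | mem w hw =>
        obtain ⟨i, hi, rfl⟩ := hw
        obtain ⟨π, ε, hε, hπ⟩ := decomp_act hb (hle hg)
        rw [hπ]
        refine Submodule.smul_mem _ _ (Submodule.subset_span ⟨π i, ?_, rfl⟩)
        show τ (π i) = π i
        refine huniq (π i) _ _ (hτ _) fun h0 => hτ i ?_
        have h1 : f (g.val *ᵥ b i) (g.val *ᵥ b i) = f (b i) (b i) := hHU hg _ _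
        rw [hπ, hf.smul_left, hf.smul_right, h0, mul_zero, mul_zero] at h1
        rw [show τ i = i from hi]
        exact h1.symm
      | zero => rw [Matrix.mulVec_zero]; exact Submodule.zero_mem _
      | add _ _ _ _ ha hb' => rw [Matrix.mulVec_add]; exact Submodule.add_mem _ ha hb'
      | smul c _ _ ha => rw [Matrix.mulVec_smul]; exact Submodule.smul_mem _ c ha
    rcases irr_iff.1 hirr _ hWinv with h | h
    · exfalso
      refine b.ne_zero i0 ?_
      rw [← Submodule.mem_bot F, ← h]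
      exact Submodule.subset_span ⟨i0, hi0, rfl⟩
    · intro i
      by_contra hi
      have h1 : b i ∈ Submodule.span F (b '' {i | τ i = i}) := h ▸ Submodule.mem_top
      rw [b.mem_span_image, b.repr_self] at h1
      simp [Finsupp.support_single_ne_zero] at h1
      exact hi h1
  refine ⟨hD, fun i w hw hw0 => ?_, fun i j hij u hu v hv => ?_⟩
  · obtain ⟨c, rfl⟩ := Submodule.mem_span_singleton.1 (hb i ▸ hw)
    have hii : f (b i) (b i) ≠ 0 := by have := hτ i; rwa [hfixed i] at this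
    have hc : c ≠ 0 := fun h => hw0 (by rw [h, zero_smul])
    refine ⟨⟨b i, hbmem i, ?_⟩, ⟨b i, hbmem i, ?_⟩⟩
    · rw [hf.smul_right]; exact mul_ne_zero (fun h => hc (by simpa using h)) hii
    · rw [hf.smul_left]; exact mul_ne_zero hc hii
  · obtain ⟨c, rfl⟩ := Submodule.mem_span_singleton.1 (hb i ▸ hu)
    obtain ⟨e, rfl⟩ := Submodule.mem_span_singleton.1 (hb j ▸ hv)
    have h0 : f (b i) (b j) = 0 := by
      by_contra h
      exact hij ((huniq i _ _ (hτ i) h ▸ (hfixed i).symm : i = j))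
    rw [hf.smul_left, hf.smul_right, h0, mul_zero, mul_zero]

/-- The centralizer of a group of isometries is closed under adjoints. -/
theorem adjointClosed_centralizer (hF : Fintype.card F = q ^ 2) {N : Subgroup (GL (Fin r) F)}
    (hN : N ≤ Cfsg.GU r F q) :
    IsAdjointClosedFor (Cfsg.hermForm r F q) (Subalgebra.centralizer F (matrixSet N)) := by
  intro k hk
  set σ := sigmaE hF
  have hU := herm_unitary (n := r) hF
  have hf := isSesq_of_unitary hU
  have hadj : ∀ u v, Cfsg.hermForm r F q (k *ᵥ u) v = Cfsg.hermForm r F q u ((k.map σ)ᵀ *ᵥ v) := by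
    intro u v
    rw [sesq_gram hf, sesq_gram hf, gram_herm hF, Matrix.one_mulVec, Matrix.one_mulVec, map_mulVec',
      Matrix.dotProduct_mulVec u, ← Matrix.transpose_map, Matrix.map_map,
      show (⇑σ ∘ ⇑σ) = id from funext fun a => sigmaE_sigmaE hF a, Matrix.map_id, Matrix.vecMul_transpose]
  refine ⟨(k.map σ)ᵀ, ?_, hadj⟩
  rw [Subalgebra.mem_centralizer_iff]
  rintro _ ⟨g, hg, rfl⟩
  have hg' : ∀ u v, Cfsg.hermForm r F q (g.val *ᵥ u) (g.val *ᵥ v) = Cfsg.hermForm r F q u v := hN hg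
  have hinv : ∀ u v, Cfsg.hermForm r F q u (g.val *ᵥ v) = Cfsg.hermForm r F q ((g⁻¹).val *ᵥ u) v := fun u v => by
    conv_lhs => rw [← mulVec_inv_mulVec g u]
    exact hg' _ _
  have hcomm := (Subalgebra.mem_centralizer_iff F).1 hk _ (mem_matrixSet (inv_mem hg))
  refine Matrix.toLin'.injective (LinearMap.ext fun v => ?_)
  simp only [Matrix.toLin'_apply, ← Matrix.mulVec_mulVec]
  refine sub_eq_zero.1 ?_
  by_contra hne
  obtain ⟨x, hx⟩ := (hU.nondegenerate _ hne).1
  refine hx ?_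
  let L : (Fin r → F) →+ F := AddMonoidHom.mk' (fun w => Cfsg.hermForm r F q x w) (fun a b => hf.add_right _ a b)
  show L _ = 0
  rw [map_sub, sub_eq_zero]
  show Cfsg.hermForm r F q x _ = Cfsg.hermForm r F q x _
  rw [hinv, ← hadj, ← hadj, hinv, Matrix.mulVec_mulVec, Matrix.mulVec_mulVec, hcomm]

theorem perp_inv (hF : Fintype.card F = q ^ 2) {H : Subgroup (GL (Fin r) F)} (hHU : H ≤ Cfsg.GU r F q)
    {W : Submodule F (Fin r → F)} (hW : InvSub H W) : InvSub H (perp hF W) := fun g hg v hv w hw => by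
  have hw' : (g⁻¹).val *ᵥ w ∈ W := hW _ (inv_mem hg) w hw
  rw [hB_apply, ← mulVec_inv_mulVec g w]
  exact (hHU hg _ _).trans ((hB_apply hF r _ _).symm.trans (hv _ hw'))

theorem nondegenerateOn_of_inf (hF : Fintype.card F = q ^ 2) {W : Submodule F (Fin r → F)}
    (hW : W ⊓ perp hF W = ⊥) : IsNondegenerateOn (Cfsg.hermForm r F q) W := fun w hw hw0 => by
  have hU := herm_unitary (n := r) hF
  have h1 : ∃ x ∈ W, Cfsg.hermForm r F q w x ≠ 0 := by
    by_contra hne
    push Not at hne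
    refine hw0 ((Submodule.mem_bot F).1 (hW ▸ Submodule.mem_inf.2 ⟨hw, fun x hx => ?_⟩))
    rw [hB_apply]
    exact hne x hx
  obtain ⟨x, hx, hne⟩ := h1
  exact ⟨⟨x, hx, fun h => hne (by rw [hU.herm, h, map_zero])⟩, ⟨x, hx, hne⟩⟩

/-- A lower bound for the order of `SU₃(q)`. -/
theorem le_card_sunit_three (hF : Fintype.card F = q ^ 2) :
    q ^ 3 * ((q ^ 2 - 1) * (q ^ 3 + 1)) ≤ Nat.card (sunit 3 F q) := by
  let d : Cfsg.GU 3 F q →* Fˣ := Matrix.GeneralLinearGroup.det.comp (Cfsg.GU 3 F q).subtype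
  have hker : d.ker.map (Cfsg.GU 3 F q).subtype = sunit 3 F q := by
    ext g
    constructor
    · rintro ⟨x, hx, rfl⟩
      exact ⟨x.2, hx⟩
    · rintro ⟨h1, h2⟩
      exact ⟨⟨g, h1⟩, h2, rfl⟩
  have h1 : Nat.card (sunit 3 F q) = Nat.card d.ker := by
    rw [← hker]
    exact Nat.card_congr (Subgroup.equivMapOfInjective _ _ (Subgroup.subtype_injective _)).toEquiv.symm
  have hrange : d.range ≤ (powMonoidHom (q + 1) : Fˣ →* Fˣ).ker := by
    rintro _ ⟨g, rfl⟩
    rw [MonoidHom.mem_ker, powMonoidHom_apply]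
    refine Units.ext ?_
    rw [Units.val_pow_eq_pow_val, Units.val_one]
    exact det_GU_pow hF g
  have h2 : Nat.card (Cfsg.GU 3 F q) ≤ Nat.card (sunit 3 F q) * (q + 1) := by
    rw [h1, ← Subgroup.card_mul_index d.ker, Subgroup.index_ker, ← card_norm_one hF]
    exact Nat.mul_le_mul_left _ (Subgroup.card_le_of_le hrange)
  rw [card_GU hF] at h2
  refine Nat.le_of_mul_le_mul_right (le_of_eq_of_le ?_ h2) (Nat.succ_pos q)
  simp [Finset.prod_range_succ, show Even 2 by decide, show ¬ Even 1 by decide]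
  ring

/-- The maximal subgroups of `SU` in prime dimension `r ≥ 3` under size bounds. -/
theorem unitary_cases_general (hF : Fintype.card F = q ^ 2) (hr : r.Prime) (hr3 : 3 ≤ r)
    (hbound : r.factorial * Fintype.card F ^ r < Nat.card (sunit r F q))
    (hseven : r ^ 7 < Nat.card (sunit r F q))
    {H : Subgroup (GL (Fin r) F)} (hH : IsMaximalIn (sunit r F q) H) :
    (∃ W : Submodule F (Fin r → F), W ≠ ⊥ ∧ IsTotallySingularFor (Cfsg.hermForm r F q) W ∧
      H = subspaceStabilizer W ⊓ sunit r F q) ∨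
    (∃ W : Submodule F (Fin r → F), W ≠ ⊥ ∧ IsNondegenerateOn (Cfsg.hermForm r F q) W ∧
      2 * Module.finrank F W < r ∧ H = subspaceStabilizer W ⊓ sunit r F q) ∨
    (∃ D : Fin r → Submodule F (Fin r → F), IsNondegenerateMDecomposition (Cfsg.hermForm r F q) 1 D ∧
      H = decompositionStabilizer D ⊓ sunit r F q) ∨
    (∃ K, IsFieldSubalgebra r K ∧ IsAdjointClosedFor (Cfsg.hermForm r F q) K ∧
      H = subalgebraNormalizer K ⊓ sunit r F q ∧ ∃ N ≤ H, K = Subalgebra.centralizer F (matrixSet N)) ∨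
    (∃ (F₀ : Subfield F) (s : ℕ) (P : GL (Fin r) F), s.Prime ∧ Odd s ∧ Fintype.card F = Nat.card F₀ ^ s ∧
      IsFormRationalStructure (Cfsg.hermForm r F q) F₀ 1 P ∧ H = subfieldSubgroup F₀ P ⊓ sunit r F q) ∨
    (Odd q ∧ ∃ (F₀ : Subfield F) (P : GL (Fin r) F), Fintype.card F = Nat.card F₀ ^ 2 ∧
      IsFormRationalStructure (Cfsg.hermForm r F q) F₀ 1 P ∧ H = subfieldSubgroup F₀ P ⊓ sunit r F q) ∨
    (∃ (p e : ℕ) (R : Subgroup (GL (Fin r) F)), p.Prime ∧ CharP F p ∧ q ^ 2 = p ^ e ∧ Even e ∧ e ∣ r - 1 ∧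
      orderOf (p : ZMod r) = e ∧ IsSymplecticTypeGroup r R ∧ ActsAbsolutelyIrreducibly (matrixSet R) ∧
      R ≤ Cfsg.GU r F q ∧ Nat.card R = r ^ 3 ∧ Nat.card (Subgroup.center R) = r ∧
      H = subgroupNormalizer R ⊓ sunit r F q ∧ ∃ c x y z, Extra r R c x y z) ∨
    InUnitaryResidualClass H := by
  classical
  have hodd : Odd r := hr.odd_of_ne_two (by omega)
  haveI := Fact.mk hr
  haveI : NeZero r := ⟨hr.ne_zero⟩
  haveI : Nonempty (Fin r) := ⟨0⟩
  haveI : Finite (Matrix (Fin r) (Fin r) F) := inferInstanceAs (Finite (Fin r → Fin r → F))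
  have hq := two_le_q hF
  have hHU : H ≤ Cfsg.GU r F q := fun g hg => (hH.1.le hg).1
  have hHSL : H ≤ specialLinear (Fin r) F := fun g hg => (hH.1.le hg).2
  have hU := herm_unitary (n := r) hF
  have notle : ∀ M : Subgroup (GL (Fin r) F), Nat.card M < Nat.card (sunit r F q) → ¬ sunit r F q ≤ M :=
    fun M hM hle => not_lt.2 (Subgroup.card_le_of_le hle) hM
  have mkC5 : ∀ {G : Subgroup (GL (Fin r) F)} {F₀ : Subfield F}, F₀ ≠ ⊤ →
      ActsAbsolutelyIrreducibly (matrixSet G) → G ≤ Cfsg.GU r F q →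
      (∀ g ∈ H, ∀ a ∈ G, g * a * g⁻¹ ∈ G) → RealisableOver F₀ (matrixSet G) →
      (∃ (F₀ : Subfield F) (s : ℕ) (P : GL (Fin r) F), s.Prime ∧ Odd s ∧ Fintype.card F = Nat.card F₀ ^ s ∧
        IsFormRationalStructure (Cfsg.hermForm r F q) F₀ 1 P ∧ H = subfieldSubgroup F₀ P ⊓ sunit r F q) ∨
      (Odd q ∧ ∃ (F₀ : Subfield F) (P : GL (Fin r) F), Fintype.card F = Nat.card F₀ ^ 2 ∧
        IsFormRationalStructure (Cfsg.hermForm r F q) F₀ 1 P ∧ H = subfieldSubgroup F₀ P ⊓ sunit r F q) := by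
    intro G F₀ h1 h2 h3 h4 h5
    obtain ⟨F₁, s, P, -, hs, hsq, hc, hP, hle⟩ := unitary_realisable_le hF hodd (by omega) h1 h2 h3 h4 h5
    have heq := eq_inf_of_maximal hH hle (not_sunit_le_subfieldSubgroup hF (by omega) hs hc hsq hP)
    rcases hsq with ho | ⟨rfl, hoq⟩
    · exact Or.inl ⟨F₁, s, P, hs, ho, hc, hP, heq⟩
    · exact Or.inr ⟨hoq, F₁, P, hc, hP, heq⟩
  by_cases hirr : ActsIrreducibly (matrixSet H)
  swap
  · rw [irr_iff] at hirr
    push Not at hirr
    obtain ⟨W, hW, hW0, hW1⟩ := hirr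
    by_cases hsing : W ⊓ perp hF W = ⊥
    · have hdim := finrank_perp hF W
      have hpp : perp hF W ⊓ perp hF (perp hF W) = ⊥ := by rw [UMax.perp_perp, inf_comm]; exact hsing
      by_cases hd : 2 * Module.finrank F W < r
      · exact Or.inr (Or.inl ⟨W, hW0, nondegenerateOn_of_inf hF hsing, hd, eq_inf_of_maximal hH
          (fun g hg => mem_subspaceStabilizer_of_inv (hW g hg)) (not_sunit_le_subspaceStabilizer hF (by omega) hW0 hW1)⟩)
      · obtain ⟨k, hk⟩ := hodd
        have hd' : 2 * Module.finrank F (perp hF W) < r := by omega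
        have hlt : Module.finrank F W < r := by
          have := Submodule.finrank_lt hW1
          rwa [Module.finrank_fin_fun] at this
        have hp0 : perp hF W ≠ ⊥ := fun h => by rw [h, finrank_bot] at hdim; omega
        have hp1 : perp hF W ≠ ⊤ := fun h => by
          rw [h, finrank_top, Module.finrank_fin_fun] at hd'; omega
        exact Or.inr (Or.inl ⟨perp hF W, hp0, nondegenerateOn_of_inf hF hpp, hd', eq_inf_of_maximal hH
          (fun g hg => mem_subspaceStabilizer_of_inv (perp_inv hF hHU hW g hg))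
          (not_sunit_le_subspaceStabilizer hF (by omega) hp0 hp1)⟩)
    · refine Or.inl ⟨W ⊓ perp hF W, hsing, fun u hu v hv => ?_, eq_inf_of_maximal hH
        (fun g hg => mem_subspaceStabilizer_of_inv fun w hw => ⟨hW g hg w hw.1, perp_inv hF hHU hW g hg w hw.2⟩)
        (not_sunit_le_subspaceStabilizer hF (by omega) hsing fun h => hW1 (eq_top_iff.2 (h ▸ inf_le_left)))⟩
      rw [← hB_apply hF]
      exact hu.2 v hv.1 |> fun h => by rw [hB_apply] at h ⊢; exact h
  refine Or.inr (Or.inr ?_)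
  rcases core_cases hr hodd (Fintype.card_fin r) hHSL hirr with ⟨D, hD, hle, N, hN, hsep⟩ |
    ⟨K, hK, hle, N, hN, rfl⟩ | ⟨R, c, x, y, z, hRH, hRn, hR⟩ | ⟨P, hPH, hPn, hperf, hsimple, hnab, hcent, habs⟩
  · exact Or.inl ⟨D, nondegenerate_decomposition hF hodd hHU hirr hD hle hN hsep, eq_inf_of_maximal hH hle
      (notle _ ((card_decompositionStabilizer_le hD).trans_lt hbound))⟩
  · exact Or.inr (Or.inl ⟨_, hK, adjointClosed_centralizer hF (hN.trans hHU), eq_inf_of_maximal hH hle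
      (notle _ ((card_subalgebraNormalizer_le hr (Fintype.card_fin r) hK).trans_lt
        ((Nat.mul_le_mul_right _ (Nat.self_le_factorial r)).trans_lt hbound))), N, hN, rfl⟩)
  · obtain ⟨p, hp⟩ := CharP.exists F
    obtain ⟨f, hpp, hf⟩ := FiniteField.card F p
    haveI := Fact.mk hpp
    have hrp : r ≠ p := fun h => hR.char_ne (by rw [h, CharP.cast_eq_zero])
    have hc0 : c ≠ 0 := hR.prim.ne_zero hr.ne_zero
    have hrdvd : r ∣ p ^ (f : ℕ) - 1 := by
      rw [← hf]
      exact hR.prim.dvd_of_pow_eq_one _ (FiniteField.pow_card_sub_one_eq_one c hc0)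
    have hiff : ∀ d, r ∣ p ^ d - 1 ↔ (p : ZMod r) ^ d = 1 := fun d => by
      rw [← ZMod.natCast_eq_zero_iff, Nat.cast_sub (Nat.one_le_pow d p hpp.pos)]
      push_cast
      exact sub_eq_zero
    set e := orderOf (p : ZMod r) with he
    have hp0 : (p : ZMod r) ≠ 0 := by
      rw [Ne, ZMod.natCast_eq_zero_iff]
      exact fun h => hrp ((Nat.prime_dvd_prime_iff_eq hr hpp).1 h)
    have hef : e ∣ f := orderOf_dvd_of_pow_eq_one ((hiff _).1 hrdvd)
    have he0 : 0 < e := Nat.pos_of_dvd_of_pos hef f.pos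
    have hcpe : c ^ p ^ e = c := by
      obtain ⟨k, hk⟩ := (hiff e).2 (pow_orderOf_eq_one _)
      have h1 : p ^ e = r * k + 1 := by
        have := Nat.one_le_pow e p hpp.pos
        omega
      rw [h1, pow_succ, pow_mul, hR.prim.pow_eq_one, one_pow, one_mul]
    obtain ⟨b, hb⟩ := hR.monomial hr (Fintype.card_fin r)
    by_cases hfe : (f : ℕ) = e
    swap
    · obtain ⟨F₁, hF₁, hmem⟩ := exists_subfield_pow (F := F) p f e hf he0 hef
      have hne : F₁ ≠ ⊤ := fun h => by
        rw [h, Nat.card_congr Subfield.topEquiv.toEquiv, Nat.card_eq_fintype_card, hf] at hF₁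
        exact hfe (Nat.pow_right_injective hpp.two_le hF₁)
      rcases mkC5 hne hR.absIrr (hRH.trans hHU) hRn (realisable_monomial b fun g hg => by
        obtain ⟨π, k, hk⟩ := hb g hg
        exact ⟨π, fun i => c ^ k i, fun i => F₁.pow_mem ((hmem c).2 hcpe) _, hk⟩) with h | h
      · exact Or.inr (Or.inr (Or.inl h))
      · exact Or.inr (Or.inr (Or.inr (Or.inl h)))
    rw [hfe] at hf
    have heven : Even e := by
      have h1 : q ^ 2 = p ^ e := by rw [← hF, hf]
      have hqd : q ∣ p ^ e := h1 ▸ dvd_pow_self q two_ne_zero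
      obtain ⟨k, -, hk⟩ := (Nat.dvd_prime_pow hpp).1 hqd
      rw [hk, ← pow_mul] at h1
      exact ⟨k, by rw [← Nat.pow_right_injective hpp.two_le h1, mul_two]⟩
    refine Or.inr (Or.inr (Or.inr (Or.inr (Or.inl ⟨p, e, R, hpp, hp, by rw [← hF, hf], heven,
      orderOf_dvd_of_pow_eq_one (ZMod.pow_card_sub_one_eq_one hp0), rfl, hR.symp, hR.absIrr, hRH.trans hHU,
      hR.card, hR.card_center, eq_inf_of_maximal hH (fun g hg => Subgroup.mem_normalizer_iff.2
        (map_conj_normal hRn hg)) fun hle => ?_, c, x, y, z, hR⟩))))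
    refine notle _ ?_ (le_inf hle (fun g hg => hg.2) : sunit r F q ≤ subgroupNormalizer R ⊓ specialLinear (Fin r) F)
    exact (card_normalizer_le hr (Fintype.card_fin r) hR).trans_lt hseven
  · by_cases hreal : ∃ F₀ : Subfield F, F₀ ≠ ⊤ ∧ RealisableOver F₀ (matrixSet P)
    · obtain ⟨F₀, h1, h2⟩ := hreal
      rcases mkC5 h1 habs (hPH.trans hHU) hPn h2 with h | h
      · exact Or.inr (Or.inr (Or.inl h))
      · exact Or.inr (Or.inr (Or.inr (Or.inl h)))
    refine Or.inr (Or.inr (Or.inr (Or.inr (Or.inr ⟨P, ⟨hPH, hPn, hperf, hsimple, hnab, hcent, habs,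
      fun F₀ h1 h2 => hreal ⟨F₀, h1, h2⟩⟩, ?_, ?_⟩))))
    · rintro ⟨Q, hQ, hfix⟩
      exact hreal (realisable_of_bilinear hF (by omega) habs (hPH.trans hHU) hQ.polar_bilinear hQ.nondegenerate
        (fixesForm_polar hfix))
    · rintro ⟨g, hg, -⟩
      exact not_alt_odd (by rwa [Fintype.card_fin]) hg.bilinear hg.alternating hg.nondegenerate

/-- The maximal subgroups of `SU` in prime dimension `r ≥ 5`, recording how the field arises. -/
theorem unitary_cases_refined (hF : Fintype.card F = q ^ 2) (hr : r.Prime) (hr5 : 5 ≤ r)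
    (hfac : r.factorial < 2 ^ (r * (r - 1) - 2 * r)) (hseven : r ^ 7 < 2 ^ (r * (r - 1)))
    {H : Subgroup (GL (Fin r) F)} (hH : IsMaximalIn (sunit r F q) H) :
    (∃ W : Submodule F (Fin r → F), W ≠ ⊥ ∧ IsTotallySingularFor (Cfsg.hermForm r F q) W ∧
      H = subspaceStabilizer W ⊓ sunit r F q) ∨
    (∃ W : Submodule F (Fin r → F), W ≠ ⊥ ∧ IsNondegenerateOn (Cfsg.hermForm r F q) W ∧
      2 * Module.finrank F W < r ∧ H = subspaceStabilizer W ⊓ sunit r F q) ∨
    (∃ D : Fin r → Submodule F (Fin r → F), IsNondegenerateMDecomposition (Cfsg.hermForm r F q) 1 D ∧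
      H = decompositionStabilizer D ⊓ sunit r F q) ∨
    (∃ K, IsFieldSubalgebra r K ∧ IsAdjointClosedFor (Cfsg.hermForm r F q) K ∧
      H = subalgebraNormalizer K ⊓ sunit r F q ∧ ∃ N ≤ H, K = Subalgebra.centralizer F (matrixSet N)) ∨
    (∃ (F₀ : Subfield F) (s : ℕ) (P : GL (Fin r) F), s.Prime ∧ Odd s ∧ Fintype.card F = Nat.card F₀ ^ s ∧
      IsFormRationalStructure (Cfsg.hermForm r F q) F₀ 1 P ∧ H = subfieldSubgroup F₀ P ⊓ sunit r F q) ∨
    (Odd q ∧ ∃ (F₀ : Subfield F) (P : GL (Fin r) F), Fintype.card F = Nat.card F₀ ^ 2 ∧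
      IsFormRationalStructure (Cfsg.hermForm r F q) F₀ 1 P ∧ H = subfieldSubgroup F₀ P ⊓ sunit r F q) ∨
    (∃ (p e : ℕ) (R : Subgroup (GL (Fin r) F)), p.Prime ∧ CharP F p ∧ q ^ 2 = p ^ e ∧ Even e ∧ e ∣ r - 1 ∧
      orderOf (p : ZMod r) = e ∧ IsSymplecticTypeGroup r R ∧ ActsAbsolutelyIrreducibly (matrixSet R) ∧
      R ≤ Cfsg.GU r F q ∧ Nat.card R = r ^ 3 ∧ Nat.card (Subgroup.center R) = r ∧
      H = subgroupNormalizer R ⊓ sunit r F q) ∨
    InUnitaryResidualClass H := by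
  have hq := two_le_q hF
  have hsize := le_card_sunit (n := r) hF (by omega)
  have h2r : 2 * r ≤ r * (r - 1) := by rw [mul_comm 2 r]; exact Nat.mul_le_mul_left r (by omega)
  have hbound : r.factorial * Fintype.card F ^ r < q ^ (r * (r - 1)) := by
    rw [show Fintype.card F ^ r = q ^ (2 * r) by rw [hF, ← pow_mul],
      show r * (r - 1) = r * (r - 1) - 2 * r + 2 * r from (Nat.sub_add_cancel h2r).symm, pow_add]
    exact Nat.mul_lt_mul_of_pos_right (hfac.trans_le (Nat.pow_le_pow_left hq _)) (pow_pos (by omega) _)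
  rcases unitary_cases_general hF hr (by omega) (hbound.trans_le hsize)
    (hseven.trans_le ((Nat.pow_le_pow_left hq _).trans hsize)) hH with
    h | h | h | h | h | h | ⟨p, e, R, h1, h2, h3, h4, h5, h6, h7, h8, h9, h10, h11, h12, -⟩ | h
  · exact Or.inl h
  · exact Or.inr (Or.inl h)
  · exact Or.inr (Or.inr (Or.inl h))
  · exact Or.inr (Or.inr (Or.inr (Or.inl h)))
  · exact Or.inr (Or.inr (Or.inr (Or.inr (Or.inl h))))
  · exact Or.inr (Or.inr (Or.inr (Or.inr (Or.inr (Or.inl h)))))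
  · exact Or.inr (Or.inr (Or.inr (Or.inr (Or.inr (Or.inr (Or.inl
      ⟨p, e, R, h1, h2, h3, h4, h5, h6, h7, h8, h9, h10, h11, h12⟩))))))
  · exact Or.inr (Or.inr (Or.inr (Or.inr (Or.inr (Or.inr (Or.inr h))))))

/-- The maximal subgroups of `SU` in prime dimension `r ≥ 5`. -/
theorem unitary_cases (hF : Fintype.card F = q ^ 2) (hr : r.Prime) (hr5 : 5 ≤ r)
    (hfac : r.factorial < 2 ^ (r * (r - 1) - 2 * r)) (hseven : r ^ 7 < 2 ^ (r * (r - 1)))
    {H : Subgroup (GL (Fin r) F)} (hH : IsMaximalIn (sunit r F q) H) :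
    (∃ W : Submodule F (Fin r → F), W ≠ ⊥ ∧ IsTotallySingularFor (Cfsg.hermForm r F q) W ∧
      H = subspaceStabilizer W ⊓ sunit r F q) ∨
    (∃ W : Submodule F (Fin r → F), W ≠ ⊥ ∧ IsNondegenerateOn (Cfsg.hermForm r F q) W ∧
      2 * Module.finrank F W < r ∧ H = subspaceStabilizer W ⊓ sunit r F q) ∨
    (∃ D : Fin r → Submodule F (Fin r → F), IsNondegenerateMDecomposition (Cfsg.hermForm r F q) 1 D ∧
      H = decompositionStabilizer D ⊓ sunit r F q) ∨
    (∃ K, IsFieldSubalgebra r K ∧ IsAdjointClosedFor (Cfsg.hermForm r F q) K ∧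
      H = subalgebraNormalizer K ⊓ sunit r F q) ∨
    (∃ (F₀ : Subfield F) (s : ℕ) (P : GL (Fin r) F), s.Prime ∧ Odd s ∧ Fintype.card F = Nat.card F₀ ^ s ∧
      IsFormRationalStructure (Cfsg.hermForm r F q) F₀ 1 P ∧ H = subfieldSubgroup F₀ P ⊓ sunit r F q) ∨
    (Odd q ∧ ∃ (F₀ : Subfield F) (P : GL (Fin r) F), Fintype.card F = Nat.card F₀ ^ 2 ∧
      IsFormRationalStructure (Cfsg.hermForm r F q) F₀ 1 P ∧ H = subfieldSubgroup F₀ P ⊓ sunit r F q) ∨
    (∃ (p e : ℕ) (R : Subgroup (GL (Fin r) F)), p.Prime ∧ CharP F p ∧ q ^ 2 = p ^ e ∧ Even e ∧ e ∣ r - 1 ∧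
      orderOf (p : ZMod r) = e ∧ IsSymplecticTypeGroup r R ∧ ActsAbsolutelyIrreducibly (matrixSet R) ∧
      R ≤ Cfsg.GU r F q ∧ Nat.card R = r ^ 3 ∧ Nat.card (Subgroup.center R) = r ∧
      H = subgroupNormalizer R ⊓ sunit r F q) ∨
    InUnitaryResidualClass H := by
  rcases unitary_cases_refined hF hr hr5 hfac hseven hH with h | h | h | ⟨K, h1, h2, h3, -⟩ | h
  · exact Or.inl h
  · exact Or.inr (Or.inl h)
  · exact Or.inr (Or.inr (Or.inl h))
  · exact Or.inr (Or.inr (Or.inr (Or.inl ⟨K, h1, h2, h3⟩)))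
  · exact Or.inr (Or.inr (Or.inr (Or.inr h)))

end Cfsg.Lib.Linear.Asch
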