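import Cfsg.Agent.Lib.Linear.Aschbacher.NotSL
import Cfsg.Agent.Lib.Linear.PSUSimple
import Cfsg.Agent.Lib.Linear.HermParabolic

/-!
# The special unitary group: size, transvections, irreducibility
-/

set_option autoImplicit false
set_option linter.unusedSectionVars false
set_option linter.style.haveILetI false

namespace Cfsg.Lib.Linear.Asch

open Cfsg.Geo Cfsg.Lib.Linear Cfsg.Lib.Linear.Herm
open scoped Matrix MatrixGroups

variable {F : Type*} [Field F] [Fintype F] {n q : ℕ}

/-- The automorphism `x ↦ x ^ q`. -/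
noncomputable def sigmaE (hF : Fintype.card F = q ^ 2) : F ≃+* F :=
  RingEquiv.ofBijective (frob hF) (Finite.injective_iff_bijective.1 (RingHom.injective _))

theorem sigmaE_apply (hF : Fintype.card F = q ^ 2) (x : F) : sigmaE hF x = x ^ q := frob_apply hF x

theorem sigmaE_sigmaE (hF : Fintype.card F = q ^ 2) (x : F) : sigmaE hF (sigmaE hF x) = x := frob_frob hF x

theorem sigmaE_ne (hF : Fintype.card F = q ^ 2) : sigmaE hF ≠ RingEquiv.refl F := fun h =>
  frob_ne_id hF (RingHom.ext fun x => show sigmaE hF x = x by rw [h]; rfl)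

theorem herm_unitary (hF : Fintype.card F = q ^ 2) :
    IsUnitaryForm (sigmaE hF) (Cfsg.hermForm n F q) where
  ne_refl := sigmaE_ne hF
  involutive := sigmaE_sigmaE hF
  add_left x y v := by simp [Cfsg.hermForm, add_mul, Finset.sum_add_distrib]
  smul_left c x v := by simp [Cfsg.hermForm, Finset.mul_sum, mul_assoc]
  herm v w := by
    simp only [Cfsg.hermForm, map_sum, map_mul]
    refine Finset.sum_congr rfl fun i _ => ?_
    rw [← sigmaE_apply hF (w i), ← sigmaE_apply hF (v i), sigmaE_sigmaE, mul_comm]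
  nondegenerate v hv := by
    obtain ⟨i, hi⟩ := Function.ne_iff.1 hv
    refine ⟨⟨Pi.single i 1, ?_⟩, ⟨Pi.single i 1, ?_⟩⟩
    · rw [Cfsg.hermForm, Finset.sum_eq_single i (fun j _ hj => by simp [hj]) (by simp), Pi.single_eq_same,
        one_mul]
      exact fun h => hi (eq_zero_of_pow_eq_zero h)
    · rw [Cfsg.hermForm, Finset.sum_eq_single i
        (fun j _ hj => by simp [hj, zero_pow (show q ≠ 0 by have := two_le_q hF; omega)]) (by simp),
        Pi.single_eq_same, one_pow, mul_one]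
      exact hi

/-- The special unitary group inside the general linear group. -/
abbrev sunit (n : ℕ) (F : Type*) [Field F] (q : ℕ) : Subgroup (GL (Fin n) F) :=
  Cfsg.GU n F q ⊓ specialLinear (Fin n) F

theorem mem_sunit {g : GL (Fin n) F} (hg : g ∈ sunit n F q) (u v : Fin n → F) :
    Cfsg.hermForm n F q (g.val *ᵥ u) (g.val *ᵥ v) = Cfsg.hermForm n F q u v := hg.1 u v

theorem fixesForm_GU {G : Subgroup (GL (Fin n) F)} (h : G ≤ Cfsg.GU n F q) :
    FixesForm (matrixSet G) (Cfsg.hermForm n F q) := by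
  rintro _ ⟨g, hg, rfl⟩ u v
  exact h hg u v

/-- A lower bound for the order of `SU`. -/
theorem le_card_sunit (hF : Fintype.card F = q ^ 2) (hn : 1 ≤ n) :
    q ^ (n * (n - 1)) ≤ Nat.card (sunit n F q) := by
  classical
  have hq := two_le_q hF
  haveI : Finite (Matrix (Fin n) (Fin n) F) := inferInstanceAs (Finite (Fin n → Fin n → F))
  let d : Cfsg.GU n F q →* Fˣ := Matrix.GeneralLinearGroup.det.comp (Cfsg.GU n F q).subtype
  have hker : d.ker.map (Cfsg.GU n F q).subtype = sunit n F q := by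
    ext g
    constructor
    · rintro ⟨x, hx, rfl⟩
      exact ⟨x.2, hx⟩
    · rintro ⟨h1, h2⟩
      exact ⟨⟨g, h1⟩, h2, rfl⟩
  have h1 : Nat.card (sunit n F q) = Nat.card d.ker := by
    rw [← hker]
    exact Nat.card_congr (Subgroup.equivMapOfInjective _ _ (Subgroup.subtype_injective _)).toEquiv.symm
  have hrange : d.range ≤ (powMonoidHom (q + 1) : Fˣ →* Fˣ).ker := by
    rintro _ ⟨g, rfl⟩
    rw [MonoidHom.mem_ker, powMonoidHom_apply]
    refine Units.ext ?_
    rw [Units.val_pow_eq_pow_val, Units.val_one]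
    exact det_GU_pow hF g
  have h2 : Nat.card (Cfsg.GU n F q) ≤ Nat.card (sunit n F q) * (q + 1) := by
    rw [h1, ← Subgroup.card_mul_index d.ker, Subgroup.index_ker, ← card_norm_one hF]
    exact Nat.mul_le_mul_left _ (Subgroup.card_le_of_le hrange)
  obtain ⟨m, rfl⟩ : ∃ m, n = m + 1 := ⟨n - 1, by omega⟩
  rw [card_GU hF, Finset.prod_range_succ'] at h2
  simp only [zero_add, pow_one, Even.zero, if_true] at h2
  rw [← mul_assoc] at h2
  have h3 := Nat.le_of_mul_le_mul_right h2 (Nat.succ_pos q)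
  refine le_trans ?_ h3
  have h4 : q ^ ((m + 1) * (m + 1 - 1) / 2) ≤
      ∏ i ∈ Finset.range m, (if Even (i + 1) then q ^ (i + 1 + 1) + 1 else q ^ (i + 1 + 1) - 1) := by
    rw [← Finset.sum_range_id, Finset.sum_range_succ', add_zero, ← Finset.prod_pow_eq_pow_sum]
    refine Finset.prod_le_prod' fun i _ => ?_
    have h5 : q ^ (i + 1) * 2 ≤ q ^ (i + 1 + 1) := by
      rw [pow_succ q (i + 1)]
      exact Nat.mul_le_mul_left _ hq
    have h6 : 1 ≤ q ^ (i + 1) := Nat.one_le_pow _ _ (by omega)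
    split_ifs <;> omega
  refine le_trans ?_ (Nat.mul_le_mul_left _ h4)
  rw [← pow_add]
  refine Nat.pow_le_pow_right (by omega) ?_
  obtain ⟨t, ht⟩ := Nat.even_mul_succ_self m
  simp only [Nat.add_sub_cancel]
  rw [show (m + 1) * m = t + t by rw [mul_comm]; exact ht]
  omega

/-- A transvection of `SU` with singular centre. -/
theorem exists_utv (hF : Fintype.card F = q ^ 2) {z : Fin n → F} (hz : Cfsg.hermForm n F q z z = 0)
    {l : F} (hl : l + l ^ q = 0) :
    ∃ g ∈ sunit n F q, (g.val = 1 + l • Matrix.vecMulVec z (fun i => z i ^ q)) ∧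
      ∀ v, g.val *ᵥ v = v + (l * Cfsg.hermForm n F q v z) • z := by
  have hU := herm_unitary (n := n) hF
  have hf := isSesq_of_unitary hU
  have hdot : ∀ v : Fin n → F, (fun i => z i ^ q) ⬝ᵥ v = Cfsg.hermForm n F q v z := fun v =>
    Finset.sum_congr rfl fun i _ => mul_comm _ _
  have ha : (l • fun i => z i ^ q) ⬝ᵥ z = 0 := by rw [smul_dotProduct, hdot, hz, smul_zero]
  have hT : ∀ v, (tv z (l • fun i => z i ^ q) ha).val *ᵥ v = v + (l * Cfsg.hermForm n F q v z) • z := fun v => by
    rw [coe_tv, tvMat_mulVec, smul_dotProduct, hdot, smul_eq_mul]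
  refine ⟨tv z (l • fun i => z i ^ q) ha, ⟨fun u v => ?_, tv_mem_SL z _ ha⟩, ?_, hT⟩
  · rw [Units.coeHom_apply, hT, hT]
    simp only [hf.add_left, hf.smul_left, hf.add_right, hf.smul_right, hz, mul_zero, add_zero, map_mul,
      sigmaE_apply hF l]
    rw [← hU.herm z v]
    linear_combination (Cfsg.hermForm n F q u z * Cfsg.hermForm n F q z v) * hl
  · rw [coe_tv, tvMat, Matrix.vecMulVec_smul]

theorem exists_trace (hF : Fintype.card F = q ^ 2) : ∃ l : F, l ≠ 0 ∧ l + l ^ q = 0 := by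
  obtain ⟨l, h0, h⟩ := exists_trace_zero (frob_ne_id hF) (frob_frob hF)
  exact ⟨l, h0, by rwa [frob_apply] at h⟩

theorem exists_singular (hF : Fintype.card F = q ^ 2) (hn : 2 ≤ n) :
    ∃ z : Fin n → F, z ≠ 0 ∧ Cfsg.hermForm n F q z z = 0 := by
  obtain ⟨x, -, hx0, hx⟩ := exists_iso_ne_zero (frob_ne_id hF) (frob_frob hF) (hB_isSymm hF n) ⊤
    (by rw [finrank_top, Module.finrank_fin_fun]; exact hn)
  exact ⟨x, hx0, by rwa [hB_apply] at hx⟩

/-- `SU` fixes no proper non-zero subspace. -/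
theorem not_sunit_le_subspaceStabilizer (hF : Fintype.card F = q ^ 2) (hn : 2 ≤ n)
    {W : Submodule F (Fin n → F)} (h0 : W ≠ ⊥) (h1 : W ≠ ⊤) :
    ¬ sunit n F q ≤ subspaceStabilizer W := by
  intro hle
  have hU := herm_unitary (n := n) hF
  have hf := isSesq_of_unitary hU
  obtain ⟨l, hl0, hl⟩ := exists_trace hF
  have key : ∀ X : Submodule F (Fin n → F), sunit n F q ≤ subspaceStabilizer X →
      ∀ w ∈ X, ∀ v, Cfsg.hermForm n F q v v = 0 → Cfsg.hermForm n F q w v ≠ 0 → v ∈ X := by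
    intro X hX w hw v hv hwv
    obtain ⟨g, hg, -, hgv⟩ := exists_utv hF hv hl
    have h2 : g.val *ᵥ w ∈ X := (hX hg w).1 hw
    rw [hgv, X.add_mem_iff_right hw] at h2
    exact (Submodule.smul_mem_iff X (mul_ne_zero hl0 hwv)).1 h2
  have sing : ∀ X : Submodule F (Fin n → F), sunit n F q ≤ subspaceStabilizer X → X ≠ ⊤ →
      ∀ e ∈ X, e ≠ 0 → Cfsg.hermForm n F q e e ≠ 0 := by
    intro X hX hX1 e he he0 hee
    obtain ⟨x, hx⟩ := (hU.nondegenerate e he0).1
    obtain ⟨y, hy⟩ := SetLike.exists_not_mem_of_ne_top X hX1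
    have adj : ∀ u, Cfsg.hermForm n F q u e = 1 → u ∈ X := by
      intro u hu
      obtain ⟨t, ht'⟩ := exists_trace_eq (frob_ne_id hF) (frob_frob hF)
        (a := -Cfsg.hermForm n F q u u) (by rw [frob_apply, ← sigmaE_apply hF, map_neg, ← hU.herm u u])
      rw [frob_apply] at ht'
      have ht : Cfsg.hermForm n F q (u + t • e) (u + t • e) = 0 := by
        rw [hf.add_left, hf.add_right, hf.add_right, hf.smul_left, hf.smul_left, hf.smul_right, hf.smul_right,
          hee, hu, hU.herm e u, hu, map_one, sigmaE_apply hF]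
        linear_combination ht'
      have hmem := key X hX e he _ ht (by
        rw [hU.herm, hf.add_left, hf.smul_left, hee, mul_zero, add_zero, hu, map_one]
        exact one_ne_zero)
      exact (X.add_mem_iff_left (X.smul_mem t he)).1 hmem
    have hu0 := adj ((Cfsg.hermForm n F q x e)⁻¹ • x) (by rw [hf.smul_left, inv_mul_cancel₀ hx])
    by_cases hye : Cfsg.hermForm n F q y e = 0
    · refine hy ((X.add_mem_iff_right hu0).1 (adj _ ?_))
      rw [hf.add_left, hf.smul_left, inv_mul_cancel₀ hx, hye, add_zero]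
    · exact hy ((X.smul_mem_iff (inv_ne_zero hye)).1 (adj _ (by rw [hf.smul_left, inv_mul_cancel₀ hye])))
  obtain ⟨e, he0, hee⟩ := exists_singular hF (show 2 ≤ n by omega)
  have heW : e ∉ W := fun h => sing W hle h1 e h he0 hee
  refine sing (perp hF W) (fun g hg => mem_subspaceStabilizer_of_inv fun v hv w hw => ?_) ?_ e
    (fun w hw => ?_) he0 hee
  · have hw' : (g⁻¹).val *ᵥ w ∈ W := (hle (inv_mem hg) w).1 hw
    rw [hB_apply, ← mulVec_inv_mulVec g w, mem_sunit hg, ← hB_apply hF]
    exact hv _ hw'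
  · intro htop
    obtain ⟨w, hw, hw0⟩ := Submodule.exists_mem_ne_zero_of_ne_bot h0
    refine hw0 ((hB_nondegenerate hF n).1 w fun v => ?_)
    exact (show v ∈ perp hF W from htop ▸ Submodule.mem_top) w hw
  · rw [hB_apply, hU.herm]
    by_contra hne
    exact heW (key W hle w hw e hee fun h => hne (by rw [h, map_zero]))

end Cfsg.Lib.Linear.Asch
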