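import Cfsg.Agent.Lib.Linear.Aschbacher.UnitaryBasic
import Cfsg.Agent.Lib.Linear.Aschbacher.Linear

/-!
# Subfield structures inside the unitary group
-/

set_option autoImplicit false
set_option linter.unusedSectionVars false
set_option linter.style.haveILetI false

namespace Cfsg.Lib.Linear.Asch

open Cfsg.Geo Cfsg.Lib.Linear Cfsg.Lib.Linear.Herm
open scoped Matrix MatrixGroups

variable {F : Type*} [Field F] [Fintype F] {n q : ℕ}

theorem gram_herm (hF : Fintype.card F = q ^ 2) :
    gramMatrix (Cfsg.hermForm n F q) = (1 : Matrix (Fin n) (Fin n) F) := by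
  refine Matrix.ext fun i j => ?_
  rw [gramMatrix, Cfsg.hermForm, Finset.sum_eq_single i (fun k _ hk => by simp [hk]) (by simp),
    Pi.single_eq_same, one_mul]
  by_cases h : i = j
  · subst h; simp
  · rw [Pi.single_eq_of_ne h, zero_pow (by have := two_le_q hF; omega), Matrix.one_apply_ne h]

theorem gu_gram (hF : Fintype.card F = q ^ 2) {g : GL (Fin n) F} (hg : g ∈ Cfsg.GU n F q) :
    g.valᵀ * g.val.map (sigmaE hF) = 1 := by
  have h := fixes_gram (isSesq_of_unitary (herm_unitary hF))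
    (S := {g.val}) (fun s hs u v => by rw [Set.mem_singleton_iff.1 hs]; exact hg u v) _ rfl
  rwa [gram_herm hF, Matrix.mul_one] at h

theorem gu_gram' (hF : Fintype.card F = q ^ 2) {g : GL (Fin n) F} (hg : g ∈ Cfsg.GU n F q) :
    g.val.map (sigmaE hF) * g.valᵀ = 1 := mul_eq_one_comm.1 (gu_gram hF hg)

/-- Up to a scalar, only the standard form is fixed by an absolutely irreducible unitary group. -/
theorem gram_unique (hF : Fintype.card F = q ^ 2) {G : Subgroup (GL (Fin n) F)}
    (hG : ActsAbsolutelyIrreducibly (matrixSet G)) (hGU : G ≤ Cfsg.GU n F q) {M : Matrix (Fin n) (Fin n) F}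
    (hM : ∀ x ∈ G, x.valᵀ * M * x.val.map (sigmaE hF) = M) : ∃ c : F, M = c • (1 : Matrix (Fin n) (Fin n) F) := by
  obtain ⟨c, hc⟩ := hG.2 (M.map (sigmaE hF)) (by
    rintro _ ⟨x, hx, rfl⟩
    have h1 : M * x.val.map (sigmaE hF) = x.val.map (sigmaE hF) * M := by
      calc M * x.val.map (sigmaE hF)
          = (x.val.map (sigmaE hF) * x.valᵀ) * (M * x.val.map (sigmaE hF)) := by
            rw [gu_gram' hF (hGU hx), Matrix.one_mul]
        _ = x.val.map (sigmaE hF) * (x.valᵀ * M * x.val.map (sigmaE hF)) := by simp only [Matrix.mul_assoc]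
        _ = _ := by rw [hM x hx]
    have h2 := congrArg (fun z => z.map (sigmaE hF)) h1
    simpa [Matrix.map_mul, Matrix.map_map, Function.comp_def, sigmaE_sigmaE] using h2)
  refine ⟨sigmaE hF c, ?_⟩
  have h3 := congrArg (fun z => z.map (sigmaE hF)) hc
  simp only [Matrix.map_map, Function.comp_def, sigmaE_sigmaE] at h3
  rw [show M = M.map (fun x => x) from (Matrix.map_id' M).symm, h3]
  ext i j
  by_cases hij : i = j <;> simp [hij]

theorem card_fixedField (hF : Fintype.card F = q ^ 2) :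
    Nat.card ((frob hF).eqLocusField (RingHom.id F)) = q := by
  refine Eq.trans (Nat.card_congr (Equiv.subtypeEquivRight fun x => ?_)) (card_fixed hF)
  show frob hF x = x ↔ _
  rw [frob_apply]

theorem mem_fixedField (hF : Fintype.card F = q ^ 2) (x : F) :
    x ∈ (frob hF).eqLocusField (RingHom.id F) ↔ x ^ q = x := by
  rw [RingHom.mem_eqLocusField, RingHom.id_apply, frob_apply]

/-- The index of a subfield fixed pointwise by `x ↦ x ^ q`, if prime, is two. -/
theorem index_two_of_fixed (hF : Fintype.card F = q ^ 2) {F₁ : Subfield F} {s : ℕ} (hs : s.Prime)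
    (hcard : Fintype.card F = Nat.card F₁ ^ s) (hfix : ∀ x ∈ F₁, x ^ q = x) :
    s = 2 ∧ ∀ x, x ^ q = x → x ∈ F₁ := by
  let Fx : Submodule F₁ F :=
    { carrier := {x | x ^ q = x}
      add_mem' := fun {a b} ha hb => by
        show (a + b) ^ q = a + b
        rw [← frob_apply hF, map_add, frob_apply, frob_apply, ha, hb]
      zero_mem' := zero_pow (by have := two_le_q hF; omega)
      smul_mem' := fun c x hx => by
        show ((c : F) * x) ^ q = (c : F) * x
        rw [mul_pow, hfix c c.2, hx] }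
  have h1 : Nat.card Fx = q := (Nat.card_congr (Equiv.subtypeEquivRight fun x => Iff.rfl)).trans (card_fixed hF)
  rw [Module.natCard_eq_pow_finrank (K := F₁)] at h1
  have h2 : 2 ≤ Nat.card F₁ := Finite.one_lt_card
  rw [hF, ← h1, ← pow_mul] at hcard
  have h3 := Nat.pow_right_injective h2 hcard
  set d := Module.finrank F₁ Fx
  have hd1 : d = 1 := by
    rcases hs.eq_one_or_self_of_dvd 2 ⟨d, by rw [← h3, mul_comm]⟩ with h | h
    · omega
    · omega
  refine ⟨by omega, fun x hx => ?_⟩
  rw [hd1, pow_one] at h1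
  have hle : (F₁ : Set F) ⊆ {x | x ^ q = x} := hfix
  have heq : (F₁ : Set F) = {x | x ^ q = x} := Set.eq_of_subset_of_ncard_le hle (by
    rw [← Nat.card_coe_set_eq, ← Nat.card_coe_set_eq]
    exact ((card_fixed hF).trans h1.symm).le) (Set.toFinite _)
  exact (show x ∈ (F₁ : Set F) from heq.symm ▸ hx)

/-- A group normalising an absolutely irreducible unitary group realised over a proper subfield lies in a
subfield group whose structure carries the form. -/
theorem unitary_realisable_le (hF : Fintype.card F = q ^ 2) (hodd : Odd n) (hn : 2 ≤ n)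
    {H G : Subgroup (GL (Fin n) F)} {F₀ : Subfield F} (hF₀ : F₀ ≠ ⊤)
    (hG : ActsAbsolutelyIrreducibly (matrixSet G)) (hGU : G ≤ Cfsg.GU n F q)
    (hn' : ∀ g ∈ H, ∀ a ∈ G, g * a * g⁻¹ ∈ G) (hreal : RealisableOver F₀ (matrixSet G)) :
    ∃ (F₁ : Subfield F) (s : ℕ) (P : GL (Fin n) F), F₁ ≠ ⊤ ∧ s.Prime ∧ (Odd s ∨ (s = 2 ∧ Odd q)) ∧
      Fintype.card F = Nat.card F₁ ^ s ∧ IsFormRationalStructure (Cfsg.hermForm n F q) F₁ 1 P ∧
      H ≤ subfieldSubgroup F₁ P := by
  haveI : Nonempty (Fin n) := ⟨⟨0, by omega⟩⟩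
  obtain ⟨B, hB⟩ := hreal
  obtain ⟨F₁, s, hle, hne, hs, hcard⟩ := exists_prime_index hF₀
  set σ := sigmaE hF with hσdef
  have hσmem : ∀ x ∈ F₁, σ x ∈ F₁ := fun x hx => by rw [hσdef, sigmaE_apply]; exact F₁.pow_mem hx q
  set P₀ : GL (Fin n) F := B⁻¹ with hP₀
  set J : Matrix (Fin n) (Fin n) F := P₀.valᵀ * P₀.val.map σ with hJ
  have hJdet : J.det ≠ 0 := by
    rw [hJ, Matrix.det_mul, Matrix.det_transpose]
    refine mul_ne_zero (Matrix.GeneralLinearGroup.det_ne_zero P₀) ?_
    rw [show (P₀.val.map σ).det = σ P₀.val.det from (RingHom.map_det σ.toRingHom P₀.val).symm]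
    exact fun h => Matrix.GeneralLinearGroup.det_ne_zero P₀ (by simpa using h)
  have hrat : ∀ x ∈ G, ∀ i j, (B.val * x.val * B⁻¹.val) i j ∈ F₁ := fun x hx i j => hle (hB _ (mem_matrixSet hx) i j)
  have hfix : ∀ x ∈ G, (B.val * x.val * B⁻¹.val)ᵀ * J * (B.val * x.val * B⁻¹.val).map σ = J := by
    intro x hx
    have h1 : P₀.val * (B.val * x.val * B⁻¹.val) = x.val * P₀.val := by
      rw [hP₀, ← Matrix.mul_assoc, ← Matrix.mul_assoc, Units.inv_mul, Matrix.one_mul]
    calc (B.val * x.val * B⁻¹.val)ᵀ * J * (B.val * x.val * B⁻¹.val).map σ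
        = (P₀.val * (B.val * x.val * B⁻¹.val))ᵀ * (P₀.val * (B.val * x.val * B⁻¹.val)).map σ := by
          rw [hJ, Matrix.transpose_mul P₀.val, Matrix.map_mul (L := P₀.val)]
          simp only [Matrix.mul_assoc]
      _ = P₀.valᵀ * (x.valᵀ * x.val.map σ) * P₀.val.map σ := by
          rw [h1, Matrix.transpose_mul, Matrix.map_mul]
          simp only [Matrix.mul_assoc]
      _ = J := by rw [hσdef, gu_gram hF (hGU hx), Matrix.mul_one, hJ]
  obtain ⟨i0, j0, h0⟩ : ∃ i j, J i j ≠ 0 := by
    by_contra hne'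
    push Not at hne'
    exact hJdet (by rw [show J = 0 from Matrix.ext hne', Matrix.det_zero])
  obtain ⟨φ, hφ⟩ := LinearMap.exists_leftInverse_of_injective (LinearMap.toSpanSingleton F₁ F (J i0 j0))
    (LinearMap.ker_eq_bot.2 (smul_left_injective F₁ h0))
  have hφ1 : φ (J i0 j0) = 1 := by
    have h1 := LinearMap.congr_fun hφ 1
    simpa using h1
  let ψ : F → F := fun a => ((φ a : F₁) : F)
  have hψl : ∀ (c : F), c ∈ F₁ → ∀ a, ψ (c * a) = c * ψ a := fun c hc a => by
    simp only [ψ]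
    rw [show c * a = (⟨c, hc⟩ : F₁) • a from rfl, map_smul, smul_eq_mul, Subfield.coe_mul]
  have hψs : ∀ (f : Fin n → F), ψ (∑ k, f k) = ∑ k, ψ (f k) := fun f => by
    simp only [ψ, map_sum, AddSubmonoidClass.coe_finsetSum]
  have hψL : ∀ A X : Matrix (Fin n) (Fin n) F, (∀ i j, A i j ∈ F₁) → (A * X).map ψ = A * X.map ψ :=
    fun A X hA => Matrix.ext fun i j => by
      simp only [Matrix.map_apply, Matrix.mul_apply, hψs, hψl _ (hA i _)]
  have hψR : ∀ X C : Matrix (Fin n) (Fin n) F, (∀ i j, C i j ∈ F₁) → (X * C).map ψ = X.map ψ * C :=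
    fun X C hC => Matrix.ext fun i j => by
      simp only [Matrix.map_apply, Matrix.mul_apply, hψs]
      exact Finset.sum_congr rfl fun k _ => by rw [mul_comm, hψl _ (hC k j), mul_comm]
  set M : Matrix (Fin n) (Fin n) F := J.map ψ with hM
  have hMfix : ∀ x ∈ G, (B.val * x.val * B⁻¹.val)ᵀ * M * (B.val * x.val * B⁻¹.val).map σ = M := by
    intro x hx
    set X := B.val * x.val * B⁻¹.val with hX
    have hA : ∀ i j, Xᵀ i j ∈ F₁ := fun i j => hrat x hx j i
    have hC : ∀ i j, X.map σ i j ∈ F₁ := fun i j => hσmem _ (hrat x hx i j)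
    rw [hM, ← hψL _ _ hA, ← hψR _ _ hC, hfix x hx]
  obtain ⟨c, hc⟩ := gram_unique hF hG hGU (M := B.valᵀ * M * B.val.map σ) (fun x hx => by
    have h1 : B.val * x.val = (B.val * x.val * B⁻¹.val) * B.val := by
      simp only [Matrix.mul_assoc, Units.inv_mul, Matrix.mul_one]
    calc x.valᵀ * (B.valᵀ * M * B.val.map σ) * x.val.map σ
        = (B.val * x.val)ᵀ * M * (B.val * x.val).map σ := by
          rw [Matrix.transpose_mul, Matrix.map_mul]; simp only [Matrix.mul_assoc]
      _ = B.valᵀ * ((B.val * x.val * B⁻¹.val)ᵀ * M * (B.val * x.val * B⁻¹.val).map σ) * B.val.map σ := by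
          conv_lhs => rw [h1, Matrix.transpose_mul, Matrix.map_mul]
          simp only [Matrix.mul_assoc]
      _ = B.valᵀ * M * B.val.map σ := by rw [hMfix x hx])
  have hMJ : M = c • J := by
    have hBP : B.val * P₀.val = 1 := by rw [hP₀, Units.mul_inv]
    have h2 := congrArg (fun z => P₀.valᵀ * z * P₀.val.map σ) hc
    simp only [Matrix.mul_smul, Matrix.smul_mul, Matrix.mul_one] at h2
    rw [hJ, ← h2]
    calc M = (B.val * P₀.val)ᵀ * M * (B.val * P₀.val).map σ := by
          rw [hBP, Matrix.transpose_one, Matrix.map_one _ (map_zero σ) (map_one σ), Matrix.one_mul, Matrix.mul_one]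
      _ = _ := by rw [Matrix.transpose_mul, Matrix.map_mul]; simp only [Matrix.mul_assoc]
  have hMmem : ∀ i j, M i j ∈ F₁ := fun i j => (φ (J i j)).2
  have hM1 : M i0 j0 = 1 := by rw [hM, Matrix.map_apply]; simp [ψ, hφ1]
  have hc0 : c ≠ 0 := fun h => by
    rw [hMJ, h, zero_smul] at hM1
    exact zero_ne_one hM1
  set lam := c⁻¹ with hlam
  have hlam0 : lam ≠ 0 := inv_ne_zero hc0
  have hJM : ∀ i j, J i j = lam * M i j := fun i j => by
    rw [hMJ, Matrix.smul_apply, smul_eq_mul, hlam, ← mul_assoc, inv_mul_cancel₀ hc0, one_mul]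
  have hJherm : ∀ i j, J j i = σ (J i j) := fun i j => by
    simp only [hJ, Matrix.mul_apply, Matrix.transpose_apply, Matrix.map_apply, map_sum, map_mul]
    refine Finset.sum_congr rfl fun k _ => ?_
    rw [hσdef, sigmaE_sigmaE, mul_comm]
  set τ := M j0 i0 with hτ
  have hτmem : τ ∈ F₁ := hMmem _ _
  have hτlam : lam * τ = σ lam := by
    rw [hτ, ← hJM, hJherm, hJM, hM1, mul_one]
  have hτσ : τ * σ τ = 1 := by
    have h1 := congrArg σ hτlam
    rw [map_mul, hσdef, sigmaE_sigmaE, ← hσdef] at h1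
    refine mul_left_cancel₀ hlam0 ?_
    rw [mul_one, ← mul_assoc, hτlam, h1]
  have hH : ∀ a : Fˣ, ∀ h ∈ H, h ∈ subfieldSubgroup F₁ (P₀ * Units.map (Matrix.scalar (Fin n) : F →+* _).toMonoidHom a) := by
    intro a h hh
    have h1 : Rat0.RatG F₁ (B * h * B⁻¹) :=
      ratG_mono hle (rat_normalizer hG F₀ B (fun x hx => hB _ (mem_matrixSet hx)) (hn' h hh))
    rw [mem_subfieldSubgroup_iff]
    have hsc : ∀ g : GL (Fin n) F, Commute (Units.map (Matrix.scalar (Fin n) : F →+* _).toMonoidHom a) g := fun g =>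
      (scalars_comm (g := g) ⟨a, rfl⟩).symm
    convert h1 using 1
    rw [mul_inv_rev, hP₀, inv_inv]
    rw [show (Units.map (Matrix.scalar (Fin n) : F →+* _).toMonoidHom a)⁻¹ * B * h *
        (B⁻¹ * Units.map (Matrix.scalar (Fin n) : F →+* _).toMonoidHom a) =
      (Units.map (Matrix.scalar (Fin n) : F →+* _).toMonoidHom a)⁻¹ * (B * h * B⁻¹ *
        Units.map (Matrix.scalar (Fin n) : F →+* _).toMonoidHom a) by group, ← (hsc _).eq, inv_mul_cancel_left]
  have hform : ∀ a : Fˣ, (∀ i j, (a : F) * σ a * J i j ∈ F₁) →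
      IsFormRationalStructure (Cfsg.hermForm n F q) F₁ 1
        (P₀ * Units.map (Matrix.scalar (Fin n) : F →+* _).toMonoidHom a) := by
    intro a ha u v hu hv
    have hf := isSesq_of_unitary (herm_unitary (n := n) hF)
    rw [one_mul]
    have hP : ∀ w, (P₀ * Units.map (Matrix.scalar (Fin n) : F →+* _).toMonoidHom a).val *ᵥ w =
        (a : F) • (P₀.val *ᵥ w) := fun w => by
      rw [mul_mulVec]
      show P₀.val *ᵥ (Matrix.scalar (Fin n) (a : F) *ᵥ w) = _
      rw [Matrix.scalar_apply, ← Matrix.smul_one_eq_diagonal, Matrix.smul_mulVec, Matrix.one_mulVec,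
        Matrix.mulVec_smul]
    rw [hP, hP, hf.smul_left, hf.smul_right, sesq_act hf, gram_herm hF, Matrix.mul_one, ← hσdef, ← hJ, ← mul_assoc]
    simp only [dotProduct, Matrix.mulVec, Function.comp_apply, Finset.mul_sum]
    refine sum_mem fun i _ => sum_mem fun j _ => ?_
    rw [show (a : F) * σ a * (u i * (J i j * σ (v j))) = u i * σ (v j) * ((a : F) * σ a * J i j) by ring]
    exact mul_mem (mul_mem (hu i) (hσmem _ (hv j))) (ha i j)
  by_cases hmove : ∀ x ∈ F₁, x ^ q = x
  · -- F₁ is the fixed field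
    obtain ⟨hs2, hfixmem⟩ := index_two_of_fixed hF hs hcard hmove
    have hσfix : ∀ x ∈ F₁, σ x = x := fun x hx => by rw [hσdef, sigmaE_apply]; exact hmove x hx
    rw [hσfix τ hτmem] at hτσ
    have hsym : ∀ i j, M j i = τ * M i j := fun i j => by
      refine mul_left_cancel₀ hlam0 ?_
      rw [← hJM, hJherm, hJM, map_mul, hσfix _ (hMmem i j), ← hτlam, mul_assoc]
    have hMdet : M.det ≠ 0 := by
      rw [hMJ, Matrix.det_smul]
      exact mul_ne_zero (pow_ne_zero _ hc0) hJdet
    have hτ1 : τ = 1 := by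
      have h1 : Mᵀ = τ • M := Matrix.ext fun i j => by
        rw [Matrix.transpose_apply, hsym, Matrix.smul_apply, smul_eq_mul]
      have h2 := congrArg Matrix.det h1
      rw [Matrix.det_transpose, Matrix.det_smul, Fintype.card_fin] at h2
      have h3 : τ ^ n = 1 := mul_right_cancel₀ hMdet (by rw [← h2, one_mul])
      obtain ⟨k, hk⟩ := hodd
      rw [hk, pow_succ, pow_mul, sq, hτσ, one_pow, one_mul] at h3
      exact h3
    have hlamF : lam ∈ F₁ := hfixmem lam (by
      rw [← sigmaE_apply hF, ← hσdef, ← hτlam, hτ1, mul_one])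
    have hoddq : Odd q := by
      by_contra hev
      have h2 : (2 : F) = 0 := by
        by_contra h2
        have := odd_card_of_two_ne_zero h2
        rw [hF, Nat.odd_pow_iff two_ne_zero] at this
        exact hev this
      have hb : IsBilinearForm fun u v : Fin n → F => u ⬝ᵥ M *ᵥ v :=
        { add_left := fun x y v => add_dotProduct x y _
          smul_left := fun a x v => by simp [smul_dotProduct]
          add_right := fun v x y => by simp [Matrix.mulVec_add, dotProduct_add]
          smul_right := fun a v x => by simp [Matrix.mulVec_smul, dotProduct_smul] }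
      have hswap : ∀ u v : Fin n → F, u ⬝ᵥ M *ᵥ v = v ⬝ᵥ M *ᵥ u := fun u v => by
        have hMt : Mᵀ = M := Matrix.ext fun i j => by rw [Matrix.transpose_apply, hsym, hτ1, one_mul]
        rw [dotProduct_comm, Matrix.dotProduct_mulVec v, ← Matrix.mulVec_transpose, hMt]
      let W : Submodule F (Fin n → F) :=
        { carrier := {v | v ⬝ᵥ M *ᵥ v = 0}
          zero_mem' := by simp
          add_mem' := fun {u v} hu hv => by
            show (u + v) ⬝ᵥ M *ᵥ (u + v) = 0
            rw [hb.add_left, hb.add_right, hb.add_right, hu, hv, hswap v u]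
            linear_combination (u ⬝ᵥ M *ᵥ v) * h2
          smul_mem' := fun a v hv => by
            show (a • v) ⬝ᵥ M *ᵥ (a • v) = 0
            rw [hb.smul_left, hb.smul_right, hv, mul_zero, mul_zero] }
      have hW1 : W ≠ ⊤ := fun htop => not_alt_odd (ι := Fin n) (by rwa [Fintype.card_fin]) hb
        (fun v => (show v ∈ W from htop ▸ Submodule.mem_top)) (fun v hv => by
          have hx : ∃ x, x ⬝ᵥ M *ᵥ v ≠ 0 := by
            by_contra hne'
            push Not at hne'
            refine hMdet (Matrix.exists_mulVec_eq_zero_iff.1 ⟨v, hv, funext fun i => ?_⟩)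
            simpa using hne' (Pi.single i 1)
          exact ⟨hx, hx.imp fun x hx => by rwa [hswap]⟩)
      have hW0 : W ≠ ⊥ := fun hbot => by
        have hinj : Function.Injective fun v : Fin n → F => v ⬝ᵥ M *ᵥ v := fun u v huv => by
          have h1 : u - v ∈ W := by
            show (u - v) ⬝ᵥ M *ᵥ (u - v) = 0
            rw [sub_dotProduct, Matrix.mulVec_sub, dotProduct_sub, dotProduct_sub, hswap v u]
            linear_combination huv + (v ⬝ᵥ M *ᵥ v - u ⬝ᵥ M *ᵥ v) * h2
          rwa [hbot, Submodule.mem_bot, sub_eq_zero] at h1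
        have h1 := Nat.card_le_card_of_injective _ hinj
        rw [Nat.card_fun, Nat.card_eq_fintype_card (α := Fin n), Fintype.card_fin] at h1
        have h2' : Nat.card F ^ 1 < Nat.card F ^ n := Nat.pow_lt_pow_right Finite.one_lt_card (by omega)
        rw [pow_one] at h2'
        omega
      rcases irr_iff.1 hG.1 (W.comap (Matrix.toLin' B.val)) (fun g hg v hv => by
        rw [Submodule.mem_comap, Matrix.toLin'_apply] at hv ⊢
        show (B.val *ᵥ (g.val *ᵥ v)) ⬝ᵥ M *ᵥ (B.val *ᵥ (g.val *ᵥ v)) = 0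
        set X := B.val * g.val * B⁻¹.val with hX
        have e : B.val *ᵥ (g.val *ᵥ v) = X *ᵥ (B.val *ᵥ v) := by
          simp only [hX, Matrix.mulVec_mulVec, Matrix.mul_assoc, Units.inv_mul, Matrix.mul_one]
        have hXσ : X.map σ = X := Matrix.ext fun i j => hσfix _ (hrat g hg i j)
        have h3 := hMfix g hg
        rw [hXσ] at h3
        have h4 : ∀ (X : Matrix (Fin n) (Fin n) F) (w : Fin n → F),
            (X *ᵥ w) ⬝ᵥ M *ᵥ (X *ᵥ w) = w ⬝ᵥ (Xᵀ * M * X) *ᵥ w := fun X w => by
          rw [← Matrix.mulVec_mulVec, ← Matrix.mulVec_mulVec, Matrix.dotProduct_mulVec w, Matrix.vecMul_transpose]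
        rw [e, h4, h3]
        exact hv) with h | h
      · obtain ⟨w, hw, hw0⟩ := Submodule.exists_mem_ne_zero_of_ne_bot hW0
        have : (B⁻¹).val *ᵥ w ∈ W.comap (Matrix.toLin' B.val) := by
          rw [Submodule.mem_comap, Matrix.toLin'_apply, mulVec_inv_mulVec]
          exact hw
        rw [h, Submodule.mem_bot] at this
        exact move_ne_zero _ hw0 this
      · refine hW1 (eq_top_iff.2 fun w _ => ?_)
        have : (B⁻¹).val *ᵥ w ∈ W.comap (Matrix.toLin' B.val) := h ▸ Submodule.mem_top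
        rwa [Submodule.mem_comap, Matrix.toLin'_apply, mulVec_inv_mulVec] at this
    exact ⟨F₁, s, _, hne, hs, Or.inr ⟨hs2, hoddq⟩, hcard, hform 1 (fun i j => by
      rw [Units.val_one, map_one, one_mul, one_mul, hJM]
      exact F₁.mul_mem hlamF (hMmem i j)), hH 1⟩
  · push Not at hmove
    obtain ⟨w, hw, hwσ⟩ := hmove
    have hs2 : s ≠ 2 := fun h2 => hwσ (by
      have h1 : Nat.card F₁ = q := Nat.pow_left_injective two_ne_zero
        (by show Nat.card F₁ ^ 2 = q ^ 2; rw [← hF, hcard, h2])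
      letI := Fintype.ofFinite F₁
      have h2 := FiniteField.pow_card (⟨w, hw⟩ : F₁)
      rw [← Nat.card_eq_fintype_card, h1] at h2
      exact congrArg Subtype.val h2)
    obtain ⟨β, hβmem, hβ0, hβ⟩ : ∃ β ∈ F₁, β ≠ 0 ∧ σ β = τ * β := by
      let bb : F → F := fun c0 => c0 + σ τ * σ c0
      have hbmem : ∀ c0 ∈ F₁, bb c0 ∈ F₁ := fun c0 hc => add_mem hc (mul_mem (hσmem _ hτmem) (hσmem _ hc))
      have hbσ : ∀ c0, σ (bb c0) = τ * bb c0 := fun c0 => by
        simp only [bb, map_add, map_mul, hσdef, sigmaE_sigmaE]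
        rw [← hσdef, mul_add, ← mul_assoc, hτσ, one_mul, add_comm]
      by_cases h1 : bb 1 = 0
      · refine ⟨bb w, hbmem w hw, fun h2 => hwσ ?_, hbσ w⟩
        have e : σ τ = -1 := by
          simp only [bb, map_one, mul_one] at h1
          linear_combination h1
        simp only [bb, e, neg_one_mul, ← sub_eq_add_neg, sub_eq_zero] at h2
        rw [← sigmaE_apply hF, ← hσdef]
        exact h2.symm
      · exact ⟨bb 1, hbmem 1 F₁.one_mem, h1, hbσ 1⟩
    have hν0 : β / lam ≠ 0 := div_ne_zero hβ0 hlam0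
    have hτ0 : τ ≠ 0 := left_ne_zero_of_mul_eq_one hτσ
    obtain ⟨a, ha⟩ := exists_norm_eq hF hν0 (by
      rw [← sigmaE_apply hF, ← hσdef, map_div₀, hβ, ← hτlam, mul_comm lam, mul_div_mul_left _ _ hτ0])
    refine ⟨F₁, s, _, hne, hs, Or.inl ((hs.eq_two_or_odd').resolve_left hs2), hcard, hform a (fun i j => ?_), hH a⟩
    rw [hσdef, sigmaE_apply, ← pow_succ', ha, hJM, ← mul_assoc, div_mul_cancel₀ _ hlam0]
    exact F₁.mul_mem hβmem (hMmem i j)

/-- An absolutely irreducible unitary group fixing a bilinear form is realised over the fixed field. -/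
theorem realisable_of_bilinear (hF : Fintype.card F = q ^ 2) (hn : 0 < n) {G : Subgroup (GL (Fin n) F)}
    (hG : ActsAbsolutelyIrreducibly (matrixSet G)) (hGU : G ≤ Cfsg.GU n F q)
    {b : (Fin n → F) → (Fin n → F) → F} (hb : IsBilinearForm b) (hbn : IsNondegenerateForm b)
    (hfix : FixesForm (matrixSet G) b) :
    ∃ F₀ : Subfield F, F₀ ≠ ⊤ ∧ RealisableOver F₀ (matrixSet G) := by
  classical
  set σ := sigmaE hF with hσdef
  haveI : Nonempty (Fin n) := ⟨⟨0, hn⟩⟩
  set M := gramMatrix b with hMdef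
  have hbs := isSesq_of_bilinear hb hbn
  have hMu : IsUnit M.det := isUnit_det_gram hbs
  have hcom : ∀ x ∈ G, x.val * M⁻¹ = M⁻¹ * x.val.map σ := by
    intro x hx
    have h1 : x.valᵀ * M * x.val = M := by
      have := fixes_gram hbs hfix _ (mem_matrixSet hx)
      rwa [show x.val.map (RingEquiv.refl F) = x.val from Matrix.ext fun i j => rfl] at this
    have h2 : M * x.val = x.val.map σ * M := by
      calc M * x.val = (x.val.map σ * x.valᵀ) * (M * x.val) := by rw [hσdef, gu_gram' hF (hGU hx), Matrix.one_mul]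
        _ = x.val.map σ * (x.valᵀ * M * x.val) := by simp only [Matrix.mul_assoc]
        _ = _ := by rw [h1]
    calc x.val * M⁻¹ = M⁻¹ * (M * x.val) * M⁻¹ := by
          rw [← Matrix.mul_assoc M⁻¹, Matrix.nonsing_inv_mul _ hMu, Matrix.one_mul]
      _ = M⁻¹ * x.val.map σ := by
          rw [h2, Matrix.mul_assoc, Matrix.mul_assoc (x.val.map σ), Matrix.mul_nonsing_inv _ hMu, Matrix.mul_one]
  set C := M⁻¹ with hCdef
  have hσσ : ∀ X : Matrix (Fin n) (Fin n) F, (X.map σ).map σ = X := fun X =>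
    Matrix.ext fun i j => by simp [hσdef, sigmaE_sigmaE]
  obtain ⟨μ, hμ⟩ := hG.2 (C * C.map σ) (by
    rintro _ ⟨x, hx, rfl⟩
    have h2 := congrArg (fun z => z.map σ) (hcom x hx)
    simp only [Matrix.map_mul, hσσ] at h2
    rw [Matrix.mul_assoc, ← h2, ← Matrix.mul_assoc, ← hcom x hx, Matrix.mul_assoc])
  have hCu : IsUnit C.det := Matrix.isUnit_nonsing_inv_det _ hMu
  have hμ0 : μ ≠ 0 := by
    rintro rfl
    have h1 := congrArg Matrix.det hμ
    rw [zero_smul, Matrix.det_zero, Matrix.det_mul,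
      show (C.map σ).det = σ C.det from (RingHom.map_det σ.toRingHom C).symm] at h1
    simp [hCu.ne_zero] at h1
  have hμfix : μ ^ q = μ := by
    have hCC : C.map σ * C = μ • (1 : Matrix (Fin n) (Fin n) F) := by
      have h1 : C * (μ⁻¹ • C.map σ) = 1 := by
        rw [Matrix.mul_smul, hμ, smul_smul, inv_mul_cancel₀ hμ0, one_smul]
      have h2 := congrArg (fun z => μ • z) (mul_eq_one_comm.1 h1)
      simpa [Matrix.smul_mul, smul_smul, mul_inv_cancel₀ hμ0] using h2
    have h3 : C.map σ * C = σ μ • (1 : Matrix (Fin n) (Fin n) F) := by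
      have h2 := congrArg (fun z => z.map σ) hμ
      simp only [Matrix.map_mul, hσσ] at h2
      rw [h2]
      ext i j
      by_cases hij : i = j <;> simp [hij]
    rw [hCC] at h3
    have h4 := congrFun (congrFun h3 ⟨0, hn⟩) ⟨0, hn⟩
    simp only [Matrix.smul_apply, Matrix.one_apply_eq, smul_eq_mul, mul_one] at h4
    rw [← sigmaE_apply hF, ← hσdef]
    exact h4.symm
  obtain ⟨a, ha⟩ := exists_norm_eq hF hμ0 hμfix
  set C' := (a : F)⁻¹ • C with hC'
  have hC2 : C' * C'.map σ = 1 := by
    have h1 : C'.map σ = σ ((a : F)⁻¹) • C.map σ := Matrix.ext fun i j => by simp [hC']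
    rw [h1, hC', Matrix.smul_mul, Matrix.mul_smul, smul_smul, hμ, smul_smul, map_inv₀, ← mul_inv, hσdef,
      sigmaE_apply, ← pow_succ', ha, inv_mul_cancel₀ hμ0, one_smul]
  let Φ : (Fin n → F) → (Fin n → F) := fun v => C' *ᵥ (σ ∘ v)
  have hσv : ∀ v : Fin n → F, σ ∘ (σ ∘ v) = v := fun v => funext fun i => sigmaE_sigmaE hF (v i)
  have hΦΦ : ∀ v, Φ (Φ v) = v := fun v => by
    simp only [Φ]
    rw [map_mulVec', hσv, Matrix.mulVec_mulVec, hC2, Matrix.one_mulVec]
  have hΦadd : ∀ u v, Φ (u + v) = Φ u + Φ v := fun u v => by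
    simp only [Φ]
    rw [show σ ∘ (u + v) = σ ∘ u + σ ∘ v from funext fun i => map_add σ _ _, Matrix.mulVec_add]
  have hΦsmul : ∀ (t : F) v, Φ (t • v) = σ t • Φ v := fun t v => by
    simp only [Φ]
    rw [show σ ∘ (t • v) = σ t • (σ ∘ v) from funext fun i => map_mul σ _ _, Matrix.mulVec_smul]
  obtain ⟨w, hw⟩ : ∃ w, σ w ≠ w := by
    by_contra h
    push Not at h
    exact sigmaE_ne hF (RingEquiv.ext h)
  have hspan : ⊤ ≤ Submodule.span F {v : Fin n → F | Φ v = v} := fun v _ => by
    have h1 : v + Φ v ∈ {v : Fin n → F | Φ v = v} := by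
      show Φ (v + Φ v) = _
      rw [hΦadd, hΦΦ, add_comm]
    have h2 : w • v + Φ (w • v) ∈ {v : Fin n → F | Φ v = v} := by
      show Φ (w • v + Φ (w • v)) = _
      rw [hΦadd, hΦΦ, add_comm]
    have h3 : (σ w - w) • v = σ w • (v + Φ v) - (w • v + Φ (w • v)) := by
      rw [hΦsmul, smul_add, sub_smul]
      abel
    rw [← Submodule.smul_mem_iff _ (sub_ne_zero.2 hw), h3]
    exact Submodule.sub_mem _ (Submodule.smul_mem _ _ (Submodule.subset_span h1)) (Submodule.subset_span h2)
  let Bs := Module.Basis.ofSpan hspan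
  haveI := FiniteDimensional.fintypeBasisIndex Bs
  have hBcard : Fintype.card ↑((linearIndepOn_empty F (id : (Fin n → F) → Fin n → F)).extend
      (Set.empty_subset {v : Fin n → F | Φ v = v})) = n := by
    rw [← Module.finrank_eq_card_basis Bs, Module.finrank_fin_fun]
  let bb : Module.Basis (Fin n) F (Fin n → F) := Bs.reindex (Fintype.equivFinOfCardEq hBcard)
  have hbbfix : ∀ i, Φ (bb i) = bb i := fun i => by
    rw [Module.Basis.reindex_apply]
    exact Module.Basis.ofSpan_subset hspan ⟨_, rfl⟩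
  refine ⟨(frob hF).eqLocusField (RingHom.id F), fun h => ?_, ?_⟩
  · refine hw ?_
    have h1 : w ∈ (frob hF).eqLocusField (RingHom.id F) := h ▸ Subfield.mem_top w
    rw [mem_fixedField] at h1
    rw [hσdef, sigmaE_apply, h1]
  let P : Matrix (Fin n) (Fin n) F := Matrix.of fun i j => bb j i
  have hPu : IsUnit P := by
    refine Matrix.mulVec_injective_iff_isUnit.1 fun u v huv => ?_
    have hsum : ∀ u, P *ᵥ u = ∑ j, u j • bb j := fun u => funext fun i => by
      simp only [Matrix.mulVec, dotProduct, P, Matrix.of_apply, Finset.sum_apply, Pi.smul_apply, smul_eq_mul]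
      exact Finset.sum_congr rfl fun j _ => mul_comm _ _
    rw [hsum, hsum] at huv
    funext j
    have := congrFun (bb.repr_sum_self u).symm j
    rw [this, huv]
    exact congrFun (bb.repr_sum_self v) j
  obtain ⟨Pu, hPu'⟩ := hPu
  refine ⟨Pu⁻¹, ?_⟩
  rintro _ ⟨x, hx, rfl⟩ i j
  rw [inv_inv, mem_fixedField, ← sigmaE_apply hF, ← hσdef]
  have hCP : C' * P.map σ = P := Matrix.ext fun k l => congrFun (hbbfix l) k
  set X := Pu⁻¹.val * x.val * Pu.val with hX
  have hx' : x.val * C' = C' * x.val.map σ := by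
    rw [hC', Matrix.mul_smul, Matrix.smul_mul, hcom x hx]
  have h1 : P * X = x.val * P := by
    rw [hX, ← hPu', ← Matrix.mul_assoc, ← Matrix.mul_assoc, Units.mul_inv, Matrix.one_mul]
  have h2 : P * X.map σ = P * X := by
    calc P * X.map σ = C' * (P * X).map σ := by
          conv_lhs => rw [← hCP]
          rw [Matrix.map_mul (L := P), Matrix.mul_assoc]
      _ = C' * x.val.map σ * P.map σ := by rw [h1, Matrix.map_mul, Matrix.mul_assoc]
      _ = x.val * P := by rw [← hx', Matrix.mul_assoc, hCP]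
      _ = P * X := h1.symm
  have h3 := congrArg (fun z => Pu⁻¹.val * z) h2
  simp only [← hPu', ← Matrix.mul_assoc, Units.inv_mul, Matrix.one_mul] at h3
  exact congrFun (congrFun h3 i) j

/-- `SU` is realised over no proper subfield carrying the form. -/
theorem not_sunit_le_subfieldSubgroup (hF : Fintype.card F = q ^ 2) (hn : 3 ≤ n) {F₁ : Subfield F} {s : ℕ}
    (hs : s.Prime) (hcard : Fintype.card F = Nat.card F₁ ^ s) (hsq : Odd s ∨ (s = 2 ∧ Odd q))
    {P : GL (Fin n) F} (hP : IsFormRationalStructure (Cfsg.hermForm n F q) F₁ 1 P) :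
    ¬ sunit n F q ≤ subfieldSubgroup F₁ P := by
  intro hle
  set σ := sigmaE hF with hσdef
  obtain ⟨z, hz0, hz⟩ := exists_singular hF (show 2 ≤ n by omega)
  obtain ⟨l0, hl00, hl0⟩ := exists_trace hF
  set a := P⁻¹.val *ᵥ z with ha
  set J : Matrix (Fin n) (Fin n) F := P.valᵀ * P.val.map σ with hJ
  have hJmem : ∀ i j, J i j ∈ F₁ := fun i j => by
    have h := hP (Pi.single i 1) (Pi.single j 1)
      (fun k => by rcases eq_or_ne k i with rfl | h <;> simp [*, F₁.one_mem, F₁.zero_mem])
      (fun k => by rcases eq_or_ne k j with rfl | h <;> simp [*, F₁.one_mem, F₁.zero_mem])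
    rw [one_mul, sesq_act (isSesq_of_unitary (herm_unitary hF)), gram_herm hF, Matrix.mul_one, ← hσdef, ← hJ] at h
    have e : σ ∘ (Pi.single j (1 : F) : Fin n → F) = Pi.single j 1 := funext fun k => by
      rcases eq_or_ne k j with rfl | h <;> simp [*]
    rwa [e, Matrix.mulVec_single_one, single_dotProduct, one_mul] at h
  have hPa : P.val *ᵥ a = z := mulVec_inv_mulVec P z
  set b : Fin n → F := J *ᵥ (σ ∘ a) with hb
  have ha0 : a ≠ 0 := move_ne_zero _ hz0
  have hJdet : J.det ≠ 0 := by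
    rw [hJ, Matrix.det_mul, Matrix.det_transpose]
    refine mul_ne_zero (Matrix.GeneralLinearGroup.det_ne_zero P) ?_
    rw [show (P.val.map σ).det = σ P.val.det from (RingHom.map_det σ.toRingHom P.val).symm]
    exact fun h => Matrix.GeneralLinearGroup.det_ne_zero P (by simpa using h)
  have hbP : ∀ j, b j = ((fun i => z i ^ q) ᵥ* P.val) j := by
    intro j
    have h1 : (fun i => z i ^ q) = P.val.map σ *ᵥ (σ ∘ a) := by
      rw [← map_mulVec', hPa]
      exact funext fun i => (sigmaE_apply hF _).symm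
    rw [h1, hb, hJ, ← Matrix.mulVec_mulVec, Matrix.mulVec_transpose]
  have hstep : ∀ l : F, l ≠ 0 → l + l ^ q = 0 → ∀ i j, l * a i * b j ∈ F₁ := by
    intro l hl0' hl i j
    obtain ⟨g, hg, hgv, -⟩ := exists_utv hF hz hl
    obtain ⟨c, hc0, hc⟩ := (mem_subfieldSubgroup_iff F₁ P g).1 (hle hg)
    have he : ∀ i j, (P⁻¹ * g * P).val i j = (if i = j then 1 else 0) + l * a i * b j := by
      intro i j
      rw [Units.val_mul, Units.val_mul, hgv, Matrix.mul_add, Matrix.mul_one, Matrix.add_mul, Units.inv_mul,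
        Matrix.mul_smul, Matrix.smul_mul, Matrix.add_apply, Matrix.one_apply, Matrix.smul_apply, smul_eq_mul,
        Matrix.mul_vecMulVec, Matrix.vecMulVec_mul, ← ha, Matrix.vecMulVec_apply, hbP, mul_assoc]
    have hcF : c ∈ F₁ := by
      by_cases hex : ∃ k, a k = 0 ∨ b k = 0
      · obtain ⟨k, hk⟩ := hex
        have := hc k k
        rcases hk with hk | hk <;> simpa [he, hk] using this
      · push Not at hex
        let i0 : Fin n := ⟨0, by omega⟩
        let i1 : Fin n := ⟨1, by omega⟩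
        let i2 : Fin n := ⟨2, by omega⟩
        have h01 : i0 ≠ i1 := by simp [i0, i1, Fin.ext_iff]
        have h02 : i0 ≠ i2 := by simp [i0, i2, Fin.ext_iff]
        have h12 : i1 ≠ i2 := by simp [i1, i2, Fin.ext_iff]
        have e00 := hc i0 i0
        have e01 := hc i0 i1
        have e20 := hc i2 i0
        have e21 := hc i2 i1
        rw [he, if_pos rfl] at e00
        rw [he, if_neg h01, zero_add] at e01
        rw [he, if_neg h02.symm, zero_add] at e20
        rw [he, if_neg h12.symm, zero_add] at e21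
        have hmem := F₁.sub_mem e00 (F₁.div_mem (F₁.mul_mem e01 e20) e21)
        obtain ⟨ha0', hb0'⟩ := hex i0
        obtain ⟨ha2', hb2'⟩ := hex i2
        obtain ⟨ha1', hb1'⟩ := hex i1
        convert hmem using 1
        field_simp
        ring
    have h1 := hc i j
    rw [he, mul_add] at h1
    have h2 : c * (if i = j then (1 : F) else 0) ∈ F₁ := by split_ifs <;> simp [hcF, F₁.zero_mem]
    have h3 : c * (l * a i * b j) ∈ F₁ := by simpa using F₁.sub_mem h1 h2
    have h4 := F₁.mul_mem (F₁.inv_mem hcF) h3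
    rwa [← mul_assoc, inv_mul_cancel₀ hc0, one_mul] at h4
  have hnorm : ∀ l : F, l ≠ 0 → l + l ^ q = 0 → ∀ i, l * (a i * σ (a i)) ∈ F₁ := by
    intro l hl0' hl i
    let J₁ : Matrix (Fin n) (Fin n) F₁ := Matrix.of fun k m => ⟨J k m, hJmem k m⟩
    have hJ₁ : J₁.map F₁.subtype = J := rfl
    have hadj : ∀ k m, J.adjugate k m ∈ F₁ := fun k m => by
      rw [← hJ₁, ← RingHom.mapMatrix_apply, ← RingHom.map_adjugate]
      exact (J₁.adjugate k m).2
    have hdetm : J.det ∈ F₁ := by
      rw [← hJ₁, ← RingHom.mapMatrix_apply, ← RingHom.map_det]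
      exact J₁.det.2
    have h1 : J.adjugate *ᵥ b = J.det • (σ ∘ a) := by
      rw [hb, Matrix.mulVec_mulVec, Matrix.adjugate_mul, Matrix.smul_mulVec, Matrix.one_mulVec]
    have h2 : l * a i * (J.adjugate *ᵥ b) i ∈ F₁ := by
      simp only [Matrix.mulVec, dotProduct, Finset.mul_sum]
      refine sum_mem fun m _ => ?_
      rw [mul_left_comm]
      exact F₁.mul_mem (hadj i m) (hstep l hl0' hl i m)
    rw [h1, Pi.smul_apply, smul_eq_mul, Function.comp_apply] at h2
    have h3 := F₁.mul_mem (F₁.inv_mem hdetm) h2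
    convert h3 using 1
    field_simp
  obtain ⟨i, hi⟩ := Function.ne_iff.1 ha0
  have hN0 : a i * σ (a i) ≠ 0 := mul_ne_zero hi (fun h => hi (by simpa using h))
  have hNfix : (a i * σ (a i)) ^ q = a i * σ (a i) := by
    rw [← sigmaE_apply hF, ← hσdef, map_mul, hσdef, sigmaE_sigmaE, mul_comm]
  have hfixsub : ∀ ν : F, ν ^ q = ν → ν ∈ F₁ := by
    intro ν hν
    rcases eq_or_ne ν 0 with rfl | hν0
    · exact F₁.zero_mem
    have h1 := hnorm (ν * l0) (mul_ne_zero hν0 hl00) (by rw [mul_pow, hν, ← mul_add, hl0, mul_zero]) i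
    have h2 := F₁.div_mem h1 (hnorm l0 hl00 hl0 i)
    convert h2 using 1
    field_simp
    exact (div_self hN0).symm
  have hl0F : l0 ∈ F₁ := by
    have := F₁.div_mem (hnorm l0 hl00 hl0 i) (hfixsub _ hNfix)
    rwa [mul_div_assoc, div_self hN0, mul_one] at this
  have hcardle : Nat.card {x : F // x ^ q = x} ≤ Nat.card F₁ :=
    Nat.card_le_card_of_injective (fun x => (⟨x.1, hfixsub _ x.2⟩ : F₁)) (fun x y h => Subtype.ext (congrArg (fun z : F₁ => (z : F)) h))
  rw [card_fixed hF] at hcardle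
  have hs2 : s = 2 := by
    by_contra hne
    have h3 : 3 ≤ s := by have := hs.two_le; omega
    have h4 : q ^ 3 ≤ Nat.card F₁ ^ s := (Nat.pow_le_pow_left hcardle 3).trans
      (Nat.pow_le_pow_right Nat.card_pos h3)
    rw [← hcard, hF] at h4
    have := two_le_q hF
    exact absurd h4 (not_le.2 (Nat.pow_lt_pow_right (by omega) (by norm_num)))
  obtain ⟨-, hq⟩ : s = 2 ∧ Odd q := hsq.resolve_left (by rw [hs2]; decide)
  have hF₁q : Nat.card F₁ = q := Nat.pow_left_injective two_ne_zero
    (by show Nat.card F₁ ^ 2 = q ^ 2; rw [← hF, hcard, hs2])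
  letI := Fintype.ofFinite F₁
  have h5 := congrArg Subtype.val (FiniteField.pow_card (⟨l0, hl0F⟩ : F₁))
  rw [← Nat.card_eq_fintype_card, hF₁q] at h5
  have h6 : (2 : F) * l0 = 0 := by
    have : l0 ^ q = l0 := h5
    linear_combination hl0 - this
  rcases mul_eq_zero.1 h6 with h | h
  · have hev : Even (Fintype.card F) := by
      rw [Nat.even_iff, ← FiniteField.even_card_iff_char_two]
      haveI : Fact (Nat.Prime 2) := ⟨Nat.prime_two⟩
      haveI : CharP F 2 := (CharP.charP_iff_prime_eq_zero Nat.prime_two).2 (by exact_mod_cast h)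
      exact ringChar.eq F 2
    rw [hF, Nat.even_pow] at hev
    exact (Nat.not_even_iff_odd.2 hq) hev.1
  · exact hl00 h

end Cfsg.Lib.Linear.Asch
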